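import Cfsg.Agent.Lib.H6.Co2M.CA.Data

set_option autoImplicit false
set_option maxRecDepth 100000

/-! # Word lists of the monomial certificate (generated) -/

namespace Cfsg.Agent.Lib.H6.Co2M.CA

open Cfsg.Agent.Lib.H17.CosetCert (BT WT)
open Cfsg.Agent.Lib.H17.MonoCert

/-- the exact relators -/
def exactL : List (List ℕ) := [[4, 4, 4, 4, 4], [2, 4, 2, 4, 2, 4], [0, 0, 0, 0, 0, 0, 0], [2, 2, 2, 2, 2, 2, 2], [2, 4, 2, 4, 2, 5, 5, 5, 5], [0, 5, 0, 5, 0, 5, 0, 5, 0, 5], [0, 2, 0, 3, 0, 2, 1, 3, 0, 3], [2, 5, 2, 5, 2, 5, 2, 5, 2, 5], [0, 4, 0, 4, 0, 4, 0, 4, 0, 4], [0, 6, 0, 6, 0, 6, 0, 6, 0, 6], [6, 6, 6, 6, 6, 6, 6, 6, 6, 6, 6],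 [2, 2, 2, 2, 2, 2, 5, 3, 5, 3, 5], [0, 0, 2, 0, 0, 2, 0, 0, 2, 0, 0, 2], [0, 2, 4, 1, 3, 5, 1, 2, 0, 5, 3, 5], [0, 4, 4, 0, 4, 4, 0, 4, 4, 0, 4, 4], [0, 0, 3, 0, 2, 1, 3, 3, 1, 2, 1, 2], [0, 2, 4, 1, 3, 5, 1, 2, 0, 2, 4, 2], [0, 3, 3, 0, 5, 2, 0, 3, 3, 0, 5, 2], [4, 7, 4, 7, 4, 7, 4, 7, 4, 7, 4, 7], [0, 4, 0, 4, 1, 3, 0, 5, 0, 5, 5, 3], [0, 4, 2, 2, 5, 3, 0, 4, 2, 2, 5, 3], [0, 2, 1, 2, 0, 2, 1, 2, 0, 2, 1, 2], [0, 0, 4, 0, 0, 4, 0, 0, 4, 0, 0, 4], [0, 2, 0, 2, 0, 2, 0, 2, 0, 2, 0, 2], [2, 2, 7, 2, 2, 7, 2, 2, 7, 2, 2, 7], [0, 7, 4, 0, 7, 4, 0, 7, 4, 0, 7, 4], [0, 0, 2, 2, 0, 0, 2, 2, 0, 0, 2, 2], [0, 0, 0, 2, 2, 1, 1, 3, 3, 0,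 0, 2], [0, 0, 0, 3, 4, 3, 3, 0, 2, 2, 2, 0, 4], [0, 4, 3, 4, 2, 5, 1, 2, 2, 5, 3, 5, 5], [0, 0, 4, 3, 4, 6, 6, 6, 2, 7, 7, 2, 5], [0, 0, 0, 2, 2, 5, 3, 1, 2, 5, 3, 1, 5], [0, 4, 7, 2, 4, 0, 5, 7, 1, 6, 1, 6, 4], [0, 0, 0, 5, 5, 0, 4, 0, 5, 1, 4, 1, 3], [0, 2, 2, 1, 4, 1, 6, 3, 1, 6, 5, 3, 3], [0, 2, 1, 4, 6, 4, 2, 1, 5, 7, 1, 3, 7], [0, 0, 3, 3, 3, 0, 3, 1, 2, 0, 3, 0, 3], [0, 0, 0, 0, 3, 1, 1, 2, 2, 0, 0, 3, 3], [0, 0, 0, 5, 3, 5, 5, 0, 0, 3, 1, 3, 5], [0, 0, 3, 4, 1, 4, 4, 3, 3, 3, 0, 0, 5], [0, 4, 0, 4, 0, 4, 0, 4, 0, 5, 5, 5, 5], [0, 0, 3, 3, 3, 5, 5, 2, 2, 4, 0, 5, 3], [2, 4, 2, 4, 2, 5, 2, 4, 2, 4, 2, 5, 5], [0, 2, 2, 0, 2,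 4, 1, 2, 4, 0, 2, 5, 5], [0, 2, 1, 7, 4, 1, 5, 7, 5, 1, 4, 6, 4], [2, 4, 4, 4, 4, 2, 5, 2, 5, 2, 5, 2, 5], [0, 0, 3, 0, 3, 4, 0, 2, 2, 1, 4, 2, 4], [0, 4, 3, 4, 2, 5, 1, 2, 2, 2, 4, 2, 5], [0, 0, 0, 2, 4, 2, 5, 0, 0, 3, 1, 3, 5], [0, 0, 3, 0, 3, 4, 0, 2, 2, 1, 3, 5, 3], [0, 0, 2, 1, 3, 3, 0, 0, 3, 1, 3, 0, 2], [0, 0, 3, 0, 3, 3, 1, 3, 3, 1, 2, 0, 3], [0, 4, 0, 4, 1, 3, 0, 5, 0, 4, 4, 4, 3], [0, 4, 4, 4, 4, 0, 5, 0, 5, 0, 5, 0, 5], [0, 4, 4, 0, 4, 4, 0, 4, 4, 0, 5, 5, 5], [0, 0, 0, 3, 0, 3, 0, 0, 2, 2, 1, 2, 1, 2], [0, 2, 2, 0, 2, 4, 1, 2, 4, 0, 2, 4, 4, 4], [0, 0, 4, 0, 4, 0, 3, 5, 3, 4, 1, 4, 1, 2], [0, 3, 5, 3, 5, 3, 0, 4, 0,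 4, 0, 4, 0, 4], [0, 0, 0, 5, 3, 4, 4, 4, 0, 0, 3, 1, 3, 5], [0, 2, 0, 5, 2, 1, 5, 3, 1, 3, 4, 2, 0, 4], [0, 2, 1, 6, 1, 6, 3, 6, 1, 6, 2, 2, 2, 4], [0, 4, 3, 3, 5, 6, 5, 5, 1, 5, 2, 6, 1, 5], [0, 2, 2, 1, 5, 1, 4, 2, 0, 5, 0, 4, 0, 3], [0, 4, 7, 3, 5, 0, 7, 0, 4, 7, 3, 5, 0, 7], [0, 3, 0, 4, 6, 2, 1, 7, 1, 2, 4, 0, 4, 7], [0, 0, 3, 3, 0, 2, 2, 2, 1, 2, 2, 2, 0, 3], [0, 2, 2, 0, 6, 2, 4, 6, 4, 4, 6, 3, 6, 3], [0, 2, 1, 3, 0, 3, 0, 5, 3, 5, 3, 5, 0, 3], [0, 0, 3, 3, 3, 4, 4, 4, 2, 2, 4, 0, 5, 3], [0, 4, 2, 2, 2, 4, 2, 4, 0, 4, 2, 2, 5, 3], [0, 0, 3, 1, 3, 3, 3, 0, 3, 1, 3, 3, 0, 2], [0, 0, 0, 3, 3, 3, 1, 2, 0, 2, 2, 0, 3, 3], [0,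 3, 4, 0, 3, 5, 5, 0, 3, 4, 0, 3, 5, 5], [0, 2, 0, 3, 0, 2, 1, 4, 2, 4, 2, 4, 0, 3], [0, 5, 7, 1, 5, 7, 1, 6, 1, 5, 6, 6, 3, 7], [0, 3, 5, 1, 4, 2, 5, 1, 5, 1, 3, 3, 5, 3], [0, 2, 4, 0, 5, 2, 0, 3, 5, 0, 4, 1, 4, 4], [0, 0, 4, 4, 3, 0, 3, 5, 2, 0, 4, 1, 3, 3], [0, 0, 3, 4, 1, 4, 4, 2, 2, 2, 2, 0, 0, 5], [0, 0, 2, 1, 3, 0, 3, 0, 0, 3, 0, 2, 0, 3], [0, 0, 2, 2, 2, 2, 0, 3, 1, 2, 0, 3, 0, 3], [0, 0, 2, 5, 0, 3, 1, 3, 0, 5, 3, 5, 5, 3], [0, 0, 3, 3, 3, 0, 2, 0, 2, 2, 1, 2, 1, 3], [0, 0, 0, 3, 0, 2, 2, 5, 3, 4, 3, 3, 3, 4], [0, 0, 0, 0, 4, 0, 2, 4, 3, 0, 2, 4, 3, 3], [0, 3, 6, 5, 6, 2, 2, 0, 3, 6, 5, 6, 2, 2], [0, 0, 4, 0, 7, 2, 1, 2,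 7, 4, 1, 4, 0, 4], [0, 0, 0, 2, 1, 1, 2, 2, 2, 1, 2, 2, 1, 3], [0, 3, 5, 3, 5, 2, 5, 3, 0, 4, 2, 2, 5, 3], [0, 3, 3, 0, 4, 1, 4, 3, 5, 1, 4, 4, 1, 5], [0, 2, 0, 3, 0, 2, 1, 3, 0, 4, 2, 4, 2, 4], [0, 0, 2, 0, 3, 1, 3, 0, 0, 3, 1, 2, 2, 2], [0, 2, 4, 1, 7, 2, 0, 2, 5, 5, 7, 1, 3, 3], [2, 2, 2, 2, 2, 2, 5, 3, 4, 4, 4, 4, 3, 5], [0, 0, 2, 6, 2, 1, 2, 5, 3, 1, 5, 5, 1, 6], [0, 0, 2, 5, 0, 3, 1, 3, 0, 2, 4, 2, 5, 3], [0, 0, 2, 1, 2, 5, 1, 2, 0, 4, 2, 5, 2, 5], [0, 0, 0, 4, 4, 1, 4, 3, 0, 4, 3, 5, 2, 4], [0, 2, 0, 4, 2, 4, 2, 4, 0, 2, 1, 3, 0, 3], [0, 3, 3, 4, 1, 4, 6, 0, 6, 3, 7, 1, 7, 5], [0, 0, 3, 0, 2, 1, 3, 1, 3, 0, 3, 0, 2, 2], [0,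 0, 0, 2, 1, 2, 2, 0, 0, 0, 2, 1, 2, 2], [0, 2, 1, 5, 2, 2, 5, 0, 2, 1, 5, 2, 2, 5], [0, 0, 0, 5, 1, 7, 4, 2, 6, 0, 7, 5, 6, 5], [0, 4, 3, 4, 2, 5, 1, 2, 2, 5, 3, 4, 4, 4], [2, 6, 2, 6, 2, 6, 2, 6, 2, 6, 2, 6, 2, 6], [0, 0, 4, 2, 0, 4, 3, 3, 5, 5, 3, 4, 3, 4], [0, 0, 0, 3, 3, 1, 1, 2, 2, 2, 1, 1, 1, 3], [0, 2, 0, 2, 4, 4, 2, 4, 0, 4, 0, 5, 1, 5], [0, 0, 0, 0, 2, 0, 5, 0, 4, 1, 5, 1, 4, 4], [0, 0, 2, 0, 0, 2, 2, 2, 0, 0, 3, 3, 1, 2], [0, 0, 4, 4, 0, 2, 5, 0, 4, 3, 4, 0, 5, 3], [0, 0, 4, 3, 7, 0, 2, 7, 3, 0, 3, 4, 2, 4], [0, 0, 3, 1, 2, 4, 0, 5, 0, 0, 5, 1, 2, 5], [0, 4, 1, 7, 7, 3, 6, 3, 7, 2, 7, 1, 2, 4], [2, 2, 4, 2, 4, 2, 2, 5,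 2, 5, 2, 5, 2, 5], [0, 0, 0, 2, 0, 2, 4, 3, 5, 0, 0, 0, 2, 5], [0, 0, 4, 3, 7, 0, 2, 7, 3, 0, 3, 3, 5, 3], [0, 2, 1, 5, 5, 2, 2, 4, 0, 5, 1, 2, 1, 3], [0, 0, 4, 2, 2, 4, 3, 4, 1, 2, 4, 0, 4, 4], [0, 2, 0, 3, 0, 5, 3, 5, 3, 5, 1, 3, 0, 3], [0, 0, 2, 4, 2, 5, 2, 0, 0, 5, 2, 4, 3, 3], [0, 3, 4, 4, 3, 5, 0, 5, 0, 5, 1, 4, 4, 3], [0, 0, 0, 0, 5, 1, 3, 3, 3, 1, 2, 2, 5, 2], [0, 2, 4, 3, 0, 5, 5, 0, 2, 4, 3, 0, 5, 5], [0, 0, 2, 0, 3, 0, 2, 2, 1, 2, 0, 2, 1, 2], [0, 2, 1, 2, 0, 2, 2, 2, 1, 3, 3, 3, 1, 3], [0, 2, 2, 5, 6, 6, 2, 7, 7, 3, 3, 5, 7, 2], [0, 3, 0, 3, 4, 1, 3, 3, 4, 4, 1, 5, 2, 2], [0, 2, 4, 2, 4, 2, 0, 5, 0, 5, 0, 5, 0, 5], [0,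 0, 2, 0, 2, 2, 0, 3, 0, 0, 2, 2, 1, 3], [0, 0, 2, 0, 5, 3, 7, 7, 0, 2, 4, 6, 5, 2], [0, 0, 4, 3, 4, 3, 0, 4, 0, 3, 4, 0, 2, 2], [0, 3, 5, 1, 4, 2, 5, 1, 5, 1, 3, 4, 2, 4], [0, 2, 4, 1, 3, 4, 1, 5, 2, 5, 5, 3, 1, 3], [0, 2, 4, 2, 0, 5, 3, 5, 3, 1, 3, 5, 1, 2], [0, 2, 4, 1, 4, 2, 4, 2, 1, 2, 0, 2, 4, 2], [0, 0, 2, 2, 0, 2, 2, 0, 3, 3, 3, 0, 3, 3], [0, 0, 2, 0, 0, 3, 6, 0, 0, 2, 0, 0, 3, 6], [0, 2, 4, 1, 4, 2, 4, 2, 1, 2, 0, 5, 3, 5], [0, 0, 4, 0, 5, 0, 5, 6, 3, 0, 3, 6, 0, 4], [0, 0, 0, 4, 4, 4, 0, 4, 0, 5, 1, 4, 1, 3], [0, 4, 3, 6, 5, 2, 5, 5, 6, 6, 3, 3, 4, 6], [0, 3, 4, 3, 4, 2, 5, 5, 1, 3, 4, 1, 5, 5], [0, 2, 0, 7, 5, 7, 3, 4,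 6, 0, 3, 5, 2, 5], [0, 2, 2, 0, 2, 4, 0, 2, 2, 1, 3, 5, 1, 3], [0, 0, 0, 3, 4, 3, 3, 0, 3, 3, 3, 3, 0, 4], [0, 0, 3, 4, 1, 5, 5, 5, 3, 3, 3, 0, 0, 5], [0, 2, 0, 2, 4, 3, 5, 3, 0, 4, 0, 5, 1, 5], [0, 2, 2, 1, 5, 2, 5, 0, 3, 3, 4, 3, 0, 4], [0, 3, 3, 4, 2, 1, 6, 1, 5, 5, 3, 7, 1, 3], [0, 0, 0, 2, 5, 0, 0, 4, 0, 4, 1, 5, 1, 2], [0, 0, 2, 5, 5, 0, 3, 6, 2, 5, 5, 2, 1, 6], [0, 2, 4, 3, 1, 4, 1, 2, 7, 2, 1, 2, 7, 2], [0, 3, 4, 3, 7, 3, 0, 5, 3, 6, 6, 4, 2, 4], [0, 0, 0, 5, 5, 2, 1, 3, 5, 1, 3, 4, 0, 4], [0, 0, 5, 1, 4, 1, 4, 2, 1, 4, 0, 5, 3, 3], [0, 0, 5, 3, 3, 5, 2, 2, 4, 3, 4, 0, 4, 2], [0, 0, 5, 0, 5, 0, 2, 5, 5, 2, 1, 2, 5, 5], [0,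 3, 4, 3, 7, 3, 0, 5, 3, 6, 6, 3, 5, 3], [0, 2, 1, 2, 5, 2, 2, 0, 2, 1, 2, 5, 2, 2], [0, 0, 2, 2, 2, 2, 5, 5, 2, 2, 4, 0, 5, 3], [0, 0, 2, 2, 2, 0, 3, 0, 2, 0, 0, 3, 0, 3], [0, 2, 0, 5, 5, 1, 2, 1, 5, 2, 4, 0, 2, 5], [0, 4, 3, 4, 2, 5, 1, 3, 3, 3, 3, 4, 2, 5], [0, 0, 5, 7, 1, 1, 5, 7, 7, 5, 1, 7, 5, 2], [0, 2, 2, 2, 6, 3, 1, 6, 1, 3, 0, 5, 1, 5], [0, 0, 3, 5, 2, 2, 4, 1, 2, 0, 5, 3, 4, 2], [0, 0, 0, 5, 5, 1, 2, 5, 3, 4, 3, 4, 2, 5], [0, 0, 2, 5, 3, 1, 2, 0, 3, 5, 0, 4, 4, 2], [0, 4, 2, 4, 1, 3, 4, 4, 3, 4, 1, 3, 4, 3], [0, 4, 4, 0, 5, 5, 5, 0, 4, 4, 0, 5, 5, 5], [0, 4, 0, 4, 1, 3, 4, 1, 4, 1, 4, 1, 5, 3], [0, 2, 4, 2, 1, 2, 5, 2,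 0, 5, 2, 5, 5, 2], [0, 4, 6, 6, 3, 4, 7, 7, 4, 2, 7, 7, 5, 2], [0, 0, 5, 2, 4, 3, 3, 0, 0, 5, 3, 5, 5, 2], [0, 0, 0, 0, 4, 2, 0, 2, 1, 1, 4, 3, 5, 3], [0, 3, 7, 0, 5, 7, 7, 3, 4, 2, 2, 6, 1, 3], [0, 3, 0, 3, 0, 3, 0, 3, 0, 3, 0, 3, 0, 3], [0, 0, 5, 2, 5, 5, 2, 4, 1, 3, 3, 4, 1, 2], [0, 0, 7, 2, 2, 2, 6, 5, 5, 7, 3, 3, 6, 2], [0, 2, 1, 2, 2, 0, 2, 2, 2, 0, 3, 3, 1, 2], [0, 0, 0, 3, 1, 1, 6, 1, 6, 3, 6, 0, 3, 6], [0, 0, 0, 3, 3, 3, 1, 3, 1, 1, 2, 2, 1, 2], [0, 3, 4, 2, 2, 7, 1, 6, 2, 1, 2, 6, 4, 2], [8, 8, 8, 8, 8, 8, 8, 8, 8, 8, 8], [6, 8, 6, 8, 6, 8, 6, 8, 6, 8, 6, 3, 1, 1, 3, 1, 3, 1, 4, 4, 3, 4, 7, 9, 7, 9, 7, 9, 7, 9, 7, 9, 7,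 8, 6, 8, 6, 8, 6, 8, 6, 8, 6, 8, 6, 5, 2, 5, 5, 0, 2, 0, 2, 0, 0, 2, 7, 9, 7, 9, 7, 9, 7, 9, 7, 9, 7, 9, 9, 9], [9, 6, 3, 0, 3, 1, 8, 7, 2, 0, 3, 0, 5, 1, 4, 4, 3], [9, 6, 5, 5, 6, 6, 8, 6, 6, 2, 1, 1, 6, 3, 4, 0, 6], [9, 0, 2, 1, 2, 7, 8, 2, 5, 5, 0, 4, 1, 2, 1, 3, 6], [9, 7, 7, 4, 4, 7, 8, 7, 1, 5, 2, 7, 0, 0, 3, 7, 7], [9, 0, 6, 3, 0, 0, 0, 8, 5, 0, 7, 0, 7, 4, 1, 6, 5, 7, 7], [9, 7, 5, 7, 3, 3, 0, 8, 7, 0, 0, 4, 6, 2, 0, 7, 2, 6], [9, 5, 3, 4, 6, 3, 0, 8, 3, 4, 1, 1, 6, 3, 0, 6, 3, 1, 5], [9, 0, 6, 5, 0, 5, 0, 8, 7, 5, 1, 5, 5, 6, 5, 7, 0, 0], [9, 4, 6, 2, 0, 4, 1, 8, 0, 5, 5, 0, 5, 7, 4, 4, 2, 5, 1], [9, 0, 6, 5, 3, 4, 1, 8,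 6, 1, 2, 0, 4, 1, 7, 1, 2, 5, 5], [9, 4, 6, 4, 0, 5, 1, 8, 3, 3, 7, 0, 3, 0, 2, 0, 4, 3, 3], [9, 1, 1, 1, 2, 7, 1, 8, 6, 6, 4, 7, 0, 5, 6, 1, 6, 1, 4], [9, 5, 0, 7, 3, 7, 1, 8, 0, 0, 2, 1, 4, 3, 0, 6, 5, 0], [9, 1, 4, 1, 4, 7, 1, 8, 1, 1, 6, 4, 7, 4, 4, 0, 4, 6], [9, 0, 5, 2, 4, 7, 1, 8, 4, 4, 3, 0, 6, 0, 5, 1, 3, 0, 7], [9, 4, 4, 7, 7, 4, 2, 8, 5, 3, 4, 2, 0, 5, 7, 0, 6, 2, 5, 5], [9, 4, 1, 3, 4, 6, 2, 8, 4, 6, 6, 2, 5, 7, 2, 4, 3, 6], [9, 6, 5, 3, 4, 7, 2, 8, 1, 2, 5, 0, 7, 7, 4, 4, 2, 0, 4], [9, 2, 2, 0, 7, 0, 3, 8, 2, 6, 4, 2, 0, 0, 0, 6, 3, 3, 6], [9, 2, 1, 6, 1, 3, 3, 8, 0, 0, 0, 4, 3, 1, 6, 6, 3, 1, 6], [9, 6, 2, 0, 3, 0,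 4, 8, 7, 0, 0, 5, 2, 5, 0, 4, 0, 0], [9, 6, 5, 2, 5, 1, 4, 8, 7, 4, 3, 5, 5, 0, 4, 3, 3, 1, 2], [9, 0, 6, 2, 6, 1, 4, 8, 1, 4, 7, 1, 2, 5, 0, 3, 1, 1], [9, 1, 2, 7, 5, 2, 4, 8, 7, 2, 7, 0, 4, 1, 3, 5, 7, 7, 1], [9, 6, 4, 7, 0, 0, 5, 8, 1, 5, 5, 6, 5, 3, 1, 3, 7, 4], [9, 3, 7, 5, 2, 0, 5, 8, 7, 2, 5, 3, 6, 4, 3, 7, 7, 5], [9, 4, 7, 5, 3, 0, 5, 8, 2, 2, 1, 2, 2, 7, 2, 6, 0, 0, 6], [9, 6, 6, 5, 5, 2, 5, 8, 7, 7, 7, 7, 5, 3, 1, 5, 0, 3], [9, 3, 5, 6, 6, 5, 5, 8, 3, 4, 3, 6, 0, 5, 6, 0, 7, 0, 4, 4], [9, 4, 1, 2, 4, 6, 5, 8, 2, 5, 3, 3, 4, 7, 1, 5, 2, 1, 5], [9, 0, 5, 1, 3, 7, 5, 8, 4, 2, 6, 1, 7, 7, 0, 5, 3, 4, 1], [9, 0, 4, 1, 5, 7,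 5, 8, 5, 5, 6, 0, 3, 1, 3, 5, 7, 1, 2], [9, 1, 2, 2, 6, 4, 6, 8, 7, 3, 6, 1, 3, 7, 5, 1, 1, 6], [9, 5, 1, 2, 1, 3, 7, 8, 0, 7, 4, 0, 7, 1, 7, 3, 6, 2], [9, 3, 6, 5, 2, 4, 7, 8, 5, 1, 3, 5, 5, 6, 6, 1, 4, 3, 0], [9, 5, 0, 4, 3, 4, 7, 8, 3, 0, 2, 2, 5, 1, 4, 4, 2, 5, 6], [9, 4, 1, 1, 6, 5, 7, 8, 5, 6, 2, 0, 2, 4, 7, 4, 4, 0], [9, 4, 3, 4, 4, 7, 7, 8, 2, 1, 4, 0, 2, 4, 6, 6, 6, 6], [9, 6, 5, 1, 5, 3, 0, 0, 8, 7, 0, 4, 0, 5, 0, 2, 2, 4], [9, 0, 0, 6, 1, 5, 0, 0, 8, 7, 0, 2, 2, 5, 2, 0, 4, 7, 2, 2], [9, 2, 2, 0, 4, 7, 0, 0, 8, 7, 1, 1, 6, 5, 1, 3, 3, 6], [9, 2, 0, 3, 5, 7, 0, 0, 8, 3, 3, 6, 1, 4, 7, 1, 1, 4, 1, 5], [9, 2, 0, 7, 5, 0,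 2, 0, 8, 0, 5, 2, 2, 7, 2, 0, 5, 1], [9, 3, 5, 0, 6, 5, 2, 0, 8, 5, 2, 2, 0, 7, 1, 3, 7, 4, 1, 2], [9, 3, 6, 4, 4, 7, 2, 0, 8, 0, 6, 0, 0, 6, 5, 5, 0, 2, 2, 6], [9, 7, 2, 7, 1, 3, 3, 0, 8, 3, 1, 5, 0, 5, 3, 4, 4, 6, 5, 5], [9, 1, 4, 6, 4, 3, 3, 0, 8, 7, 5, 0, 7, 2, 4, 3, 4, 0, 0], [9, 6, 4, 2, 1, 4, 3, 0, 8, 0, 4, 2, 0, 0, 7, 5, 7, 2, 7, 7], [9, 0, 5, 1, 5, 6, 3, 0, 8, 7, 5, 5, 1, 3, 0, 3, 5, 2, 5], [9, 4, 6, 2, 5, 6, 3, 0, 8, 4, 6, 0, 5, 5, 0, 4, 1, 4, 2], [9, 6, 6, 6, 6, 6, 3, 0, 8, 2, 4, 4, 2, 7, 3, 6, 1, 1, 2, 0], [9, 5, 3, 7, 5, 7, 3, 0, 8, 1, 6, 1, 3, 7, 3, 1, 7, 7, 2], [9, 7, 3, 5, 0, 7, 4, 0, 8, 1, 7, 0, 0, 7, 1, 3, 0, 5,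 2, 7], [9, 0, 7, 0, 6, 0, 5, 0, 8, 7, 4, 7, 3, 5, 0, 6, 4, 3, 6, 5], [9, 5, 6, 3, 6, 0, 5, 0, 8, 4, 4, 1, 1, 1, 2, 7, 4, 4, 6, 2], [9, 4, 4, 7, 7, 1, 5, 0, 8, 6, 4, 3, 4, 7, 3, 1, 5, 0], [9, 6, 1, 1, 4, 2, 5, 0, 8, 7, 5, 0, 5, 0, 0, 2, 4, 0, 5], [9, 6, 5, 0, 5, 2, 5, 0, 8, 7, 2, 0, 3, 5, 5, 3, 1, 1, 1], [9, 3, 4, 4, 7, 2, 5, 0, 8, 2, 4, 2, 5, 7, 1, 7, 2, 1, 4], [9, 7, 3, 4, 7, 3, 5, 0, 8, 4, 0, 6, 5, 0, 3, 6, 5], [9, 2, 4, 4, 7, 5, 5, 0, 8, 4, 6, 2, 4, 1, 7, 0, 6, 5, 7], [9, 3, 3, 4, 0, 6, 5, 0, 8, 7, 3, 5, 5, 6, 3, 6, 5, 2, 1], [9, 4, 3, 6, 2, 6, 5, 0, 8, 2, 6, 0, 6, 6, 3, 1, 6, 3, 3], [9, 4, 3, 4, 3, 6, 5, 0, 8, 5, 0, 2, 0, 7,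 2, 6, 6, 0, 5], [9, 6, 6, 5, 3, 6, 5, 0, 8, 2, 2, 7, 7, 1, 3, 0, 2, 7, 4], [9, 0, 3, 1, 1, 7, 5, 0, 8, 7, 4, 7, 2, 0, 0, 3, 7, 5, 6, 0, 5], [9, 1, 2, 2, 5, 7, 5, 0, 8, 3, 5, 1, 3, 6, 0, 3, 0, 0, 0], [9, 7, 5, 2, 4, 1, 6, 0, 8, 0, 6, 2, 0, 7, 5, 1, 2, 1, 5, 5], [9, 0, 0, 2, 6, 3, 6, 0, 8, 1, 6, 6, 2, 5, 1, 2, 7, 0, 4, 3], [9, 2, 4, 3, 6, 3, 6, 0, 8, 3, 1, 6, 6, 3, 3, 4, 6, 3, 3, 6], [9, 6, 5, 6, 6, 1, 7, 0, 8, 0, 0, 4, 7, 1, 1, 2, 2, 1], [9, 4, 2, 1, 7, 1, 7, 0, 8, 1, 5, 3, 6, 2, 5, 6, 0, 3, 6, 3], [9, 5, 2, 5, 7, 1, 7, 0, 8, 4, 7, 0, 5, 2, 7, 7, 4, 6, 2], [9, 7, 7, 1, 1, 2, 1, 1, 8, 0, 2, 4, 0, 7, 7, 7, 3, 0], [9, 6, 5, 2, 6, 3,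 1, 1, 8, 5, 3, 6, 6, 4, 3, 7, 2, 5, 5, 7], [9, 1, 7, 2, 7, 3, 1, 1, 8, 1, 6, 4, 1, 1, 1, 4, 7, 1, 1, 2], [9, 5, 1, 6, 2, 4, 1, 1, 8, 2, 1, 4, 0, 5, 5, 1, 7, 2, 2, 5], [9, 6, 5, 0, 7, 4, 1, 1, 8, 7, 0, 3, 1, 1, 2, 5, 0, 7, 0, 3], [9, 3, 3, 6, 1, 5, 1, 1, 8, 1, 5, 3, 6, 5, 1, 3, 5, 5, 1], [9, 1, 1, 4, 0, 7, 1, 1, 8, 3, 3, 6, 5, 1, 3, 4, 3, 3, 1, 6], [9, 6, 2, 0, 2, 7, 1, 1, 8, 5, 2, 6, 5, 1, 4, 3, 3, 3, 6], [9, 6, 1, 3, 4, 7, 1, 1, 8, 0, 5, 7, 2, 4, 3, 3, 3, 5, 1], [9, 2, 5, 2, 5, 7, 1, 1, 8, 0, 6, 6, 0, 3, 6, 1, 6, 1, 4, 7], [9, 1, 4, 6, 0, 0, 2, 1, 8, 6, 3, 0, 3, 0, 2, 6, 1, 2, 4, 7, 3], [9, 2, 5, 7, 7, 2, 2, 1, 8, 2, 0, 2, 5, 2,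 0, 6, 6, 3, 1, 5], [9, 7, 2, 7, 2, 4, 2, 1, 8, 4, 6, 3, 5, 2, 1, 4, 2, 6, 5], [9, 4, 7, 7, 2, 0, 3, 1, 8, 2, 6, 4, 1, 2, 4, 6, 3, 1], [9, 6, 2, 5, 7, 5, 3, 1, 8, 6, 5, 2, 1, 3, 5, 0, 0, 4, 4], [9, 3, 6, 5, 0, 0, 4, 1, 8, 6, 1, 6, 2, 4, 1, 5, 6, 1, 2, 2], [9, 1, 2, 7, 4, 0, 4, 1, 8, 4, 3, 4, 2, 1, 2, 0, 4, 4, 6], [9, 7, 2, 7, 3, 3, 4, 1, 8, 2, 0, 5, 0, 3, 1, 5, 7, 7, 5, 3], [9, 0, 7, 0, 6, 3, 4, 1, 8, 6, 3, 1, 5, 7, 7, 5, 6, 1, 3], [9, 2, 2, 7, 4, 6, 4, 1, 8, 2, 1, 1, 2, 1, 6, 2, 0, 6, 1, 5], [9, 6, 3, 0, 5, 0, 5, 1, 8, 5, 1, 3, 0, 4, 1, 1, 2, 5, 7, 5], [9, 2, 0, 7, 7, 2, 5, 1, 8, 3, 1, 6, 0, 5, 3, 0, 5, 1, 6, 5], [9, 2, 5, 7, 1,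 6, 5, 1, 8, 6, 1, 2, 1, 1, 6, 5, 0, 6, 2, 7], [9, 6, 1, 6, 4, 6, 5, 1, 8, 4, 2, 1, 2, 0, 4, 6, 5, 5, 2], [9, 5, 6, 1, 3, 7, 5, 1, 8, 4, 1, 5, 3, 6, 1, 1, 7, 3, 7, 2], [9, 0, 7, 4, 3, 7, 5, 1, 8, 3, 0, 7, 1, 1, 2, 2, 4, 7, 5, 0], [9, 1, 4, 1, 7, 1, 6, 1, 8, 7, 3, 6, 1, 7, 5, 6, 6, 5, 6, 2], [9, 0, 5, 2, 7, 1, 6, 1, 8, 2, 0, 7, 4, 6, 6, 4, 0, 2, 7], [9, 0, 6, 5, 7, 1, 6, 1, 8, 1, 3, 4, 7, 1, 5, 1, 1, 2, 4], [9, 0, 4, 6, 2, 5, 6, 1, 8, 2, 5, 1, 1, 3, 4, 7, 2, 7, 1, 2], [9, 2, 2, 6, 4, 1, 7, 1, 8, 3, 0, 3, 6, 1, 4, 2, 5, 2, 1], [9, 4, 1, 2, 5, 3, 7, 1, 8, 7, 0, 5, 0, 4, 0, 7, 0, 3, 6, 1], [9, 4, 7, 5, 5, 3, 7, 1, 8, 2, 0, 7, 2, 7, 7,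 0, 0, 6, 2, 6], [9, 3, 5, 1, 1, 4, 7, 1, 8, 2, 0, 3, 1, 7, 3, 1, 6, 5, 0, 4], [9, 3, 1, 3, 3, 4, 7, 1, 8, 4, 3, 6, 3, 6, 0, 4, 0, 3, 3], [9, 0, 7, 0, 6, 4, 7, 1, 8, 5, 3, 0, 0, 4, 0, 6, 5, 2, 0], [9, 5, 0, 7, 3, 0, 0, 2, 8, 7, 4, 3, 1, 2, 0, 5, 6, 0, 3, 0], [9, 4, 7, 1, 1, 2, 0, 2, 8, 3, 4, 4, 0, 3, 4, 6, 4, 6, 6, 1], [9, 0, 6, 5, 2, 2, 0, 2, 8, 2, 2, 1, 5, 1, 7, 2, 7, 2, 5], [9, 6, 6, 3, 5, 5, 0, 2, 8, 2, 1, 1, 1, 7, 7, 3, 1, 5, 7, 5], [9, 4, 6, 0, 2, 1, 1, 2, 8, 2, 7, 0, 2, 0, 6, 5, 5, 1, 3, 0, 7], [9, 4, 7, 7, 3, 1, 1, 2, 8, 1, 1, 6, 6, 1, 2, 5, 2, 2, 0], [9, 4, 7, 4, 0, 4, 1, 2, 8, 0, 2, 1, 1, 6, 6, 2, 6, 4, 1], [9, 5, 2, 7,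 1, 5, 1, 2, 8, 1, 5, 5, 0, 4, 1, 1, 3, 6, 2, 1], [9, 6, 2, 1, 5, 7, 1, 2, 8, 4, 4, 2, 6, 0, 0, 6, 0, 7, 4, 1, 1], [9, 6, 0, 2, 0, 2, 2, 2, 8, 7, 3, 0, 0, 4, 0, 3, 1, 4, 2], [9, 3, 7, 1, 3, 4, 2, 2, 8, 1, 4, 6, 3, 0, 3, 4, 2, 7, 5, 6], [9, 1, 4, 7, 1, 5, 2, 2, 8, 0, 3, 4, 7, 2, 7, 4, 4, 2, 6], [9, 7, 7, 0, 2, 5, 2, 2, 8, 1, 1, 1, 2, 7, 5, 6, 1, 5, 7, 7], [9, 0, 0, 4, 0, 7, 2, 2, 8, 5, 7, 0, 2, 6, 6, 3, 4, 4, 0], [9, 5, 3, 3, 4, 7, 2, 2, 8, 2, 6, 4, 4, 7, 2, 6, 2, 2, 2, 6], [9, 0, 6, 5, 0, 0, 4, 2, 8, 1, 7, 7, 1, 1, 5, 7, 3, 3, 4, 6], [9, 2, 1, 2, 7, 1, 4, 2, 8, 1, 1, 6, 0, 0, 7, 1, 3, 5, 7, 4], [9, 1, 3, 4, 7, 1, 4, 2, 8, 3, 0, 0,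 6, 2, 7, 7, 0, 2, 0, 4], [9, 6, 4, 2, 1, 3, 4, 2, 8, 7, 1, 5, 3, 4, 3, 0, 2, 0, 4], [9, 6, 3, 4, 1, 1, 5, 2, 8, 7, 4, 3, 4, 1, 5, 2, 1, 5, 5], [9, 6, 6, 4, 1, 2, 5, 2, 8, 3, 3, 4, 0, 6, 3, 1, 1, 3, 3], [9, 3, 6, 1, 2, 2, 5, 2, 8, 2, 2, 0, 6, 0, 4, 2, 5, 0], [9, 3, 6, 2, 4, 2, 5, 2, 8, 0, 3, 7, 5, 2, 2, 0, 2, 1, 5], [9, 1, 4, 3, 6, 5, 5, 2, 8, 5, 0, 3, 6, 0, 6, 4, 3, 5, 3], [9, 3, 3, 5, 2, 0, 6, 2, 8, 7, 4, 6, 3, 5, 2, 1, 2, 7, 5, 0], [9, 6, 5, 3, 1, 2, 6, 2, 8, 0, 7, 4, 6, 3, 7, 7, 5, 5, 6, 4], [9, 7, 1, 2, 6, 2, 6, 2, 8, 1, 1, 6, 0, 2, 2, 0, 2, 1, 6, 1], [9, 6, 4, 7, 3, 3, 6, 2, 8, 1, 3, 3, 3, 6, 0, 0, 3, 4, 0], [9, 7, 4, 7, 3,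 4, 6, 2, 8, 6, 5, 0, 4, 3, 0, 6, 4, 1, 4, 7], [9, 7, 2, 2, 5, 6, 6, 2, 8, 6, 6, 6, 5, 3, 3, 1, 6, 5, 6], [9, 3, 4, 3, 3, 0, 7, 2, 8, 1, 4, 3, 5, 1, 7, 1, 3, 3], [9, 2, 6, 5, 7, 0, 7, 2, 8, 6, 5, 3, 1, 3, 3, 7, 1, 4, 3, 5], [9, 6, 6, 3, 4, 1, 7, 2, 8, 1, 7, 4, 0, 3, 0, 7, 1, 7, 2, 5], [9, 2, 2, 6, 5, 1, 7, 2, 8, 2, 2, 5, 5, 3, 7, 4, 6, 6, 5, 7], [9, 3, 4, 3, 5, 3, 7, 2, 8, 4, 0, 3, 1, 3, 3, 4, 6, 2, 1], [9, 6, 0, 5, 5, 3, 7, 2, 8, 0, 2, 5, 0, 0, 6, 6, 0, 5], [9, 0, 5, 1, 1, 4, 7, 2, 8, 7, 3, 7, 1, 5, 6, 5, 2, 5, 0, 4], [9, 4, 1, 2, 1, 5, 7, 2, 8, 7, 5, 5, 1, 5, 3, 4, 6, 3, 0, 7], [9, 4, 7, 5, 1, 5, 7, 2, 8, 2, 6, 0, 4, 6, 6, 2, 4,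 2, 2, 0], [9, 1, 3, 6, 5, 5, 7, 2, 8, 7, 3, 3, 1, 4, 4, 7, 1, 1, 7, 1], [9, 3, 5, 0, 6, 3, 0, 3, 8, 0, 5, 5, 1, 5, 2, 1, 3, 1, 4, 6], [9, 6, 2, 6, 3, 7, 0, 3, 8, 1, 4, 7, 2, 0, 0, 0, 2, 1], [9, 7, 2, 7, 7, 1, 1, 3, 8, 0, 6, 0, 2, 2, 4, 0, 0, 7, 2, 4], [9, 5, 0, 7, 0, 2, 1, 3, 8, 5, 1, 6, 0, 3, 4, 2, 5, 1, 2, 1], [9, 1, 1, 6, 4, 2, 1, 3, 8, 4, 0, 5, 0, 0, 6, 5, 0, 7, 2, 2], [9, 6, 0, 0, 5, 2, 1, 3, 8, 7, 3, 0, 4, 1, 4, 3, 4, 3], [9, 7, 7, 2, 1, 3, 1, 3, 8, 2, 2, 1, 1, 5, 3, 6, 0, 4, 4, 2], [9, 7, 2, 7, 4, 4, 1, 3, 8, 3, 6, 0, 6, 6, 5, 1, 1, 5, 6], [9, 1, 3, 1, 4, 6, 1, 3, 8, 0, 4, 1, 3, 6, 3, 3, 4, 1], [9, 0, 4, 3, 6, 6, 1, 3, 8,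 6, 0, 2, 1, 1, 6, 6, 0, 2, 1, 6], [9, 1, 1, 6, 5, 1, 3, 3, 8, 7, 2, 2, 0, 4, 7, 0, 0, 6], [9, 5, 0, 7, 3, 4, 3, 3, 8, 1, 3, 7, 7, 1, 6, 6, 4, 6, 0], [9, 0, 5, 7, 5, 6, 3, 3, 8, 4, 0, 7, 1, 3, 7, 0, 3, 0, 0, 3], [9, 3, 6, 0, 4, 7, 3, 3, 8, 6, 4, 7, 7, 5, 6, 2, 4, 4, 3, 3], [9, 0, 6, 0, 5, 7, 3, 3, 8, 0, 3, 4, 3, 5, 0, 7, 2, 1, 2], [9, 7, 1, 2, 7, 2, 4, 3, 8, 1, 4, 7, 0, 4, 1, 6, 1, 4], [9, 6, 0, 3, 1, 3, 4, 3, 8, 7, 4, 0, 0, 5, 3, 0, 3, 1, 5, 0], [9, 0, 0, 6, 4, 3, 4, 3, 8, 0, 5, 6, 3, 5, 2, 0, 2, 4, 1, 2], [9, 0, 4, 7, 0, 6, 4, 3, 8, 0, 0, 5, 1, 3, 5, 7, 7, 3, 6, 0], [9, 0, 3, 3, 6, 6, 4, 3, 8, 4, 0, 2, 7, 7, 1, 3, 4, 3, 1, 3],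 [9, 2, 6, 5, 5, 7, 4, 3, 8, 1, 4, 2, 2, 6, 4, 2, 5, 3, 1, 1], [9, 5, 2, 2, 7, 7, 4, 3, 8, 7, 1, 5, 1, 7, 1, 1, 5, 1, 4, 6], [9, 6, 5, 2, 6, 2, 5, 3, 8, 7, 4, 6, 1, 3, 6, 3, 4, 7, 1], [9, 5, 0, 4, 6, 2, 5, 3, 8, 5, 2, 1, 3, 4, 2, 6, 4, 7, 0, 0], [9, 1, 7, 2, 7, 2, 5, 3, 8, 7, 2, 2, 7, 5, 2, 2, 7, 7, 0, 2], [9, 1, 4, 4, 6, 5, 5, 3, 8, 6, 4, 7, 1, 6, 0, 5, 3, 7, 5], [9, 4, 6, 6, 0, 6, 5, 3, 8, 2, 7, 7, 0, 2, 0, 5, 0, 4, 7], [9, 4, 6, 3, 6, 6, 5, 3, 8, 5, 2, 2, 1, 2, 6, 5, 5, 1, 6], [9, 4, 0, 7, 4, 7, 5, 3, 8, 3, 0, 3, 4, 3, 5, 1, 5, 6, 6, 6], [9, 5, 5, 7, 4, 7, 5, 3, 8, 5, 6, 4, 1, 6, 0, 3, 6, 2, 0], [9, 6, 1, 7, 0, 2, 6, 3, 8, 0,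 6, 4, 0, 2, 7, 5, 2, 4, 1, 3], [9, 6, 6, 6, 2, 6, 6, 3, 8, 6, 6, 3, 4, 2, 5, 6, 4, 1, 5], [9, 4, 0, 3, 7, 1, 7, 3, 8, 2, 5, 2, 0, 0, 5, 7, 7, 5, 2, 5], [9, 5, 5, 3, 7, 1, 7, 3, 8, 7, 7, 3, 6, 5, 6, 2, 7, 5, 7, 4], [9, 2, 5, 6, 4, 4, 7, 3, 8, 3, 0, 6, 0, 2, 7, 0, 5, 0, 7, 3], [9, 3, 6, 1, 6, 4, 7, 3, 8, 4, 2, 5, 0, 6, 2, 2, 0, 2, 4, 7], [9, 6, 2, 4, 0, 0, 0, 4, 8, 5, 3, 4, 0, 5, 3, 6, 0, 0, 4], [9, 4, 3, 0, 6, 0, 0, 4, 8, 4, 7, 0, 2, 0, 0, 7, 1, 4, 3, 5], [9, 0, 0, 5, 3, 7, 0, 4, 8, 0, 0, 7, 0, 0, 5, 5, 6, 2, 4, 7], [9, 7, 1, 6, 4, 2, 1, 4, 8, 7, 7, 3, 1, 1, 7, 0, 7, 7, 4, 4], [9, 6, 0, 4, 7, 4, 1, 4, 8, 2, 7, 7, 3, 5, 3, 0, 7, 4,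 3, 7], [9, 7, 7, 4, 2, 5, 1, 4, 8, 1, 2, 0, 0, 0, 5, 5, 3, 6, 5, 0, 4], [9, 6, 2, 1, 6, 5, 1, 4, 8, 0, 0, 4, 0, 3, 4, 1, 6, 0, 5, 5], [9, 2, 4, 3, 7, 5, 1, 4, 8, 1, 1, 6, 5, 7, 3, 5, 2, 0, 3, 4], [9, 2, 0, 3, 1, 6, 1, 4, 8, 6, 5, 6, 1, 3, 1, 2, 2, 7, 0, 6], [9, 3, 1, 1, 2, 6, 1, 4, 8, 2, 6, 4, 0, 2, 0, 0, 3, 1, 5, 5], [9, 2, 2, 5, 2, 6, 1, 4, 8, 1, 7, 5, 7, 7, 0, 6, 6, 2, 0], [9, 7, 7, 3, 4, 0, 2, 4, 8, 7, 5, 3, 1, 5, 2, 6, 6, 6], [9, 5, 5, 0, 6, 0, 2, 4, 8, 5, 5, 7, 3, 4, 0, 5, 2, 7, 2, 2], [9, 4, 7, 0, 2, 2, 2, 4, 8, 2, 2, 2, 7, 4, 6, 2, 5, 6, 2], [9, 3, 3, 6, 5, 2, 2, 4, 8, 7, 3, 3, 3, 7, 3, 6, 5, 5, 7, 3], [9, 6, 5, 1, 6, 2,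 2, 4, 8, 3, 0, 5, 1, 6, 3, 5, 5, 3, 4, 1], [9, 6, 6, 6, 6, 5, 2, 4, 8, 5, 6, 6, 0, 6, 3, 1, 5, 5, 3, 7], [9, 1, 2, 6, 4, 6, 2, 4, 8, 3, 6, 6, 0, 2, 6, 2, 0, 7, 0], [9, 7, 0, 3, 5, 7, 2, 4, 8, 6, 4, 3, 1, 4, 4, 2, 0, 4, 2], [9, 6, 2, 6, 5, 1, 3, 4, 8, 2, 1, 2, 2, 6, 2, 1, 2, 6, 1, 3], [9, 6, 2, 0, 0, 3, 3, 4, 8, 7, 5, 2, 5, 5, 2, 5, 2, 4, 4], [9, 2, 5, 6, 6, 3, 3, 4, 8, 7, 5, 0, 4, 0, 0, 6, 0, 4, 0, 6], [9, 1, 6, 0, 6, 4, 3, 4, 8, 3, 7, 5, 6, 6, 3, 4, 1, 6, 5], [9, 7, 3, 1, 6, 4, 3, 4, 8, 3, 5, 0, 4, 7, 1, 6, 6, 5], [9, 3, 0, 4, 0, 6, 3, 4, 8, 0, 3, 7, 2, 0, 0, 5, 1, 4, 4, 0], [9, 6, 0, 2, 4, 6, 3, 4, 8, 4, 6, 5, 3, 7, 2, 1, 2, 1,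 5, 7], [9, 7, 4, 7, 0, 0, 4, 4, 8, 4, 3, 4, 0, 2, 7, 0, 6, 6, 0, 5], [9, 5, 3, 1, 7, 1, 4, 4, 8, 6, 5, 3, 3, 7, 0, 4, 7, 4, 2, 0], [9, 2, 6, 0, 6, 2, 4, 4, 8, 5, 6, 4, 6, 3, 7, 4, 7, 2, 6, 6], [9, 2, 4, 6, 5, 6, 4, 4, 8, 1, 3, 7, 2, 1, 7, 0, 5, 7, 4], [9, 4, 0, 7, 4, 6, 6, 4, 8, 7, 1, 7, 0, 6, 0, 5, 7, 5, 3, 0], [9, 0, 4, 6, 2, 0, 7, 4, 8, 7, 5, 2, 1, 6, 0, 0, 7, 3, 7, 5], [9, 1, 4, 1, 7, 2, 7, 4, 8, 2, 6, 1, 2, 1, 7, 5, 2, 7, 1, 3], [9, 7, 4, 4, 0, 4, 7, 4, 8, 7, 1, 5, 3, 4, 3, 0, 4, 6, 2, 1], [9, 3, 6, 4, 0, 3, 0, 5, 8, 6, 1, 2, 7, 5, 2, 4, 0, 4, 4, 6], [9, 0, 6, 2, 4, 3, 0, 5, 8, 0, 7, 2, 1, 6, 1, 5, 1, 4, 1, 6], [9, 7, 4, 4,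 6, 1, 1, 5, 8, 6, 4, 4, 2, 1, 4, 2, 5, 5, 0, 6], [9, 2, 6, 0, 6, 2, 1, 5, 8, 5, 2, 5, 0, 0, 4, 6, 4, 7, 2, 1], [9, 2, 4, 6, 5, 6, 1, 5, 8, 7, 7, 7, 4, 0, 4, 2, 5, 2, 1, 2], [9, 5, 7, 7, 5, 6, 1, 5, 8, 1, 3, 4, 0, 6, 0, 0, 7, 7, 2, 7], [9, 6, 4, 6, 0, 0, 2, 5, 8, 3, 6, 3, 1, 5, 2, 2, 7, 2, 5, 7], [9, 4, 6, 3, 1, 1, 2, 5, 8, 5, 1, 1, 5, 5, 6, 0, 3, 4, 4, 2], [9, 5, 1, 1, 7, 1, 2, 5, 8, 4, 2, 5, 0, 6, 1, 1, 3, 1, 6, 5], [9, 6, 6, 0, 0, 5, 2, 5, 8, 5, 6, 1, 3, 4, 1, 4, 4, 6, 4], [9, 1, 4, 7, 2, 5, 2, 5, 8, 4, 1, 7, 7, 3, 6, 1, 3, 1, 4], [9, 1, 4, 7, 3, 7, 2, 5, 8, 7, 7, 5, 3, 4, 7, 0, 7, 1, 6], [9, 4, 6, 3, 4, 7, 2, 5, 8, 1, 6, 1, 4,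 6, 4, 7, 2, 4, 0, 6], [9, 1, 6, 0, 6, 0, 3, 5, 8, 2, 7, 2, 1, 7, 4, 3, 7, 2, 4, 0], [9, 7, 3, 1, 6, 0, 3, 5, 8, 6, 5, 0, 3, 0, 7, 0, 6, 3, 0, 0], [9, 6, 5, 0, 4, 1, 3, 5, 8, 0, 2, 5, 1, 7, 2, 0, 5, 3, 3, 1], [9, 7, 5, 7, 4, 3, 3, 5, 8, 2, 6, 0, 0, 4, 1, 5, 7, 7, 3, 3], [9, 6, 4, 1, 5, 3, 3, 5, 8, 0, 0, 2, 6, 4, 3, 0, 5, 5], [9, 1, 4, 0, 6, 6, 5, 5, 8, 1, 4, 0, 2, 6, 5, 2, 5, 7], [9, 3, 1, 3, 0, 0, 6, 5, 8, 0, 7, 7, 5, 7, 5, 2, 1, 5, 5, 2], [9, 5, 3, 3, 3, 1, 6, 5, 8, 3, 7, 4, 3, 7, 5, 6, 3, 3, 3], [9, 3, 6, 4, 0, 4, 6, 5, 8, 1, 3, 4, 2, 4, 7, 7, 5, 1, 7, 3], [9, 7, 4, 7, 2, 4, 6, 5, 8, 6, 4, 3, 5, 5, 6, 6, 3, 5], [9, 0, 6, 2, 4,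 4, 6, 5, 8, 7, 3, 7, 1, 1, 6, 6, 3, 6, 1, 3], [9, 3, 0, 5, 1, 5, 6, 5, 8, 0, 5, 7, 3, 7, 7, 0, 0, 3, 1], [9, 3, 0, 0, 2, 6, 6, 5, 8, 1, 3, 3, 4, 3, 0, 7, 7, 0, 0], [9, 0, 2, 1, 3, 6, 6, 5, 8, 0, 2, 7, 5, 3, 0, 5, 7, 3], [9, 3, 0, 0, 3, 1, 7, 5, 8, 1, 1, 7, 7, 0, 3, 7, 2, 6, 5, 6, 4], [9, 4, 3, 0, 0, 2, 7, 5, 8, 3, 7, 2, 1, 2, 0, 0, 4, 3, 6, 2], [9, 6, 6, 6, 4, 2, 7, 5, 8, 4, 2, 7, 1, 6, 6, 1], [9, 4, 3, 6, 5, 2, 7, 5, 8, 4, 0, 3, 1, 6, 5, 2, 6, 3, 3, 0], [9, 2, 4, 7, 7, 2, 7, 5, 8, 7, 0, 4, 4, 7, 3, 0, 3, 3, 4], [9, 6, 5, 3, 0, 3, 7, 5, 8, 1, 1, 6, 6, 6, 1, 1, 3, 7, 5, 5], [9, 1, 2, 7, 4, 3, 7, 5, 8, 3, 5, 0, 5, 1, 4, 4, 1, 7, 5],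 [9, 6, 3, 0, 5, 5, 7, 5, 8, 4, 6, 1, 2, 2, 7, 0, 0, 7, 0, 6], [9, 2, 4, 7, 1, 7, 7, 5, 8, 6, 5, 1, 4, 1, 3, 1, 6, 6, 3], [9, 2, 5, 3, 6, 3, 0, 6, 8, 5, 0, 7, 0, 5, 1, 6, 5, 0], [9, 3, 7, 3, 7, 3, 0, 6, 8, 0, 7, 0, 3, 1, 3, 3, 1, 7, 0, 0], [9, 5, 0, 3, 5, 7, 0, 6, 8, 6, 6, 5, 0, 2, 2, 0, 5, 7, 0, 4], [9, 5, 3, 6, 4, 2, 1, 6, 8, 3, 5, 1, 3, 5, 5, 0, 2, 5, 7], [9, 6, 5, 7, 7, 5, 1, 6, 8, 2, 6, 0, 2, 7, 4, 4, 7, 1, 1, 7], [9, 7, 4, 4, 2, 6, 1, 6, 8, 1, 6, 0, 5, 0, 2, 4, 3, 3, 6, 1, 3], [9, 4, 2, 1, 7, 0, 2, 6, 8, 6, 3, 6, 3, 3, 3, 1, 4, 0, 2, 7], [9, 5, 2, 5, 7, 0, 2, 6, 8, 4, 7, 7, 0, 6, 5, 1, 4, 2], [9, 1, 5, 6, 1, 4, 2, 6, 8, 6,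 3, 4, 1, 2, 0, 6, 1, 1, 6, 0], [9, 1, 4, 2, 6, 5, 2, 6, 8, 4, 7, 2, 1, 4, 7, 1, 5], [9, 7, 5, 7, 1, 7, 2, 6, 8, 6, 6, 3, 0, 0, 7, 7, 1, 1, 5, 3], [9, 3, 7, 7, 4, 3, 3, 6, 8, 7, 4, 7, 0, 2, 2, 4, 7, 7, 7], [9, 1, 2, 2, 0, 6, 3, 6, 8, 3, 1, 6, 2, 5, 5, 2, 1, 7, 7, 7], [9, 7, 5, 7, 0, 6, 3, 6, 8, 4, 2, 6, 2, 0, 4, 1, 6, 2, 6, 1], [9, 0, 5, 2, 2, 6, 3, 6, 8, 2, 4, 6, 6, 4, 0, 2, 1, 4, 1, 3], [9, 0, 3, 5, 3, 6, 3, 6, 8, 4, 7, 3, 5, 0, 3, 4, 2, 7, 5], [9, 2, 0, 5, 5, 6, 3, 6, 8, 7, 4, 0, 0, 4, 7, 7, 1, 7, 2], [9, 2, 0, 0, 6, 6, 3, 6, 8, 5, 5, 0, 0, 3, 6, 5, 2, 5, 6, 6], [9, 1, 7, 0, 5, 3, 4, 6, 8, 2, 0, 2, 0, 4, 7, 1, 6, 6, 5, 5], [9,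 7, 3, 6, 0, 6, 4, 6, 8, 2, 4, 0, 0, 6, 6, 1, 1, 2, 7, 7], [9, 7, 2, 7, 1, 6, 4, 6, 8, 0, 7, 3, 7, 0, 5, 1, 3, 7, 3, 5], [9, 4, 2, 2, 5, 6, 4, 6, 8, 0, 6, 3, 3, 5, 6, 5, 1, 3, 5, 1], [9, 5, 6, 5, 1, 5, 5, 6, 8, 3, 5, 0, 2, 1, 3, 4, 4, 7, 2, 6], [9, 7, 0, 7, 3, 5, 5, 6, 8, 0, 4, 6, 2, 0, 5, 6, 6, 0, 5, 5, 1], [9, 4, 0, 0, 7, 5, 5, 6, 8, 1, 2, 2, 4, 1, 6, 1, 5, 3, 6, 4], [9, 6, 4, 7, 0, 6, 5, 6, 8, 7, 3, 0, 0, 6, 4, 3, 7, 5, 2, 4], [9, 5, 5, 1, 1, 6, 5, 6, 8, 4, 1, 7, 7, 1, 6, 3, 1, 5, 2, 5], [9, 3, 7, 5, 2, 6, 5, 6, 8, 3, 4, 3, 1, 5, 7, 2, 4, 6, 1, 6], [9, 4, 7, 5, 3, 6, 5, 6, 8, 4, 2, 7, 7, 4, 4, 2, 5, 7], [9, 0, 0, 3, 0, 0, 6, 6,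 8, 1, 2, 6, 6, 6, 1, 5, 3, 1], [9, 3, 3, 4, 3, 1, 6, 6, 8, 6, 6, 4, 0, 7, 4, 6, 3, 0, 0, 0], [9, 5, 3, 1, 5, 2, 6, 6, 8, 7, 7, 7, 3, 4, 0, 2, 4, 6], [9, 2, 0, 2, 0, 3, 6, 6, 8, 6, 4, 4, 1, 4, 2, 1, 6, 2, 5, 2], [9, 5, 0, 4, 3, 5, 6, 6, 8, 5, 3, 4, 6, 1, 7, 0, 7, 2, 7, 7, 1], [9, 1, 4, 3, 5, 0, 0, 7, 8, 4, 3, 0, 0, 3, 1, 2, 0, 3, 6], [9, 0, 0, 6, 5, 2, 0, 7, 8, 0, 4, 2, 2, 2, 5, 3, 6, 4, 1], [9, 6, 6, 1, 2, 5, 0, 7, 8, 4, 4, 0, 0, 2, 4, 3, 3, 0, 0, 7], [9, 2, 7, 3, 1, 6, 0, 7, 8, 2, 0, 5, 3, 4, 6, 3, 1, 5, 7, 1], [9, 0, 4, 7, 5, 7, 0, 7, 8, 0, 7, 1, 3, 6, 3, 4, 6, 1, 2], [9, 2, 0, 3, 4, 1, 1, 7, 8, 2, 5, 2, 5, 0, 5, 1, 2, 6], [9,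 2, 5, 2, 0, 2, 1, 7, 8, 4, 0, 3, 0, 3, 3, 4, 4, 1, 2, 6], [9, 3, 3, 3, 1, 3, 1, 7, 8, 3, 5, 0, 2, 1, 5, 1, 1, 2, 6], [9, 5, 2, 7, 5, 3, 1, 7, 8, 5, 6, 1, 1, 1, 6, 1, 5, 3, 4, 3], [9, 3, 6, 2, 4, 4, 1, 7, 8, 4, 1, 7, 7, 1, 1, 4, 3, 1], [9, 5, 0, 5, 6, 5, 1, 7, 8, 7, 7, 0, 4, 3, 6, 4, 4, 6, 4, 1], [9, 0, 4, 1, 4, 1, 2, 7, 8, 0, 7, 3, 0, 0, 6, 1, 4, 4, 6, 0], [9, 4, 6, 4, 4, 1, 2, 7, 8, 7, 1, 6, 1, 1, 6, 3, 3, 0, 7, 5], [9, 3, 4, 0, 0, 5, 2, 7, 8, 4, 4, 0, 3, 4, 0, 5, 2, 5, 6], [9, 3, 0, 6, 4, 0, 3, 7, 8, 0, 6, 5, 5, 1, 2, 2, 0, 4, 6, 0, 7], [9, 6, 5, 2, 7, 0, 3, 7, 8, 2, 0, 7, 0, 3, 1, 3, 3, 6, 6, 2], [9, 5, 0, 4, 7, 0, 3, 7, 8, 4,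 7, 7, 5, 6, 5, 6, 4, 0, 7, 0], [9, 5, 2, 2, 1, 1, 3, 7, 8, 5, 5, 3, 4, 3, 4, 4, 3, 4, 6], [9, 0, 0, 6, 3, 1, 3, 7, 8, 7, 2, 2, 2, 5, 0, 4, 7, 3, 4], [9, 0, 2, 4, 6, 4, 3, 7, 8, 5, 5, 1, 1, 4, 2, 0, 3, 4, 7], [9, 5, 1, 1, 1, 5, 3, 7, 8, 5, 1, 1, 7, 2, 4, 1, 5, 2, 4], [9, 2, 1, 6, 2, 7, 3, 7, 8, 0, 3, 1, 1, 1, 3, 6, 5, 0], [9, 5, 2, 0, 4, 7, 3, 7, 8, 1, 6, 5, 3, 4, 0, 5, 6, 4, 3, 1], [9, 1, 1, 2, 4, 0, 4, 7, 8, 5, 3, 3, 1, 4, 1, 5, 1, 6], [9, 5, 3, 3, 7, 0, 4, 7, 8, 0, 5, 2, 4, 4, 2, 7, 0, 4, 1, 2], [9, 6, 6, 4, 3, 1, 4, 7, 8, 3, 4, 1, 4, 4, 0, 4, 0, 2, 7], [9, 1, 4, 3, 4, 1, 4, 7, 8, 0, 0, 0, 2, 4, 4, 2, 1, 3, 6], [9, 4, 2, 0, 5,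 1, 4, 7, 8, 4, 7, 4, 0, 0, 2, 4, 4, 1, 3, 4], [9, 0, 0, 5, 6, 1, 4, 7, 8, 2, 1, 6, 1, 4, 3, 0, 0, 2, 1, 6], [9, 3, 7, 3, 0, 2, 4, 7, 8, 5, 7, 4, 4, 6, 6, 2, 7, 5, 6, 1], [9, 4, 6, 2, 1, 2, 4, 7, 8, 4, 4, 6, 2, 0, 0, 7, 7, 7, 0, 0], [9, 6, 2, 1, 6, 3, 4, 7, 8, 4, 6, 5, 2, 7, 0, 4, 4, 2, 2, 1], [9, 0, 0, 2, 7, 3, 4, 7, 8, 6, 4, 4, 3, 6, 2, 5, 7, 7, 2, 4], [9, 2, 4, 3, 7, 3, 4, 7, 8, 0, 6, 5, 2, 7, 2, 0, 7, 5, 6], [9, 7, 0, 4, 6, 6, 4, 7, 8, 6, 0, 0, 6, 5, 5, 6, 3, 1, 7, 3], [9, 1, 6, 0, 7, 7, 4, 7, 8, 0, 3, 3, 0, 0, 6, 5, 1, 1], [9, 4, 2, 2, 4, 0, 5, 7, 8, 4, 4, 1, 2, 5, 7, 3, 1, 1], [9, 6, 6, 6, 3, 1, 5, 7, 8, 0, 5, 7, 1, 5, 1, 4,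 3, 7, 2, 7], [9, 3, 5, 2, 0, 3, 5, 7, 8, 5, 1, 3, 1, 2, 5, 2, 4, 0, 6], [9, 1, 2, 5, 0, 3, 5, 7, 8, 2, 4, 1, 2, 4, 3, 4, 0, 3, 3, 6], [9, 7, 4, 7, 1, 6, 5, 7, 8, 0, 2, 0, 2, 4, 1, 4, 3, 0, 6, 5], [9, 3, 7, 2, 2, 6, 5, 7, 8, 1, 5, 2, 1, 1, 7, 2, 2, 2, 0], [9, 4, 3, 1, 1, 7, 5, 7, 8, 3, 0, 4, 4, 7, 1, 4, 0, 7, 0, 4], [9, 6, 1, 4, 3, 0, 7, 7, 8, 6, 4, 3, 0, 5, 1, 1, 2, 4, 1, 2], [9, 4, 3, 4, 1, 1, 7, 7, 8, 6, 0, 0, 3, 0, 2, 2, 4, 3, 6], [9, 3, 1, 4, 4, 2, 7, 7, 8, 4, 6, 4, 0, 2, 6, 6, 0, 0, 0, 3], [9, 3, 6, 0, 5, 2, 7, 7, 8, 4, 3, 6, 0, 6, 1, 2, 1, 5, 6, 0], [9, 1, 4, 7, 2, 4, 7, 7, 8, 5, 6, 3, 1, 2, 0, 6, 6, 3, 3], [9, 3, 4, 3, 0,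 5, 7, 7, 8, 2, 2, 0, 0, 2, 7, 1, 5, 2, 2], [9, 6, 5, 0, 2, 5, 7, 7, 8, 6, 3, 1, 5, 1, 5, 5, 0, 5, 2], [9, 6, 4, 0, 2, 7, 7, 7, 8, 6, 6, 0, 2, 1, 2, 5, 3, 1, 1, 4], [9, 2, 7, 7, 3, 7, 7, 7, 8, 4, 0, 5, 7, 4, 3, 5, 2, 7, 7], [9, 4, 6, 3, 5, 7, 7, 7, 8, 0, 7, 7, 0, 6, 3, 5], [9, 5, 3, 4, 7, 7, 7, 7, 8, 6, 2, 4, 4, 0, 2, 7, 1, 7, 7, 4], [9, 1, 2, 7, 7, 7, 7, 7, 8, 1, 3, 0, 0, 7, 2, 6, 3, 5, 5, 3]]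

/-- the inverse pair words -/
def pairL : List (List ℕ) := [[0, 1], [1, 0], [2, 3], [3, 2], [4, 5], [5, 4], [6, 7], [7, 6], [8, 9], [9, 8]]

/-- the symbol relators -/
def symL : List (List ℕ) := [[6, 9, 6, 9], [6, 6, 9, 7, 8, 8, 7, 9], [0, 8, 0, 8, 0, 8, 0, 8, 0, 8, 0, 8], [6, 6, 6, 9, 9, 7, 8, 6, 8, 7, 9, 9], [6, 6, 6, 6, 9, 7, 7, 7, 8, 6, 6, 8, 7, 7, 7, 9], [0, 2, 7, 5, 8, 5, 5, 0, 3, 9, 9, 0, 7, 0, 6, 3]]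

/-- the other central relators -/
def cenL : List (List ℕ) := [[0, 7, 4, 0, 7, 4, 6, 9, 0, 7, 4, 0, 7, 4, 8, 7], [0, 0, 3, 7, 7, 9, 7, 7, 5, 5, 5, 9, 1, 5, 2, 7], [0, 5, 5, 2, 5, 2, 4, 8, 1, 4, 9, 6, 5, 0, 9, 2]]

/-- the unit vectors -/
def unitL : List (List ℤ) := [[(1 : ℤ), (0 : ℤ), (0 : ℤ), (0 : ℤ), (0 : ℤ), (0 : ℤ)], [(0 : ℤ), (1 : ℤ), (0 : ℤ), (0 : ℤ), (0 : ℤ), (0 : ℤ)], [(0 : ℤ), (0 : ℤ), (1 : ℤ), (0 : ℤ), (0 : ℤ), (0 : ℤ)], [(0 : ℤ), (0 : ℤ), (0 : ℤ), (1 : ℤ), (0 : ℤ), (0 : ℤ)], [(0 : ℤ), (0 : ℤ), (0 : ℤ), (0 : ℤ), (1 : ℤ), (0 : ℤ)], [(0 : ℤ), (0 : ℤ), (0 : ℤ), (0 : ℤ), (0 : ℤ), (1 : ℤ)]]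

theorem seed_cases : ∀ p ∈ seedL, (p.2 = List.replicate 6 0 ∧ p.1 ∈ exactL ++ pairL) ∨
    p ∈ List.zip symL unitL := by
  decide +kernel

theorem rel_cases : ∀ w ∈ relL, w ∈ exactL ++ pairL ∨ w ∈ symL ++ cenL := by
  decide +kernel

/-- the pairs of words giving the relations, with the difference of their twists -/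
def relPairs : List (ℕ × ℕ × List ℤ) := [(546, 555, [(1 : ℤ), (0 : ℤ), (0 : ℤ), (0 : ℤ), (0 : ℤ), (-2 : ℤ)]), (506, 556, [(0 : ℤ), (1 : ℤ), (0 : ℤ), (0 : ℤ), (0 : ℤ), (0 : ℤ)]), (550, 557, [(-1 : ℤ), (0 : ℤ), (0 : ℤ), (0 : ℤ), (-1 : ℤ), (2 : ℤ)]), (549, 558, [(-1 : ℤ), (6 : ℤ), (0 : ℤ), (-1 : ℤ), (0 : ℤ), (4 : ℤ)]), (190, 559, [(-22 : ℤ), (-11 : ℤ), (0 : ℤ), (11 : ℤ), (0 : ℤ), (11 : ℤ)]), (191, 560, [(-5 : ℤ), (24 : ℤ), (0 : ℤ), (-2 : ℤ), (3 : ℤ), (16 : ℤ)]), (548, 561, [(33 : ℤ), (15 : ℤ), (-1 : ℤ), (-3 : ℤ), (-6 : ℤ), (-33 : ℤ)])]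

/-- check of a relation pair: same relator word, twists differing by `v` -/
noncomputable def relChk (p : ℕ × ℕ × List ℤ) : Bool :=
  match WT.get words p.1, WT.get words p.2.1 with
  | some (wd1, true), some (wd2, true) => decide (wd1 = wd2) && decide (Ev p.2.1 = ladd (Ev p.1) p.2.2) &&
      decide (p.1 < 562) && decide (p.2.1 < 562)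
  | _, _ => false

theorem rel_chk : ∀ p ∈ relPairs, relChk p = true := by
  decide +kernel

end Cfsg.Agent.Lib.H6.Co2M.CA
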