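import Cfsg.Agent.Lib.H17.M22M.MonoTw

set_option autoImplicit false
set_option maxRecDepth 100000

/-! # The relations among the twist symbols (generated) -/

namespace Cfsg.Agent.Lib.H6.Co2M.CA

open Cfsg.Agent.Lib.H17.MonoCert

/-- the relation vectors -/
def relV : List (List ℤ) := [[1, 0, 0, 0, 0, -2], [0, 1, 0, 0, 0, 0], [-1, 0, 0, 0, -1, 2], [-1, 6, 0, -1, 0, 4], [-22, -11, 0, 11, 0, 11], [-5, 24, 0, -2, 3, 16], [33, 15, -1, -3, -6, -33]]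

theorem rel_alg_add {M : Type*} [AddCommGroup M] (a0 a1 a2 a3 a4 a5 : M)
    (h0 : (1 : ℤ) • a0 + ((0 : ℤ) • a1 + ((0 : ℤ) • a2 + ((0 : ℤ) • a3 + ((0 : ℤ) • a4 + ((-2 : ℤ) • a5 + 0))))) = 0)
    (h1 : (0 : ℤ) • a0 + ((1 : ℤ) • a1 + ((0 : ℤ) • a2 + ((0 : ℤ) • a3 + ((0 : ℤ) • a4 + ((0 : ℤ) • a5 + 0))))) = 0)
    (h2 : (-1 : ℤ) • a0 + ((0 : ℤ) • a1 + ((0 : ℤ) • a2 + ((0 : ℤ) • a3 + ((-1 : ℤ) • a4 + ((2 : ℤ) • a5 + 0))))) = 0)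
    (h3 : (-1 : ℤ) • a0 + ((6 : ℤ) • a1 + ((0 : ℤ) • a2 + ((-1 : ℤ) • a3 + ((0 : ℤ) • a4 + ((4 : ℤ) • a5 + 0))))) = 0)
    (h4 : (-22 : ℤ) • a0 + ((-11 : ℤ) • a1 + ((0 : ℤ) • a2 + ((11 : ℤ) • a3 + ((0 : ℤ) • a4 + ((11 : ℤ) • a5 + 0))))) = 0)
    (h5 : (-5 : ℤ) • a0 + ((24 : ℤ) • a1 + ((0 : ℤ) • a2 + ((-2 : ℤ) • a3 + ((3 : ℤ) • a4 + ((16 : ℤ) • a5 + 0))))) = 0)
    (h6 : (33 : ℤ) • a0 + ((15 : ℤ) • a1 + ((-1 : ℤ) • a2 + ((-3 : ℤ) • a3 + ((-6 : ℤ) • a4 + ((-33 : ℤ) • a5 + 0))))) = 0)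
    : (1 : ℤ) • a0 + ((0 : ℤ) • a1 + ((0 : ℤ) • a2 + ((0 : ℤ) • a3 + ((0 : ℤ) • a4 + ((0 : ℤ) • a5 + 0))))) = 0 ∧
      (0 : ℤ) • a0 + ((1 : ℤ) • a1 + ((0 : ℤ) • a2 + ((0 : ℤ) • a3 + ((0 : ℤ) • a4 + ((0 : ℤ) • a5 + 0))))) = 0 ∧
      (0 : ℤ) • a0 + ((0 : ℤ) • a1 + ((1 : ℤ) • a2 + ((0 : ℤ) • a3 + ((0 : ℤ) • a4 + ((0 : ℤ) • a5 + 0))))) = 0 ∧
      (0 : ℤ) • a0 + ((0 : ℤ) • a1 + ((0 : ℤ) • a2 + ((1 : ℤ) • a3 + ((0 : ℤ) • a4 + ((0 : ℤ) • a5 + 0))))) = 0 ∧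
      (0 : ℤ) • a0 + ((0 : ℤ) • a1 + ((0 : ℤ) • a2 + ((0 : ℤ) • a3 + ((1 : ℤ) • a4 + ((0 : ℤ) • a5 + 0))))) = 0 ∧
      (0 : ℤ) • a0 + ((0 : ℤ) • a1 + ((0 : ℤ) • a2 + ((0 : ℤ) • a3 + ((0 : ℤ) • a4 + ((1 : ℤ) • a5 + 0))))) = 0 ∧
      True := by
  refine ⟨?_, ?_, ?_, ?_, ?_, ?_, ?_⟩
  · linear_combination (norm := module) (-125 : ℤ) • h0 + (230 : ℤ) • h1 + (-30 : ℤ) • h2 + (-2 : ℤ) • h3 + (-2 : ℤ) • h4 + (-10 : ℤ) • h5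
  · linear_combination (norm := module) (1 : ℤ) • h1
  · linear_combination (norm := module) (-1659 : ℤ) • h0 + (3102 : ℤ) • h1 + (-399 : ℤ) • h2 + (-24 : ℤ) • h3 + (-27 : ℤ) • h4 + (-135 : ℤ) • h5 + (-1 : ℤ) • h6
  · linear_combination (norm := module) (-127 : ℤ) • h0 + (236 : ℤ) • h1 + (-30 : ℤ) • h2 + (-3 : ℤ) • h3 + (-2 : ℤ) • h4 + (-10 : ℤ) • h5
  · linear_combination (norm := module) (-1 : ℤ) • h0 + (-1 : ℤ) • h2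
  · linear_combination (norm := module) (-63 : ℤ) • h0 + (115 : ℤ) • h1 + (-15 : ℤ) • h2 + (-1 : ℤ) • h3 + (-1 : ℤ) • h4 + (-5 : ℤ) • h5
  · trivial

theorem rel_alg {A : Type*} [CommGroup A] (z0 z1 z2 z3 z4 z5 : A)
    (h0 : ltw [z0, z1, z2, z3, z4, z5] [1, 0, 0, 0, 0, -2] = 1)
    (h1 : ltw [z0, z1, z2, z3, z4, z5] [0, 1, 0, 0, 0, 0] = 1)
    (h2 : ltw [z0, z1, z2, z3, z4, z5] [-1, 0, 0, 0, -1, 2] = 1)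
    (h3 : ltw [z0, z1, z2, z3, z4, z5] [-1, 6, 0, -1, 0, 4] = 1)
    (h4 : ltw [z0, z1, z2, z3, z4, z5] [-22, -11, 0, 11, 0, 11] = 1)
    (h5 : ltw [z0, z1, z2, z3, z4, z5] [-5, 24, 0, -2, 3, 16] = 1)
    (h6 : ltw [z0, z1, z2, z3, z4, z5] [33, 15, -1, -3, -6, -33] = 1)
    : ltw [z0, z1, z2, z3, z4, z5] [1, 0, 0, 0, 0, 0] = 1 ∧
      ltw [z0, z1, z2, z3, z4, z5] [0, 1, 0, 0, 0, 0] = 1 ∧
      ltw [z0, z1, z2, z3, z4, z5] [0, 0, 1, 0, 0, 0] = 1 ∧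
      ltw [z0, z1, z2, z3, z4, z5] [0, 0, 0, 1, 0, 0] = 1 ∧
      ltw [z0, z1, z2, z3, z4, z5] [0, 0, 0, 0, 1, 0] = 1 ∧
      ltw [z0, z1, z2, z3, z4, z5] [0, 0, 0, 0, 0, 1] = 1 ∧
      True := by
  have key := rel_alg_add (M := Additive A) (Additive.ofMul z0) (Additive.ofMul z1) (Additive.ofMul z2) (Additive.ofMul z3) (Additive.ofMul z4) (Additive.ofMul z5)
    (by
      have h : z0 ^ (1 : ℤ) * (z1 ^ (0 : ℤ) * (z2 ^ (0 : ℤ) * (z3 ^ (0 : ℤ) * (z4 ^ (0 : ℤ) * (z5 ^ (-2 : ℤ) * 1))))) = 1 := h0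
      have := congrArg Additive.ofMul h
      simpa only [ofMul_mul, ofMul_zpow, ofMul_one] using this)
    (by
      have h : z0 ^ (0 : ℤ) * (z1 ^ (1 : ℤ) * (z2 ^ (0 : ℤ) * (z3 ^ (0 : ℤ) * (z4 ^ (0 : ℤ) * (z5 ^ (0 : ℤ) * 1))))) = 1 := h1
      have := congrArg Additive.ofMul h
      simpa only [ofMul_mul, ofMul_zpow, ofMul_one] using this)
    (by
      have h : z0 ^ (-1 : ℤ) * (z1 ^ (0 : ℤ) * (z2 ^ (0 : ℤ) * (z3 ^ (0 : ℤ) * (z4 ^ (-1 : ℤ) * (z5 ^ (2 : ℤ) * 1))))) = 1 := h2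
      have := congrArg Additive.ofMul h
      simpa only [ofMul_mul, ofMul_zpow, ofMul_one] using this)
    (by
      have h : z0 ^ (-1 : ℤ) * (z1 ^ (6 : ℤ) * (z2 ^ (0 : ℤ) * (z3 ^ (-1 : ℤ) * (z4 ^ (0 : ℤ) * (z5 ^ (4 : ℤ) * 1))))) = 1 := h3
      have := congrArg Additive.ofMul h
      simpa only [ofMul_mul, ofMul_zpow, ofMul_one] using this)
    (by
      have h : z0 ^ (-22 : ℤ) * (z1 ^ (-11 : ℤ) * (z2 ^ (0 : ℤ) * (z3 ^ (11 : ℤ) * (z4 ^ (0 : ℤ) * (z5 ^ (11 : ℤ) * 1))))) = 1 := h4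
      have := congrArg Additive.ofMul h
      simpa only [ofMul_mul, ofMul_zpow, ofMul_one] using this)
    (by
      have h : z0 ^ (-5 : ℤ) * (z1 ^ (24 : ℤ) * (z2 ^ (0 : ℤ) * (z3 ^ (-2 : ℤ) * (z4 ^ (3 : ℤ) * (z5 ^ (16 : ℤ) * 1))))) = 1 := h5
      have := congrArg Additive.ofMul h
      simpa only [ofMul_mul, ofMul_zpow, ofMul_one] using this)
    (by
      have h : z0 ^ (33 : ℤ) * (z1 ^ (15 : ℤ) * (z2 ^ (-1 : ℤ) * (z3 ^ (-3 : ℤ) * (z4 ^ (-6 : ℤ) * (z5 ^ (-33 : ℤ) * 1))))) = 1 := h6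
      have := congrArg Additive.ofMul h
      simpa only [ofMul_mul, ofMul_zpow, ofMul_one] using this)
  obtain ⟨k0, k1, k2, k3, k4, k5, -⟩ := key
  refine ⟨?_, ?_, ?_, ?_, ?_, ?_, ?_⟩
  · change z0 ^ (1 : ℤ) * (z1 ^ (0 : ℤ) * (z2 ^ (0 : ℤ) * (z3 ^ (0 : ℤ) * (z4 ^ (0 : ℤ) * (z5 ^ (0 : ℤ) * 1))))) = 1
    apply Additive.ofMul.injective
    simpa only [ofMul_mul, ofMul_zpow, ofMul_one] using k0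
  · change z0 ^ (0 : ℤ) * (z1 ^ (1 : ℤ) * (z2 ^ (0 : ℤ) * (z3 ^ (0 : ℤ) * (z4 ^ (0 : ℤ) * (z5 ^ (0 : ℤ) * 1))))) = 1
    apply Additive.ofMul.injective
    simpa only [ofMul_mul, ofMul_zpow, ofMul_one] using k1
  · change z0 ^ (0 : ℤ) * (z1 ^ (0 : ℤ) * (z2 ^ (1 : ℤ) * (z3 ^ (0 : ℤ) * (z4 ^ (0 : ℤ) * (z5 ^ (0 : ℤ) * 1))))) = 1
    apply Additive.ofMul.injective
    simpa only [ofMul_mul, ofMul_zpow, ofMul_one] using k2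
  · change z0 ^ (0 : ℤ) * (z1 ^ (0 : ℤ) * (z2 ^ (0 : ℤ) * (z3 ^ (1 : ℤ) * (z4 ^ (0 : ℤ) * (z5 ^ (0 : ℤ) * 1))))) = 1
    apply Additive.ofMul.injective
    simpa only [ofMul_mul, ofMul_zpow, ofMul_one] using k3
  · change z0 ^ (0 : ℤ) * (z1 ^ (0 : ℤ) * (z2 ^ (0 : ℤ) * (z3 ^ (0 : ℤ) * (z4 ^ (1 : ℤ) * (z5 ^ (0 : ℤ) * 1))))) = 1
    apply Additive.ofMul.injective
    simpa only [ofMul_mul, ofMul_zpow, ofMul_one] using k4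
  · change z0 ^ (0 : ℤ) * (z1 ^ (0 : ℤ) * (z2 ^ (0 : ℤ) * (z3 ^ (0 : ℤ) * (z4 ^ (0 : ℤ) * (z5 ^ (1 : ℤ) * 1))))) = 1
    apply Additive.ofMul.injective
    simpa only [ofMul_mul, ofMul_zpow, ofMul_one] using k5
  · trivial

end Cfsg.Agent.Lib.H6.Co2M.CA
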