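import Cfsg.Agent.Lib.H6.Co2M.CA.FT0
import Cfsg.Agent.Lib.H6.Co2M.CA.FT1
import Cfsg.Agent.Lib.H6.Co2M.CA.FT2
import Cfsg.Agent.Lib.H6.Co2M.CA.FT3

set_option autoImplicit false
set_option maxRecDepth 100000
set_option Elab.async false

/-! # Data of the monomial coset enumeration (generated) -/

namespace Cfsg.Agent.Lib.H6.Co2M.CA

open Cfsg.Agent.Lib.H17.CosetCert (BT WT)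
open Cfsg.Agent.Lib.H17.MonoCert

/-- the packed facts -/
def factTree : BT := .node (.node (ft0) (ft1)) (.node (ft2) (ft3))

/-- the fact with a given number -/
noncomputable def F (f : ℕ) : (ℕ × ℕ × ℕ) × List ℤ :=
  Cfsg.Agent.Lib.H6.Co2M.factOfM5 factTree 256 256 156 91343852333181432387730302044767688728495783936 16 65536 6 f

/-- the words -/
def words : WT := .node (.node (.node (.node (.node (.node (.node (.node (.node (.node (.leaf [0] false) (.leaf [9, 6, 2, 1, 6, 3, 4, 7, 8, 4, 6, 5, 2, 7, 0, 4, 4, 2, 2, 1] true)) (.node (.leaf [9, 6, 6, 5, 3, 6, 5, 0, 8, 2, 2, 7, 7, 1, 3, 0, 2, 7, 4] true) (.nil))) (.node (.node (.leaf [0, 0, 0, 0, 5, 1, 3, 3, 3, 1, 2, 2, 5, 2] true) (.nil)) (.node (.leaf [9, 2, 4, 3,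 7, 5, 1, 4, 8, 1, 1, 6, 5, 7, 3, 5, 2, 0, 3, 4] true) (.nil)))) (.node (.node (.node (.leaf [0, 2, 0, 5, 2, 1, 5, 3, 1, 3, 4, 2, 0, 4] true) (.nil)) (.node (.leaf [9, 6, 3, 4, 1, 1, 5, 2, 8, 7, 4, 3, 4, 1, 5, 2, 1, 5, 5] true) (.nil))) (.node (.node (.leaf [9, 6, 3, 0, 3, 1, 8, 7, 2, 0, 3, 0, 5, 1, 4, 4, 3] true) (.nil)) (.node (.leaf [9, 3, 7, 3, 7, 3, 0, 6, 8, 0, 7, 0, 3, 1, 3, 3, 1, 7, 0, 0] true) (.nil))))) (.node (.node (.node (.node (.leaf [0, 0, 0, 3, 4, 3, 3, 0, 2, 2, 2, 0, 4] true) (.leaf [8, 9] true)) (.node (.leaf [9, 6, 1, 6, 4, 6, 5, 1, 8, 4, 2, 1, 2, 0, 4, 6, 5, 5, 2] true) (.nil))) (.node (.node (.leaf [0, 0, 0, 5, 5, 2, 1, 3, 5, 1, 3, 4, 0, 4] true) (.nil)) (.node (.leaf [9, 5, 7, 7, 5, 6, 1, 5, 8,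 1, 3, 4, 0, 6, 0, 0, 7, 7, 2, 7] true) (.nil)))) (.node (.node (.node (.leaf [0, 0, 2, 0, 3, 1, 3, 0, 0, 3, 1, 2, 2, 2] true) (.nil)) (.node (.leaf [9, 5, 0, 7, 3, 4, 3, 3, 8, 1, 3, 7, 7, 1, 6, 6, 4, 6, 0] true) (.nil))) (.node (.node (.leaf [9, 1, 2, 2, 6, 4, 6, 8, 7, 3, 6, 1, 3, 7, 5, 1, 1, 6] true) (.nil)) (.node (.leaf [9, 5, 0, 4, 3, 5, 6, 6, 8, 5, 3, 4, 6, 1, 7, 0, 7, 2, 7, 7, 1] true) (.nil)))))) (.node (.node (.node (.node (.node (.leaf [0, 0, 2, 0, 0, 2, 0, 0, 2, 0, 0, 2] true) (.leaf [9, 1, 4, 7, 2, 4, 7, 7, 8, 5, 6, 3, 1, 2, 0, 6, 6, 3, 3] true)) (.node (.leaf [9, 6, 2, 0, 2, 7, 1, 1, 8, 5, 2, 6, 5, 1, 4, 3, 3, 3, 6] true) (.nil))) (.node (.node (.leaf [0, 2, 4, 1, 4, 2, 4, 2, 1, 2, 0, 5, 3, 5] true) (.nil))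 (.node (.leaf [9, 7, 3, 1, 6, 4, 3, 4, 8, 3, 5, 0, 4, 7, 1, 6, 6, 5] true) (.nil)))) (.node (.node (.node (.leaf [0, 3, 5, 1, 4, 2, 5, 1, 5, 1, 3, 3, 5, 3] true) (.nil)) (.node (.leaf [9, 6, 0, 5, 5, 3, 7, 2, 8, 0, 2, 5, 0, 0, 6, 6, 0, 5] true) (.nil))) (.node (.node (.leaf [9, 4, 1, 3, 4, 6, 2, 8, 4, 6, 6, 2, 5, 7, 2, 4, 3, 6] true) (.nil)) (.node (.leaf [9, 2, 0, 0, 6, 6, 3, 6, 8, 5, 5, 0, 0, 3, 6, 5, 2, 5, 6, 6] true) (.nil))))) (.node (.node (.node (.node (.leaf [0, 2, 1, 7, 4, 1, 5, 7, 5, 1, 4, 6, 4] true) (.leaf [6, 8, 6, 8, 6, 8, 6, 8, 6, 8, 6, 3, 1, 1, 3, 1, 3, 1, 4, 4, 3, 4, 7, 9, 7, 9, 7, 9, 7, 9, 7, 9, 7, 8, 6, 8, 6, 8, 6, 8, 6, 8, 6, 8, 6, 5, 2, 5, 5, 0, 2, 0, 2, 0, 0, 2, 7, 9, 7, 9, 7, 9, 7, 9, 7, 9,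 7, 9, 9, 9] true)) (.node (.leaf [9, 6, 6, 3, 5, 5, 0, 2, 8, 2, 1, 1, 1, 7, 7, 3, 1, 5, 7, 5] true) (.nil))) (.node (.node (.leaf [0, 4, 4, 0, 5, 5, 5, 0, 4, 4, 0, 5, 5, 5] true) (.nil)) (.node (.leaf [9, 3, 6, 4, 0, 4, 6, 5, 8, 1, 3, 4, 2, 4, 7, 7, 5, 1, 7, 3] true) (.nil)))) (.node (.node (.node (.leaf [0, 0, 0, 3, 3, 1, 1, 2, 2, 2, 1, 1, 1, 3] true) (.nil)) (.node (.leaf [9, 4, 6, 3, 6, 6, 5, 3, 8, 5, 2, 2, 1, 2, 6, 5, 5, 1, 6] true) (.nil))) (.node (.node (.leaf [9, 0, 5, 1, 5, 6, 3, 0, 8, 7, 5, 5, 1, 3, 0, 3, 5, 2, 5] true) (.nil)) (.node (.leaf [9, 6, 5, 2, 7, 0, 3, 7, 8, 2, 0, 7, 0, 3, 1, 3, 3, 6, 6, 2] true) (.nil))))))) (.node (.node (.node (.node (.node (.node (.leaf [2, 4, 2, 4, 2, 5, 5, 5, 5] true) (.leaf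 [9, 1, 2, 5, 0, 3, 5, 7, 8, 2, 4, 1, 2, 4, 3, 4, 0, 3, 3, 6] true)) (.node (.leaf [9, 5, 2, 5, 7, 1, 7, 0, 8, 4, 7, 0, 5, 2, 7, 7, 4, 6, 2] true) (.nil))) (.node (.node (.leaf [0, 0, 2, 0, 5, 3, 7, 7, 0, 2, 4, 6, 5, 2] true) (.nil)) (.node (.leaf [9, 6, 5, 1, 6, 2, 2, 4, 8, 3, 0, 5, 1, 6, 3, 5, 5, 3, 4, 1] true) (.nil)))) (.node (.node (.node (.leaf [0, 2, 1, 3, 0, 3, 0, 5, 3, 5, 3, 5, 0, 3] true) (.nil)) (.node (.leaf [9, 6, 4, 7, 3, 3, 6, 2, 8, 1, 3, 3, 3, 6, 0, 0, 3, 4, 0] true) (.nil))) (.node (.node (.leaf [9, 4, 6, 2, 0, 4, 1, 8, 0, 5, 5, 0, 5, 7, 4, 4, 2, 5, 1] true) (.nil)) (.node (.leaf [9, 1, 4, 2, 6, 5, 2, 6, 8, 4, 7, 2, 1, 4, 7, 1, 5] true) (.nil))))) (.node (.node (.node (.node (.leaf [0, 0, 3, 3, 3,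 0, 3, 1, 2, 0, 3, 0, 3] true) (.leaf [0, 7, 4, 0, 7, 4, 6, 9, 0, 7, 4, 0, 7, 4, 8, 7] true)) (.node (.leaf [9, 4, 1, 2, 5, 3, 7, 1, 8, 7, 0, 5, 0, 4, 0, 7, 0, 3, 6, 1] true) (.nil))) (.node (.node (.leaf [0, 2, 0, 5, 5, 1, 2, 1, 5, 2, 4, 0, 2, 5] true) (.nil)) (.node (.leaf [9, 1, 6, 0, 6, 0, 3, 5, 8, 2, 7, 2, 1, 7, 4, 3, 7, 2, 4, 0] true) (.nil)))) (.node (.node (.node (.leaf [0, 3, 3, 4, 1, 4, 6, 0, 6, 3, 7, 1, 7, 5] true) (.nil)) (.node (.leaf [9, 0, 3, 3, 6, 6, 4, 3, 8, 4, 0, 2, 7, 7, 1, 3, 4, 3, 1, 3] true) (.nil))) (.node (.node (.leaf [9, 2, 2, 0, 4, 7, 0, 0, 8, 7, 1, 1, 6, 5, 1, 3, 3, 6] true) (.nil)) (.node (.leaf [9, 3, 3, 3, 1, 3, 1, 7, 8, 3, 5, 0, 2, 1, 5, 1, 1, 2, 6] true) (.nil)))))) (.node (.node (.node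 (.node (.node (.leaf [0, 4, 2, 2, 5, 3, 0, 4, 2, 2, 5, 3] true) (.leaf [0, 1] true)) (.node (.leaf [9, 3, 6, 5, 0, 0, 4, 1, 8, 6, 1, 6, 2, 4, 1, 5, 6, 1, 2, 2] true) (.nil))) (.node (.node (.leaf [0, 0, 3, 4, 1, 5, 5, 5, 3, 3, 3, 0, 0, 5] true) (.nil)) (.node (.leaf [9, 0, 4, 6, 2, 0, 7, 4, 8, 7, 5, 2, 1, 6, 0, 0, 7, 3, 7, 5] true) (.nil)))) (.node (.node (.node (.leaf [0, 0, 0, 3, 0, 2, 2, 5, 3, 4, 3, 3, 3, 4] true) (.nil)) (.node (.leaf [9, 5, 0, 7, 0, 2, 1, 3, 8, 5, 1, 6, 0, 3, 4, 2, 5, 1, 2, 1] true) (.nil))) (.node (.node (.leaf [9, 6, 4, 7, 0, 0, 5, 8, 1, 5, 5, 6, 5, 3, 1, 3, 7, 4] true) (.nil)) (.node (.leaf [9, 6, 4, 7, 0, 6, 5, 6, 8, 7, 3, 0, 0, 6, 4, 3, 7, 5, 2, 4] true) (.nil))))) (.node (.node (.node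 (.node (.leaf [0, 4, 0, 4, 1, 3, 0, 5, 0, 4, 4, 4, 3] true) (.nil)) (.node (.leaf [9, 1, 4, 7, 1, 5, 2, 2, 8, 0, 3, 4, 7, 2, 7, 4, 4, 2, 6] true) (.nil))) (.node (.node (.leaf [0, 0, 5, 2, 5, 5, 2, 4, 1, 3, 3, 4, 1, 2] true) (.nil)) (.node (.leaf [9, 6, 6, 6, 4, 2, 7, 5, 8, 4, 2, 7, 1, 6, 6, 1] true) (.nil)))) (.node (.node (.node (.leaf [2, 2, 4, 2, 4, 2, 2, 5, 2, 5, 2, 5, 2, 5] true) (.nil)) (.node (.leaf [9, 3, 6, 1, 6, 4, 7, 3, 8, 4, 2, 5, 0, 6, 2, 2, 0, 2, 4, 7] true) (.nil))) (.node (.node (.leaf [9, 6, 1, 1, 4, 2, 5, 0, 8, 7, 5, 0, 5, 0, 0, 2, 4, 0, 5] true) (.nil)) (.node (.leaf [9, 1, 1, 2, 4, 0, 4, 7, 8, 5, 3, 3, 1, 4, 1, 5, 1, 6] true) (.nil)))))))) (.node (.node (.node (.node (.node (.node (.node (.leaf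 [4, 4, 4, 4, 4] true) (.leaf [9, 1, 6, 0, 7, 7, 4, 7, 8, 0, 3, 3, 0, 0, 6, 5, 1, 1] true)) (.node (.leaf [9, 0, 0, 2, 6, 3, 6, 0, 8, 1, 6, 6, 2, 5, 1, 2, 7, 0, 4, 3] true) (.nil))) (.node (.node (.leaf [0, 2, 2, 5, 6, 6, 2, 7, 7, 3, 3, 5, 7, 2] true) (.nil)) (.node (.leaf [9, 7, 7, 3, 4, 0, 2, 4, 8, 7, 5, 3, 1, 5, 2, 6, 6, 6] true) (.nil)))) (.node (.node (.node (.leaf [0, 4, 7, 3, 5, 0, 7, 0, 4, 7, 3, 5, 0, 7] true) (.nil)) (.node (.leaf [9, 1, 4, 3, 6, 5, 5, 2, 8, 5, 0, 3, 6, 0, 6, 4, 3, 5, 3] true) (.nil))) (.node (.node (.leaf [9, 0, 6, 3, 0, 0, 0, 8, 5, 0, 7, 0, 7, 4, 1, 6, 5, 7, 7] true) (.nil)) (.node (.leaf [9, 7, 4, 4, 2, 6, 1, 6, 8, 1, 6, 0, 5, 0, 2, 4, 3, 3, 6, 1, 3] true) (.nil))))) (.node (.node (.node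 (.node (.leaf [0, 4, 7, 2, 4, 0, 5, 7, 1, 6, 1, 6, 4] true) (.leaf [0, 8, 0, 8, 0, 8, 0, 8, 0, 8, 0, 8] true)) (.node (.leaf [9, 0, 5, 2, 7, 1, 6, 1, 8, 2, 0, 7, 4, 6, 6, 4, 0, 2, 7] true) (.nil))) (.node (.node (.leaf [0, 3, 4, 3, 7, 3, 0, 5, 3, 6, 6, 3, 5, 3] true) (.nil)) (.node (.leaf [9, 6, 6, 0, 0, 5, 2, 5, 8, 5, 6, 1, 3, 4, 1, 4, 4, 6, 4] true) (.nil)))) (.node (.node (.node (.leaf [0, 0, 2, 5, 0, 3, 1, 3, 0, 2, 4, 2, 5, 3] true) (.nil)) (.node (.leaf [9, 7, 1, 2, 7, 2, 4, 3, 8, 1, 4, 7, 0, 4, 1, 6, 1, 4] true) (.nil))) (.node (.node (.leaf [9, 4, 1, 1, 6, 5, 7, 8, 5, 6, 2, 0, 2, 4, 7, 4, 4, 0] true) (.nil)) (.node (.leaf [9, 2, 7, 3, 1, 6, 0, 7, 8, 2, 0, 5, 3, 4, 6, 3, 1, 5, 7, 1] true) (.nil)))))) (.node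 (.node (.node (.node (.node (.leaf [0, 2, 4, 1, 3, 5, 1, 2, 0, 2, 4, 2] true) (.leaf [9, 2, 7, 7, 3, 7, 7, 7, 8, 4, 0, 5, 7, 4, 3, 5, 2, 7, 7] true)) (.node (.leaf [9, 2, 5, 7, 7, 2, 2, 1, 8, 2, 0, 2, 5, 2, 0, 6, 6, 3, 1, 5] true) (.nil))) (.node (.node (.leaf [0, 3, 4, 3, 4, 2, 5, 5, 1, 3, 4, 1, 5, 5] true) (.nil)) (.node (.leaf [9, 5, 3, 1, 7, 1, 4, 4, 8, 6, 5, 3, 3, 7, 0, 4, 7, 4, 2, 0] true) (.nil)))) (.node (.node (.node (.leaf [0, 0, 2, 1, 3, 0, 3, 0, 0, 3, 0, 2, 0, 3] true) (.nil)) (.node (.leaf [9, 1, 3, 6, 5, 5, 7, 2, 8, 7, 3, 3, 1, 4, 4, 7, 1, 1, 7, 1] true) (.nil))) (.node (.node (.leaf [9, 6, 2, 0, 3, 0, 4, 8, 7, 0, 0, 5, 2, 5, 0, 4, 0, 0] true) (.nil)) (.node (.leaf [9, 4, 2, 2, 5, 6, 4, 6, 8, 0, 6,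 3, 3, 5, 6, 5, 1, 3, 5, 1] true) (.nil))))) (.node (.node (.node (.node (.leaf [0, 0, 0, 2, 4, 2, 5, 0, 0, 3, 1, 3, 5] true) (.nil)) (.node (.leaf [9, 5, 2, 7, 1, 5, 1, 2, 8, 1, 5, 5, 0, 4, 1, 1, 3, 6, 2, 1] true) (.nil))) (.node (.node (.leaf [0, 0, 5, 2, 4, 3, 3, 0, 0, 5, 3, 5, 5, 2] true) (.nil)) (.node (.leaf [9, 3, 0, 0, 2, 6, 6, 5, 8, 1, 3, 3, 4, 3, 0, 7, 7, 0, 0] true) (.nil)))) (.node (.node (.node (.leaf [0, 0, 4, 4, 0, 2, 5, 0, 4, 3, 4, 0, 5, 3] true) (.nil)) (.node (.leaf [9, 6, 6, 6, 2, 6, 6, 3, 8, 6, 6, 3, 4, 2, 5, 6, 4, 1, 5] true) (.nil))) (.node (.node (.leaf [9, 7, 3, 5, 0, 7, 4, 0, 8, 1, 7, 0, 0, 7, 1, 3, 0, 5, 2, 7] true) (.nil)) (.node (.leaf [9, 0, 2, 4, 6, 4, 3, 7, 8, 5, 5, 1, 1, 4, 2, 0, 3,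 4, 7] true) (.nil))))))) (.node (.node (.node (.node (.node (.node (.leaf [0, 4, 0, 4, 0, 4, 0, 4, 0, 4] true) (.leaf [9, 6, 1, 4, 3, 0, 7, 7, 8, 6, 4, 3, 0, 5, 1, 1, 2, 4, 1, 2] true)) (.node (.leaf [9, 5, 1, 6, 2, 4, 1, 1, 8, 2, 1, 4, 0, 5, 5, 1, 7, 2, 2, 5] true) (.nil))) (.node (.node (.leaf [0, 2, 4, 2, 0, 5, 3, 5, 3, 1, 3, 5, 1, 2] true) (.nil)) (.node (.leaf [9, 6, 2, 6, 5, 1, 3, 4, 8, 2, 1, 2, 2, 6, 2, 1, 2, 6, 1, 3] true) (.nil)))) (.node (.node (.node (.leaf [0, 0, 0, 3, 3, 3, 1, 2, 0, 2, 2, 0, 3, 3] true) (.nil)) (.node (.leaf [9, 2, 6, 5, 7, 0, 7, 2, 8, 6, 5, 3, 1, 3, 3, 7, 1, 4, 3, 5] true) (.nil))) (.node (.node (.leaf [9, 5, 0, 7, 3, 7, 1, 8, 0, 0, 2, 1, 4, 3, 0, 6, 5, 0] true) (.nil)) (.node (.leaf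 [9, 7, 5, 7, 0, 6, 3, 6, 8, 4, 2, 6, 2, 0, 4, 1, 6, 2, 6, 1] true) (.nil))))) (.node (.node (.node (.node (.leaf [0, 4, 0, 4, 0, 4, 0, 4, 0, 5, 5, 5, 5] true) (.leaf [9, 6, 6, 4, 3, 1, 4, 7, 8, 3, 4, 1, 4, 4, 0, 4, 0, 2, 7] true)) (.node (.leaf [9, 0, 7, 0, 6, 4, 7, 1, 8, 5, 3, 0, 0, 4, 0, 6, 5, 2, 0] true) (.nil))) (.node (.node (.leaf [0, 0, 3, 5, 2, 2, 4, 1, 2, 0, 5, 3, 4, 2] true) (.nil)) (.node (.leaf [9, 6, 4, 1, 5, 3, 3, 5, 8, 0, 0, 2, 6, 4, 3, 0, 5, 5] true) (.nil)))) (.node (.node (.node (.leaf [0, 0, 0, 5, 1, 7, 4, 2, 6, 0, 7, 5, 6, 5] true) (.nil)) (.node (.leaf [9, 5, 0, 4, 6, 2, 5, 3, 8, 5, 2, 1, 3, 4, 2, 6, 4, 7, 0, 0] true) (.nil))) (.node (.node (.leaf [9, 3, 6, 4, 4, 7, 2, 0, 8, 0, 6, 0, 0, 6, 5,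 5, 0, 2, 2, 6] true) (.nil)) (.node (.leaf [9, 0, 4, 1, 4, 1, 2, 7, 8, 0, 7, 3, 0, 0, 6, 1, 4, 4, 6, 0] true) (.nil)))))) (.node (.node (.node (.node (.node (.leaf [2, 2, 7, 2, 2, 7, 2, 2, 7, 2, 2, 7] true) (.leaf [4, 5] true)) (.node (.leaf [9, 2, 2, 7, 4, 6, 4, 1, 8, 2, 1, 1, 2, 1, 6, 2, 0, 6, 1, 5] true) (.nil))) (.node (.node (.leaf [0, 0, 0, 2, 5, 0, 0, 4, 0, 4, 1, 5, 1, 2] true) (.nil)) (.node (.leaf [9, 0, 6, 2, 4, 3, 0, 5, 8, 0, 7, 2, 1, 6, 1, 5, 1, 4, 1, 6] true) (.nil)))) (.node (.node (.node (.leaf [0, 0, 0, 2, 1, 1, 2, 2, 2, 1, 2, 2, 1, 3] true) (.nil)) (.node (.leaf [9, 7, 2, 7, 4, 4, 1, 3, 8, 3, 6, 0, 6, 6, 5, 1, 1, 5, 6] true) (.nil))) (.node (.node (.leaf [9, 3, 5, 6, 6, 5, 5, 8, 3, 4, 3, 6, 0, 5,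 6, 0, 7, 0, 4, 4] true) (.nil)) (.node (.leaf [9, 0, 0, 3, 0, 0, 6, 6, 8, 1, 2, 6, 6, 6, 1, 5, 3, 1] true) (.nil))))) (.node (.node (.node (.node (.leaf [0, 2, 2, 0, 2, 4, 1, 2, 4, 0, 2, 4, 4, 4] true) (.nil)) (.node (.leaf [9, 0, 6, 5, 0, 0, 4, 2, 8, 1, 7, 7, 1, 1, 5, 7, 3, 3, 4, 6] true) (.nil))) (.node (.node (.leaf [0, 0, 0, 3, 3, 3, 1, 3, 1, 1, 2, 2, 1, 2] true) (.nil)) (.node (.leaf [9, 1, 2, 7, 4, 3, 7, 5, 8, 3, 5, 0, 5, 1, 4, 4, 1, 7, 5] true) (.nil)))) (.node (.node (.node (.leaf [0, 0, 4, 2, 2, 4, 3, 4, 1, 2, 4, 0, 4, 4] true) (.nil)) (.node (.leaf [9, 7, 1, 6, 4, 2, 1, 4, 8, 7, 7, 3, 1, 1, 7, 0, 7, 7, 4, 4] true) (.nil))) (.node (.node (.leaf [9, 2, 4, 4, 7, 5, 5, 0, 8, 4, 6, 2, 4, 1, 7, 0, 6, 5, 7] true)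 (.nil)) (.node (.leaf [9, 4, 2, 0, 5, 1, 4, 7, 8, 4, 7, 4, 0, 0, 2, 4, 4, 1, 3, 4] true) (.nil))))))))) (.node (.node (.node (.node (.node (.node (.node (.node (.leaf [4] false) (.leaf [9, 2, 4, 3, 7, 3, 4, 7, 8, 0, 6, 5, 2, 7, 2, 0, 7, 5, 6] true)) (.node (.leaf [9, 1, 2, 2, 5, 7, 5, 0, 8, 3, 5, 1, 3, 6, 0, 3, 0, 0, 0] true) (.nil))) (.node (.node (.leaf [0, 0, 2, 0, 3, 0, 2, 2, 1, 2, 0, 2, 1, 2] true) (.nil)) (.node (.leaf [9, 3, 1, 1, 2, 6, 1, 4, 8, 2, 6, 4, 0, 2, 0, 0, 3, 1, 5, 5] true) (.nil)))) (.node (.node (.node (.leaf [0, 4, 3, 3, 5, 6, 5, 5, 1, 5, 2, 6, 1, 5] true) (.nil)) (.node (.leaf [9, 3, 6, 1, 2, 2, 5, 2, 8, 2, 2, 0, 6, 0, 4, 2, 5, 0] true) (.nil))) (.node (.node (.leaf [9, 0, 2, 1, 2, 7, 8, 2, 5,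 5, 0, 4, 1, 2, 1, 3, 6] true) (.nil)) (.node (.leaf [9, 5, 3, 6, 4, 2, 1, 6, 8, 3, 5, 1, 3, 5, 5, 0, 2, 5, 7] true) (.nil))))) (.node (.node (.node (.node (.leaf [0, 0, 4, 3, 4, 6, 6, 6, 2, 7, 7, 2, 5] true) (.leaf [6, 9, 6, 9] true)) (.node (.leaf [9, 0, 7, 4, 3, 7, 5, 1, 8, 3, 0, 7, 1, 1, 2, 2, 4, 7, 5, 0] true) (.nil))) (.node (.node (.leaf [0, 0, 5, 3, 3, 5, 2, 2, 4, 3, 4, 0, 4, 2] true) (.nil)) (.node (.leaf [9, 4, 6, 3, 1, 1, 2, 5, 8, 5, 1, 1, 5, 5, 6, 0, 3, 4, 4, 2] true) (.nil)))) (.node (.node (.node (.leaf [2, 2, 2, 2, 2, 2, 5, 3, 4, 4, 4, 4, 3, 5] true) (.nil)) (.node (.leaf [9, 3, 6, 0, 4, 7, 3, 3, 8, 6, 4, 7, 7, 5, 6, 2, 4, 4, 3, 3] true) (.nil))) (.node (.node (.leaf [9, 3, 6, 5, 2, 4, 7, 8, 5, 1, 3,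 5, 5, 6, 6, 1, 4, 3, 0] true) (.nil)) (.node (.leaf [9, 0, 0, 6, 5, 2, 0, 7, 8, 0, 4, 2, 2, 2, 5, 3, 6, 4, 1] true) (.nil)))))) (.node (.node (.node (.node (.node (.leaf [0, 4, 4, 0, 4, 4, 0, 4, 4, 0, 4, 4] true) (.leaf [9, 6, 5, 0, 2, 5, 7, 7, 8, 6, 3, 1, 5, 1, 5, 5, 0, 5, 2] true)) (.node (.leaf [9, 2, 5, 2, 5, 7, 1, 1, 8, 0, 6, 6, 0, 3, 6, 1, 6, 1, 4, 7] true) (.nil))) (.node (.node (.leaf [0, 0, 0, 4, 4, 4, 0, 4, 0, 5, 1, 4, 1, 3] true) (.nil)) (.node (.leaf [9, 6, 0, 2, 4, 6, 3, 4, 8, 4, 6, 5, 3, 7, 2, 1, 2, 1, 5, 7] true) (.nil)))) (.node (.node (.node (.leaf [0, 0, 4, 4, 3, 0, 3, 5, 2, 0, 4, 1, 3, 3] true) (.nil)) (.node (.leaf [9, 4, 1, 2, 1, 5, 7, 2, 8, 7, 5, 5, 1, 5, 3, 4, 6, 3, 0, 7] true) (.nil))) (.node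 (.node (.leaf [9, 2, 2, 0, 7, 0, 3, 8, 2, 6, 4, 2, 0, 0, 0, 6, 3, 3, 6] true) (.nil)) (.node (.leaf [9, 7, 3, 6, 0, 6, 4, 6, 8, 2, 4, 0, 0, 6, 6, 1, 1, 2, 7, 7] true) (.nil))))) (.node (.node (.node (.node (.leaf [0, 0, 3, 0, 3, 4, 0, 2, 2, 1, 4, 2, 4] true) (.nil)) (.node (.leaf [9, 4, 7, 7, 3, 1, 1, 2, 8, 1, 1, 6, 6, 1, 2, 5, 2, 2, 0] true) (.nil))) (.node (.node (.leaf [0, 2, 4, 2, 1, 2, 5, 2, 0, 5, 2, 5, 5, 2] true) (.nil)) (.node (.leaf [9, 0, 6, 2, 4, 4, 6, 5, 8, 7, 3, 7, 1, 1, 6, 6, 3, 6, 1, 3] true) (.nil)))) (.node (.node (.node (.leaf [0, 0, 0, 0, 2, 0, 5, 0, 4, 1, 5, 1, 4, 4] true) (.nil)) (.node (.leaf [9, 5, 5, 7, 4, 7, 5, 3, 8, 5, 6, 4, 1, 6, 0, 3, 6, 2, 0] true) (.nil))) (.node (.node (.leaf [9, 6,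 6, 6, 6, 6, 3, 0, 8, 2, 4, 4, 2, 7, 3, 6, 1, 1, 2, 0] true) (.nil)) (.node (.leaf [9, 5, 2, 2, 1, 1, 3, 7, 8, 5, 5, 3, 4, 3, 4, 4, 3, 4, 6] true) (.nil))))))) (.node (.node (.node (.node (.node (.node (.leaf [0, 2, 0, 3, 0, 2, 1, 3, 0, 3] true) (.leaf [9, 3, 7, 2, 2, 6, 5, 7, 8, 1, 5, 2, 1, 1, 7, 2, 2, 2, 0] true)) (.node (.leaf [9, 6, 5, 2, 6, 3, 1, 1, 8, 5, 3, 6, 6, 4, 3, 7, 2, 5, 5, 7] true) (.nil))) (.node (.node (.leaf [0, 3, 5, 1, 4, 2, 5, 1, 5, 1, 3, 4, 2, 4] true) (.nil)) (.node (.leaf [9, 1, 2, 6, 4, 6, 2, 4, 8, 3, 6, 6, 0, 2, 6, 2, 0, 7, 0] true) (.nil)))) (.node (.node (.node (.leaf [0, 4, 2, 2, 2, 4, 2, 4, 0, 4, 2, 2, 5, 3] true) (.nil)) (.node (.leaf [9, 7, 2, 2, 5, 6, 6, 2, 8, 6, 6, 6, 5, 3, 3, 1, 6,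 5, 6] true) (.nil))) (.node (.node (.leaf [9, 4, 6, 4, 0, 5, 1, 8, 3, 3, 7, 0, 3, 0, 2, 0, 4, 3, 3] true) (.nil)) (.node (.leaf [9, 3, 7, 7, 4, 3, 3, 6, 8, 7, 4, 7, 0, 2, 2, 4, 7, 7, 7] true) (.nil))))) (.node (.node (.node (.node (.leaf [0, 0, 0, 5, 3, 5, 5, 0, 0, 3, 1, 3, 5] true) (.leaf [0, 5, 5, 2, 5, 2, 4, 8, 1, 4, 9, 6, 5, 0, 9, 2] true)) (.node (.leaf [9, 3, 5, 1, 1, 4, 7, 1, 8, 2, 0, 3, 1, 7, 3, 1, 6, 5, 0, 4] true) (.nil))) (.node (.node (.leaf [0, 0, 5, 7, 1, 1, 5, 7, 7, 5, 1, 7, 5, 2] true) (.nil)) (.node (.leaf [9, 6, 5, 0, 4, 1, 3, 5, 8, 0, 2, 5, 1, 7, 2, 0, 5, 3, 3, 1] true) (.nil)))) (.node (.node (.node (.leaf [0, 0, 0, 2, 1, 2, 2, 0, 0, 0, 2, 1, 2, 2] true) (.nil)) (.node (.leaf [9, 5, 2, 2, 7, 7,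 4, 3, 8, 7, 1, 5, 1, 7, 1, 1, 5, 1, 4, 6] true) (.nil))) (.node (.node (.leaf [9, 2, 0, 7, 5, 0, 2, 0, 8, 0, 5, 2, 2, 7, 2, 0, 5, 1] true) (.nil)) (.node (.leaf [9, 3, 6, 2, 4, 4, 1, 7, 8, 4, 1, 7, 7, 1, 1, 4, 3, 1] true) (.nil)))))) (.node (.node (.node (.node (.node (.leaf [0, 0, 4, 0, 0, 4, 0, 0, 4, 0, 0, 4] true) (.leaf [2, 3] true)) (.node (.leaf [9, 7, 2, 7, 3, 3, 4, 1, 8, 2, 0, 5, 0, 3, 1, 5, 7, 7, 5, 3] true) (.nil))) (.node (.node (.leaf [0, 2, 2, 1, 5, 2, 5, 0, 3, 3, 4, 3, 0, 4] true) (.nil)) (.node (.leaf [9, 7, 4, 4, 0, 4, 7, 4, 8, 7, 1, 5, 3, 4, 3, 0, 4, 6, 2, 1] true) (.nil)))) (.node (.node (.node (.leaf [0, 3, 6, 5, 6, 2, 2, 0, 3, 6, 5, 6, 2, 2] true) (.nil)) (.node (.leaf [9, 6, 0, 0, 5, 2, 1, 3,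 8, 7, 3, 0, 4, 1, 4, 3, 4, 3] true) (.nil))) (.node (.node (.leaf [9, 4, 7, 5, 3, 0, 5, 8, 2, 2, 1, 2, 2, 7, 2, 6, 0, 0, 6] true) (.nil)) (.node (.leaf [9, 3, 7, 5, 2, 6, 5, 6, 8, 3, 4, 3, 1, 5, 7, 2, 4, 6, 1, 6] true) (.nil))))) (.node (.node (.node (.node (.leaf [0, 4, 4, 0, 4, 4, 0, 4, 4, 0, 5, 5, 5] true) (.nil)) (.node (.leaf [9, 0, 0, 4, 0, 7, 2, 2, 8, 5, 7, 0, 2, 6, 6, 3, 4, 4, 0] true) (.nil))) (.node (.node (.leaf [0, 2, 1, 2, 2, 0, 2, 2, 2, 0, 3, 3, 1, 2] true) (.nil)) (.node (.leaf [9, 2, 4, 7, 7, 2, 7, 5, 8, 7, 0, 4, 4, 7, 3, 0, 3, 3, 4] true) (.nil)))) (.node (.node (.node (.leaf [0, 0, 4, 3, 7, 0, 2, 7, 3, 0, 3, 3, 5, 3] true) (.nil)) (.node (.leaf [9, 4, 3, 0, 6, 0, 0, 4, 8, 4, 7, 0, 2, 0, 0, 7, 1,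 4, 3, 5] true) (.nil))) (.node (.node (.leaf [9, 3, 4, 4, 7, 2, 5, 0, 8, 2, 4, 2, 5, 7, 1, 7, 2, 1, 4] true) (.nil)) (.node (.leaf [9, 6, 6, 4, 3, 1, 4, 7, 8, 3, 4, 1, 4, 4, 0, 4, 0, 2, 7] true) (.nil)))))))) (.node (.node (.node (.node (.node (.node (.node (.leaf [0, 0, 0, 0, 0, 0, 0] true) (.leaf [9, 6, 6, 6, 3, 1, 5, 7, 8, 0, 5, 7, 1, 5, 1, 4, 3, 7, 2, 7] true)) (.node (.leaf [9, 6, 5, 6, 6, 1, 7, 0, 8, 0, 0, 4, 7, 1, 1, 2, 2, 1] true) (.nil))) (.node (.node (.leaf [0, 2, 4, 2, 4, 2, 0, 5, 0, 5, 0, 5, 0, 5] true) (.nil)) (.node (.leaf [9, 4, 7, 0, 2, 2, 2, 4, 8, 2, 2, 2, 7, 4, 6, 2, 5, 6, 2] true) (.nil)))) (.node (.node (.node (.leaf [0, 0, 3, 3, 0, 2, 2, 2, 1, 2, 2, 2, 0, 3] true) (.nil)) (.node (.leaf [9, 6,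 5, 3, 1, 2, 6, 2, 8, 0, 7, 4, 6, 3, 7, 7, 5, 5, 6, 4] true) (.nil))) (.node (.node (.leaf [9, 5, 3, 4, 6, 3, 0, 8, 3, 4, 1, 1, 6, 3, 0, 6, 3, 1, 5] true) (.nil)) (.node (.leaf [9, 5, 2, 5, 7, 0, 2, 6, 8, 4, 7, 7, 0, 6, 5, 1, 4, 2] true) (.nil))))) (.node (.node (.node (.node (.leaf [0, 2, 2, 1, 4, 1, 6, 3, 1, 6, 5, 3, 3] true) (.leaf [6, 6, 6, 6, 9, 7, 7, 7, 8, 6, 6, 8, 7, 7, 7, 9] true)) (.node (.leaf [9, 0, 4, 6, 2, 5, 6, 1, 8, 2, 5, 1, 1, 3, 4, 7, 2, 7, 1, 2] true) (.nil))) (.node (.node (.leaf [0, 0, 2, 2, 2, 2, 5, 5, 2, 2, 4, 0, 5, 3] true) (.nil)) (.node (.leaf [9, 1, 4, 7, 3, 7, 2, 5, 8, 7, 7, 5, 3, 4, 7, 0, 7, 1, 6] true) (.nil)))) (.node (.node (.node (.leaf [0, 0, 0, 4, 4, 1, 4, 3, 0, 4, 3, 5, 2, 4] true)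 (.nil)) (.node (.leaf [9, 0, 0, 6, 4, 3, 4, 3, 8, 0, 5, 6, 3, 5, 2, 0, 2, 4, 1, 2] true) (.nil))) (.node (.node (.leaf [9, 6, 5, 1, 5, 3, 0, 0, 8, 7, 0, 4, 0, 5, 0, 2, 2, 4] true) (.nil)) (.node (.leaf [9, 2, 0, 3, 4, 1, 1, 7, 8, 2, 5, 2, 5, 0, 5, 1, 2, 6] true) (.nil)))))) (.node (.node (.node (.node (.node (.leaf [4, 7, 4, 7, 4, 7, 4, 7, 4, 7, 4, 7] true) (.leaf [9, 5, 3, 4, 7, 7, 7, 7, 8, 6, 2, 4, 4, 0, 2, 7, 1, 7, 7, 4] true)) (.node (.leaf [9, 4, 7, 7, 2, 0, 3, 1, 8, 2, 6, 4, 1, 2, 4, 6, 3, 1] true) (.nil))) (.node (.node (.leaf [0, 2, 2, 0, 2, 4, 0, 2, 2, 1, 3, 5, 1, 3] true) (.nil)) (.node (.leaf [9, 2, 4, 6, 5, 6, 4, 4, 8, 1, 3, 7, 2, 1, 7, 0, 5, 7, 4] true) (.nil)))) (.node (.node (.node (.leaf [0, 0, 2,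 5, 0, 3, 1, 3, 0, 5, 3, 5, 5, 3] true) (.nil)) (.node (.leaf [9, 6, 2, 6, 3, 7, 0, 3, 8, 1, 4, 7, 2, 0, 0, 0, 2, 1] true) (.nil))) (.node (.node (.leaf [9, 0, 6, 2, 6, 1, 4, 8, 1, 4, 7, 1, 2, 5, 0, 3, 1, 1] true) (.nil)) (.node (.leaf [9, 7, 0, 7, 3, 5, 5, 6, 8, 0, 4, 6, 2, 0, 5, 6, 6, 0, 5, 5, 1] true) (.nil))))) (.node (.node (.node (.node (.leaf [0, 0, 2, 1, 3, 3, 0, 0, 3, 1, 3, 0, 2] true) (.nil)) (.node (.leaf [9, 6, 0, 2, 0, 2, 2, 2, 8, 7, 3, 0, 0, 4, 0, 3, 1, 4, 2] true) (.nil))) (.node (.node (.leaf [0, 3, 7, 0, 5, 7, 7, 3, 4, 2, 2, 6, 1, 3] true) (.nil)) (.node (.leaf [9, 3, 0, 0, 3, 1, 7, 5, 8, 1, 1, 7, 7, 0, 3, 7, 2, 6, 5, 6, 4] true) (.nil)))) (.node (.node (.node (.leaf [0, 0, 3, 1, 2, 4, 0, 5, 0, 0,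 5, 1, 2, 5] true) (.nil)) (.node (.leaf [9, 5, 5, 3, 7, 1, 7, 3, 8, 7, 7, 3, 6, 5, 6, 2, 7, 5, 7, 4] true) (.nil))) (.node (.node (.leaf [9, 5, 6, 3, 6, 0, 5, 0, 8, 4, 4, 1, 1, 1, 2, 7, 4, 4, 6, 2] true) (.nil)) (.node (.leaf [9, 2, 1, 6, 2, 7, 3, 7, 8, 0, 3, 1, 1, 1, 3, 6, 5, 0] true) (.nil))))))) (.node (.node (.node (.node (.node (.node (.leaf [6, 6, 6, 6, 6, 6, 6, 6, 6, 6, 6] true) (.leaf [9, 3, 1, 4, 4, 2, 7, 7, 8, 4, 6, 4, 0, 2, 6, 6, 0, 0, 0, 3] true)) (.node (.leaf [9, 3, 3, 6, 1, 5, 1, 1, 8, 1, 5, 3, 6, 5, 1, 3, 5, 5, 1] true) (.nil))) (.node (.node (.leaf [0, 0, 2, 2, 0, 2, 2, 0, 3, 3, 3, 0, 3, 3] true) (.nil)) (.node (.leaf [9, 2, 5, 6, 6, 3, 3, 4, 8, 7, 5, 0, 4, 0, 0, 6, 0, 4, 0, 6] true) (.nil)))) (.node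 (.node (.node (.leaf [0, 2, 0, 3, 0, 2, 1, 4, 2, 4, 2, 4, 0, 3] true) (.nil)) (.node (.leaf [9, 2, 2, 6, 5, 1, 7, 2, 8, 2, 2, 5, 5, 3, 7, 4, 6, 6, 5, 7] true) (.nil))) (.node (.node (.leaf [9, 0, 5, 2, 4, 7, 1, 8, 4, 4, 3, 0, 6, 0, 5, 1, 3, 0, 7] true) (.nil)) (.node (.leaf [9, 0, 3, 5, 3, 6, 3, 6, 8, 4, 7, 3, 5, 0, 3, 4, 2, 7, 5] true) (.nil))))) (.node (.node (.node (.node (.leaf [2, 4, 2, 4, 2, 5, 2, 4, 2, 4, 2, 5, 5] true) (.leaf [6, 6, 6, 9, 9, 7, 8, 6, 8, 7, 9, 9] true)) (.node (.leaf [9, 4, 7, 1, 1, 2, 0, 2, 8, 3, 4, 4, 0, 3, 4, 6, 4, 6, 6, 1] true) (.nil))) (.node (.node (.leaf [0, 0, 2, 5, 3, 1, 2, 0, 3, 5, 0, 4, 4, 2] true) (.nil)) (.node (.leaf [9, 3, 1, 3, 0, 0, 6, 5, 8, 0, 7, 7, 5, 7, 5, 2, 1, 5, 5,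 2] true) (.nil)))) (.node (.node (.node (.leaf [2, 6, 2, 6, 2, 6, 2, 6, 2, 6, 2, 6, 2, 6] true) (.nil)) (.node (.leaf [9, 1, 4, 4, 6, 5, 5, 3, 8, 6, 4, 7, 1, 6, 0, 5, 3, 7, 5] true) (.nil))) (.node (.node (.leaf [9, 1, 4, 6, 4, 3, 3, 0, 8, 7, 5, 0, 7, 2, 4, 3, 4, 0, 0] true) (.nil)) (.node (.leaf [9, 3, 4, 0, 0, 5, 2, 7, 8, 4, 4, 0, 3, 4, 0, 5, 2, 5, 6] true) (.nil)))))) (.node (.node (.node (.node (.node (.leaf [0, 0, 2, 2, 0, 0, 2, 2, 0, 0, 2, 2] true) (.leaf [6, 7] true)) (.node (.leaf [9, 2, 0, 7, 7, 2, 5, 1, 8, 3, 1, 6, 0, 5, 3, 0, 5, 1, 6, 5] true) (.nil))) (.node (.node (.leaf [0, 2, 4, 3, 1, 4, 1, 2, 7, 2, 1, 2, 7, 2] true) (.nil)) (.node (.leaf [9, 2, 6, 0, 6, 2, 1, 5, 8, 5, 2, 5, 0, 0, 4, 6, 4, 7, 2, 1]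 true) (.nil)))) (.node (.node (.node (.leaf [0, 3, 3, 0, 4, 1, 4, 3, 5, 1, 4, 4, 1, 5] true) (.nil)) (.node (.leaf [9, 0, 4, 3, 6, 6, 1, 3, 8, 6, 0, 2, 1, 1, 6, 6, 0, 2, 1, 6] true) (.nil))) (.node (.node (.leaf [9, 0, 5, 1, 3, 7, 5, 8, 4, 2, 6, 1, 7, 7, 0, 5, 3, 4, 1] true) (.nil)) (.node (.leaf [9, 5, 3, 1, 5, 2, 6, 6, 8, 7, 7, 7, 3, 4, 0, 2, 4, 6] true) (.nil))))) (.node (.node (.node (.node (.leaf [0, 3, 5, 3, 5, 3, 0, 4, 0, 4, 0, 4, 0, 4] true) (.nil)) (.node (.leaf [9, 1, 3, 4, 7, 1, 4, 2, 8, 3, 0, 0, 6, 2, 7, 7, 0, 2, 0, 4] true) (.nil))) (.node (.node (.leaf [8, 8, 8, 8, 8, 8, 8, 8, 8, 8, 8] true) (.nil)) (.node (.leaf [9, 2, 4, 7, 1, 7, 7, 5, 8, 6, 5, 1, 4, 1, 3, 1, 6, 6, 3] true) (.nil)))) (.node (.node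 (.node (.leaf [0, 0, 2, 4, 2, 5, 2, 0, 0, 5, 2, 4, 3, 3] true) (.nil)) (.node (.leaf [9, 7, 7, 4, 2, 5, 1, 4, 8, 1, 2, 0, 0, 0, 5, 5, 3, 6, 5, 0, 4] true) (.nil))) (.node (.node (.leaf [9, 4, 3, 6, 2, 6, 5, 0, 8, 2, 6, 0, 6, 6, 3, 1, 6, 3, 3] true) (.nil)) (.node (.leaf [9, 3, 7, 3, 0, 2, 4, 7, 8, 5, 7, 4, 4, 6, 6, 2, 7, 5, 6, 1] true) (.nil)))))))))) (.node (.node (.node (.node (.node (.node (.node (.node (.node (.leaf [2] false) (.leaf [9, 0, 0, 2, 7, 3, 4, 7, 8, 6, 4, 4, 3, 6, 2, 5, 7, 7, 2, 4] true)) (.node (.leaf [9, 0, 3, 1, 1, 7, 5, 0, 8, 7, 4, 7, 2, 0, 0, 3, 7, 5, 6, 0, 5] true) (.nil))) (.node (.node (.leaf [0, 2, 4, 3, 0, 5, 5, 0, 2, 4, 3, 0, 5, 5] true) (.nil)) (.node (.leaf [9, 2, 0, 3, 1, 6, 1, 4, 8,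 6, 5, 6, 1, 3, 1, 2, 2, 7, 0, 6] true) (.nil)))) (.node (.node (.node (.leaf [0, 2, 1, 6, 1, 6, 3, 6, 1, 6, 2, 2, 2, 4] true) (.nil)) (.node (.leaf [9, 6, 6, 4, 1, 2, 5, 2, 8, 3, 3, 4, 0, 6, 3, 1, 1, 3, 3] true) (.nil))) (.node (.node (.leaf [9, 6, 5, 5, 6, 6, 8, 6, 6, 2, 1, 1, 6, 3, 4, 0, 6] true) (.nil)) (.node (.leaf [9, 5, 0, 3, 5, 7, 0, 6, 8, 6, 6, 5, 0, 2, 2, 0, 5, 7, 0, 4] true) (.nil))))) (.node (.node (.node (.node (.leaf [0, 4, 3, 4, 2, 5, 1, 2, 2, 5, 3, 5, 5] true) (.leaf [9, 8] true)) (.node (.leaf [9, 5, 6, 1, 3, 7, 5, 1, 8, 4, 1, 5, 3, 6, 1, 1, 7, 3, 7, 2] true) (.nil))) (.node (.node (.leaf [0, 0, 5, 1, 4, 1, 4, 2, 1, 4, 0, 5, 3, 3] true) (.nil)) (.node (.leaf [9, 6, 4, 6, 0, 0, 2, 5, 8, 3, 6, 3, 1,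 5, 2, 2, 7, 2, 5, 7] true) (.nil)))) (.node (.node (.node (.leaf [0, 2, 4, 1, 7, 2, 0, 2, 5, 5, 7, 1, 3, 3] true) (.nil)) (.node (.leaf [9, 0, 5, 7, 5, 6, 3, 3, 8, 4, 0, 7, 1, 3, 7, 0, 3, 0, 0, 3] true) (.nil))) (.node (.node (.leaf [9, 5, 1, 2, 1, 3, 7, 8, 0, 7, 4, 0, 7, 1, 7, 3, 6, 2] true) (.nil)) (.node (.leaf [9, 1, 4, 3, 5, 0, 0, 7, 8, 4, 3, 0, 0, 3, 1, 2, 0, 3, 6] true) (.nil)))))) (.node (.node (.node (.node (.node (.leaf [0, 2, 4, 1, 3, 5, 1, 2, 0, 5, 3, 5] true) (.leaf [9, 3, 4, 3, 0, 5, 7, 7, 8, 2, 2, 0, 0, 2, 7, 1, 5, 2, 2] true)) (.node (.leaf [9, 6, 1, 3, 4, 7, 1, 1, 8, 0, 5, 7, 2, 4, 3, 3, 3, 5, 1] true) (.nil))) (.node (.node (.leaf [0, 0, 4, 0, 5, 0, 5, 6, 3, 0, 3, 6, 0, 4] true) (.nil)) (.node (.leaf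 [9, 3, 0, 4, 0, 6, 3, 4, 8, 0, 3, 7, 2, 0, 0, 5, 1, 4, 4, 0] true) (.nil)))) (.node (.node (.node (.leaf [0, 2, 4, 0, 5, 2, 0, 3, 5, 0, 4, 1, 4, 4] true) (.nil)) (.node (.leaf [9, 0, 5, 1, 1, 4, 7, 2, 8, 7, 3, 7, 1, 5, 6, 5, 2, 5, 0, 4] true) (.nil))) (.node (.node (.leaf [9, 6, 5, 3, 4, 7, 2, 8, 1, 2, 5, 0, 7, 7, 4, 4, 2, 0, 4] true) (.nil)) (.node (.leaf [9, 1, 7, 0, 5, 3, 4, 6, 8, 2, 0, 2, 0, 4, 7, 1, 6, 6, 5, 5] true) (.nil))))) (.node (.node (.node (.node (.leaf [2, 4, 4, 4, 4, 2, 5, 2, 5, 2, 5, 2, 5] true) (.leaf [0, 8, 0, 8, 0, 8, 0, 8, 0, 8, 0, 8] true)) (.node (.leaf [9, 4, 6, 0, 2, 1, 1, 2, 8, 2, 7, 0, 2, 0, 6, 5, 5, 1, 3, 0, 7] true) (.nil))) (.node (.node (.leaf [0, 4, 0, 4, 1, 3, 4, 1, 4, 1, 4, 1, 5,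 3] true) (.nil)) (.node (.leaf [9, 7, 4, 7, 2, 4, 6, 5, 8, 6, 4, 3, 5, 5, 6, 6, 3, 5] true) (.nil)))) (.node (.node (.node (.leaf [0, 2, 0, 2, 4, 4, 2, 4, 0, 4, 0, 5, 1, 5] true) (.nil)) (.node (.leaf [9, 4, 0, 7, 4, 7, 5, 3, 8, 3, 0, 3, 4, 3, 5, 1, 5, 6, 6, 6] true) (.nil))) (.node (.node (.leaf [9, 4, 6, 2, 5, 6, 3, 0, 8, 4, 6, 0, 5, 5, 0, 4, 1, 4, 2] true) (.nil)) (.node (.leaf [9, 5, 0, 4, 7, 0, 3, 7, 8, 4, 7, 7, 5, 6, 5, 6, 4, 0, 7, 0] true) (.nil))))))) (.node (.node (.node (.node (.node (.node (.leaf [0, 5, 0, 5, 0, 5, 0, 5, 0, 5] true) (.leaf [9, 7, 4, 7, 1, 6, 5, 7, 8, 0, 2, 0, 2, 4, 1, 4, 3, 0, 6, 5] true)) (.node (.leaf [9, 7, 7, 1, 1, 2, 1, 1, 8, 0, 2, 4, 0, 7, 7, 7, 3, 0] true) (.nil))) (.node (.node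 (.leaf [0, 0, 4, 3, 4, 3, 0, 4, 0, 3, 4, 0, 2, 2] true) (.nil)) (.node (.leaf [9, 6, 6, 6, 6, 5, 2, 4, 8, 5, 6, 6, 0, 6, 3, 1, 5, 5, 3, 7] true) (.nil)))) (.node (.node (.node (.leaf [0, 0, 3, 3, 3, 4, 4, 4, 2, 2, 4, 0, 5, 3] true) (.nil)) (.node (.leaf [9, 7, 4, 7, 3, 4, 6, 2, 8, 6, 5, 0, 4, 3, 0, 6, 4, 1, 4, 7] true) (.nil))) (.node (.node (.leaf [9, 0, 6, 5, 3, 4, 1, 8, 6, 1, 2, 0, 4, 1, 7, 1, 2, 5, 5] true) (.nil)) (.node (.leaf [9, 7, 5, 7, 1, 7, 2, 6, 8, 6, 6, 3, 0, 0, 7, 7, 1, 1, 5, 3] true) (.nil))))) (.node (.node (.node (.node (.leaf [0, 0, 0, 0, 3, 1, 1, 2, 2, 0, 0, 3, 3] true) (.leaf [0, 0, 3, 7, 7, 9, 7, 7, 5, 5, 5, 9, 1, 5, 2, 7] true)) (.node (.leaf [9, 4, 7, 5, 5, 3, 7, 1, 8, 2, 0, 7, 2, 7, 7, 0,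 0, 6, 2, 6] true) (.nil))) (.node (.node (.leaf [0, 4, 3, 4, 2, 5, 1, 3, 3, 3, 3, 4, 2, 5] true) (.nil)) (.node (.leaf [9, 7, 3, 1, 6, 0, 3, 5, 8, 6, 5, 0, 3, 0, 7, 0, 6, 3, 0, 0] true) (.nil)))) (.node (.node (.node (.leaf [0, 0, 3, 0, 2, 1, 3, 1, 3, 0, 3, 0, 2, 2] true) (.nil)) (.node (.leaf [9, 2, 6, 5, 5, 7, 4, 3, 8, 1, 4, 2, 2, 6, 4, 2, 5, 3, 1, 1] true) (.nil))) (.node (.node (.leaf [9, 2, 0, 3, 5, 7, 0, 0, 8, 3, 3, 6, 1, 4, 7, 1, 1, 4, 1, 5] true) (.nil)) (.node (.leaf [9, 5, 2, 7, 5, 3, 1, 7, 8, 5, 6, 1, 1, 1, 6, 1, 5, 3, 4, 3] true) (.nil)))))) (.node (.node (.node (.node (.node (.leaf [0, 2, 1, 2, 0, 2, 1, 2, 0, 2, 1, 2] true) (.leaf [1, 0] true)) (.node (.leaf [9, 1, 2, 7, 4, 0, 4, 1, 8, 4, 3, 4, 2, 1,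 2, 0, 4, 4, 6] true) (.nil))) (.node (.node (.leaf [0, 2, 0, 2, 4, 3, 5, 3, 0, 4, 0, 5, 1, 5] true) (.nil)) (.node (.leaf [9, 1, 4, 1, 7, 2, 7, 4, 8, 2, 6, 1, 2, 1, 7, 5, 2, 7, 1, 3] true) (.nil)))) (.node (.node (.node (.leaf [0, 0, 0, 0, 4, 0, 2, 4, 3, 0, 2, 4, 3, 3] true) (.nil)) (.node (.leaf [9, 1, 1, 6, 4, 2, 1, 3, 8, 4, 0, 5, 0, 0, 6, 5, 0, 7, 2, 2] true) (.nil))) (.node (.node (.leaf [9, 3, 7, 5, 2, 0, 5, 8, 7, 2, 5, 3, 6, 4, 3, 7, 7, 5] true) (.nil)) (.node (.leaf [9, 5, 5, 1, 1, 6, 5, 6, 8, 4, 1, 7, 7, 1, 6, 3, 1, 5, 2, 5] true) (.nil))))) (.node (.node (.node (.node (.leaf [0, 4, 4, 4, 4, 0, 5, 0, 5, 0, 5, 0, 5] true) (.nil)) (.node (.leaf [9, 7, 7, 0, 2, 5, 2, 2, 8, 1, 1, 1, 2, 7, 5, 6, 1, 5, 7, 7] true)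 (.nil))) (.node (.node (.leaf [0, 0, 7, 2, 2, 2, 6, 5, 5, 7, 3, 3, 6, 2] true) (.nil)) (.node (.leaf [9, 4, 3, 6, 5, 2, 7, 5, 8, 4, 0, 3, 1, 6, 5, 2, 6, 3, 3, 0] true) (.nil)))) (.node (.node (.node (.leaf [0, 0, 0, 2, 0, 2, 4, 3, 5, 0, 0, 0, 2, 5] true) (.nil)) (.node (.leaf [9, 6, 2, 4, 0, 0, 0, 4, 8, 5, 3, 4, 0, 5, 3, 6, 0, 0, 4] true) (.nil))) (.node (.node (.leaf [9, 6, 5, 0, 5, 2, 5, 0, 8, 7, 2, 0, 3, 5, 5, 3, 1, 1, 1] true) (.nil)) (.node (.leaf [9, 5, 3, 3, 7, 0, 4, 7, 8, 0, 5, 2, 4, 4, 2, 7, 0, 4, 1, 2] true) (.nil)))))))) (.node (.node (.node (.node (.node (.node (.node (.leaf [2, 4, 2, 4, 2, 4] true) (.leaf [9, 4, 2, 2, 4, 0, 5, 7, 8, 4, 4, 1, 2, 5, 7, 3, 1, 1] true)) (.node (.leaf [9, 2, 4, 3, 6, 3, 6,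 0, 8, 3, 1, 6, 6, 3, 3, 4, 6, 3, 3, 6] true) (.nil))) (.node (.node (.leaf [0, 3, 0, 3, 4, 1, 3, 3, 4, 4, 1, 5, 2, 2] true) (.nil)) (.node (.leaf [9, 5, 5, 0, 6, 0, 2, 4, 8, 5, 5, 7, 3, 4, 0, 5, 2, 7, 2, 2] true) (.nil)))) (.node (.node (.node (.leaf [0, 3, 0, 4, 6, 2, 1, 7, 1, 2, 4, 0, 4, 7] true) (.nil)) (.node (.leaf [9, 3, 3, 5, 2, 0, 6, 2, 8, 7, 4, 6, 3, 5, 2, 1, 2, 7, 5, 0] true) (.nil))) (.node (.node (.leaf [9, 7, 5, 7, 3, 3, 0, 8, 7, 0, 0, 4, 6, 2, 0, 7, 2, 6] true) (.nil)) (.node (.leaf [9, 4, 2, 1, 7, 0, 2, 6, 8, 6, 3, 6, 3, 3, 3, 1, 4, 0, 2, 7] true) (.nil))))) (.node (.node (.node (.node (.leaf [0, 0, 0, 5, 5, 0, 4, 0, 5, 1, 4, 1, 3] true) (.leaf [6, 6, 6, 9, 9, 7, 8, 6, 8, 7, 9, 9] true)) (.node (.leaf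 [9, 0, 6, 5, 7, 1, 6, 1, 8, 1, 3, 4, 7, 1, 5, 1, 1, 2, 4] true) (.nil))) (.node (.node (.leaf [0, 2, 1, 2, 5, 2, 2, 0, 2, 1, 2, 5, 2, 2] true) (.nil)) (.node (.leaf [9, 1, 4, 7, 2, 5, 2, 5, 8, 4, 1, 7, 7, 3, 6, 1, 3, 1, 4] true) (.nil)))) (.node (.node (.node (.leaf [0, 0, 2, 1, 2, 5, 1, 2, 0, 4, 2, 5, 2, 5] true) (.nil)) (.node (.leaf [9, 6, 0, 3, 1, 3, 4, 3, 8, 7, 4, 0, 0, 5, 3, 0, 3, 1, 5, 0] true) (.nil))) (.node (.node (.leaf [9, 4, 3, 4, 4, 7, 7, 8, 2, 1, 4, 0, 2, 4, 6, 6, 6, 6] true) (.nil)) (.node (.leaf [9, 0, 4, 7, 5, 7, 0, 7, 8, 0, 7, 1, 3, 6, 3, 4, 6, 1, 2] true) (.nil)))))) (.node (.node (.node (.node (.node (.leaf [0, 3, 3, 0, 5, 2, 0, 3, 3, 0, 5, 2] true) (.leaf [9, 4, 6, 3, 5, 7, 7, 7, 8, 0, 7, 7,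 0, 6, 3, 5] true)) (.node (.leaf [9, 7, 2, 7, 2, 4, 2, 1, 8, 4, 6, 3, 5, 2, 1, 4, 2, 6, 5] true) (.nil))) (.node (.node (.leaf [0, 2, 0, 7, 5, 7, 3, 4, 6, 0, 3, 5, 2, 5] true) (.nil)) (.node (.leaf [9, 2, 6, 0, 6, 2, 4, 4, 8, 5, 6, 4, 6, 3, 7, 4, 7, 2, 6, 6] true) (.nil)))) (.node (.node (.node (.leaf [0, 0, 2, 2, 2, 2, 0, 3, 1, 2, 0, 3, 0, 3] true) (.nil)) (.node (.leaf [9, 3, 5, 0, 6, 3, 0, 3, 8, 0, 5, 5, 1, 5, 2, 1, 3, 1, 4, 6] true) (.nil))) (.node (.node (.leaf [9, 6, 5, 2, 5, 1, 4, 8, 7, 4, 3, 5, 5, 0, 4, 3, 3, 1, 2] true) (.nil)) (.node (.leaf [9, 5, 6, 5, 1, 5, 5, 6, 8, 3, 5, 0, 2, 1, 3, 4, 4, 7, 2, 6] true) (.nil))))) (.node (.node (.node (.node (.leaf [0, 0, 3, 0, 3, 4, 0, 2, 2, 1, 3, 5, 3] true) (.nil))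 (.node (.leaf [9, 6, 2, 1, 5, 7, 1, 2, 8, 4, 4, 2, 6, 0, 0, 6, 0, 7, 4, 1, 1] true) (.nil))) (.node (.node (.leaf [0, 0, 0, 0, 4, 2, 0, 2, 1, 1, 4, 3, 5, 3] true) (.nil)) (.node (.leaf [9, 0, 2, 1, 3, 6, 6, 5, 8, 0, 2, 7, 5, 3, 0, 5, 7, 3] true) (.nil)))) (.node (.node (.node (.leaf [0, 0, 4, 3, 7, 0, 2, 7, 3, 0, 3, 4, 2, 4] true) (.nil)) (.node (.leaf [9, 4, 0, 3, 7, 1, 7, 3, 8, 2, 5, 2, 0, 0, 5, 7, 7, 5, 2, 5] true) (.nil))) (.node (.node (.leaf [9, 0, 7, 0, 6, 0, 5, 0, 8, 7, 4, 7, 3, 5, 0, 6, 4, 3, 6, 5] true) (.nil)) (.node (.leaf [9, 5, 1, 1, 1, 5, 3, 7, 8, 5, 1, 1, 7, 2, 4, 1, 5, 2, 4] true) (.nil))))))) (.node (.node (.node (.node (.node (.node (.leaf [0, 6, 0, 6, 0, 6, 0, 6, 0, 6] true) (.leaf [9, 4, 3, 4,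 1, 1, 7, 7, 8, 6, 0, 0, 3, 0, 2, 2, 4, 3, 6] true)) (.node (.leaf [9, 6, 5, 0, 7, 4, 1, 1, 8, 7, 0, 3, 1, 1, 2, 5, 0, 7, 0, 3] true) (.nil))) (.node (.node (.leaf [0, 2, 4, 1, 4, 2, 4, 2, 1, 2, 0, 2, 4, 2] true) (.nil)) (.node (.leaf [9, 6, 2, 0, 0, 3, 3, 4, 8, 7, 5, 2, 5, 5, 2, 5, 2, 4, 4] true) (.nil)))) (.node (.node (.node (.leaf [0, 3, 4, 0, 3, 5, 5, 0, 3, 4, 0, 3, 5, 5] true) (.nil)) (.node (.leaf [9, 6, 6, 3, 4, 1, 7, 2, 8, 1, 7, 4, 0, 3, 0, 7, 1, 7, 2, 5] true) (.nil))) (.node (.node (.leaf [9, 1, 4, 1, 4, 7, 1, 8, 1, 1, 6, 4, 7, 4, 4, 0, 4, 6] true) (.nil)) (.node (.leaf [9, 0, 5, 2, 2, 6, 3, 6, 8, 2, 4, 6, 6, 4, 0, 2, 1, 4, 1, 3] true) (.nil))))) (.node (.node (.node (.node (.leaf [0, 0, 3, 3, 3, 5, 5,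 2, 2, 4, 0, 5, 3] true) (.leaf [6, 6, 6, 6, 9, 7, 7, 7, 8, 6, 6, 8, 7, 7, 7, 9] true)) (.node (.leaf [9, 5, 0, 7, 3, 0, 0, 2, 8, 7, 4, 3, 1, 2, 0, 5, 6, 0, 3, 0] true) (.nil))) (.node (.node (.leaf [0, 0, 0, 5, 5, 1, 2, 5, 3, 4, 3, 4, 2, 5] true) (.nil)) (.node (.leaf [9, 1, 4, 0, 6, 6, 5, 5, 8, 1, 4, 0, 2, 6, 5, 2, 5, 7] true) (.nil)))) (.node (.node (.node (.leaf [0, 4, 3, 4, 2, 5, 1, 2, 2, 5, 3, 4, 4, 4] true) (.nil)) (.node (.leaf [9, 1, 7, 2, 7, 2, 5, 3, 8, 7, 2, 2, 7, 5, 2, 2, 7, 7, 0, 2] true) (.nil))) (.node (.node (.leaf [9, 7, 2, 7, 1, 3, 3, 0, 8, 3, 1, 5, 0, 5, 3, 4, 4, 6, 5, 5] true) (.nil)) (.node (.leaf [9, 4, 6, 4, 4, 1, 2, 7, 8, 7, 1, 6, 1, 1, 6, 3, 3, 0, 7, 5] true) (.nil)))))) (.node (.node (.node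 (.node (.node (.leaf [0, 7, 4, 0, 7, 4, 0, 7, 4, 0, 7, 4] true) (.leaf [5, 4] true)) (.node (.leaf [9, 6, 3, 0, 5, 0, 5, 1, 8, 5, 1, 3, 0, 4, 1, 1, 2, 5, 7, 5] true) (.nil))) (.node (.node (.leaf [0, 0, 2, 5, 5, 0, 3, 6, 2, 5, 5, 2, 1, 6] true) (.nil)) (.node (.leaf [9, 7, 4, 4, 6, 1, 1, 5, 8, 6, 4, 4, 2, 1, 4, 2, 5, 5, 0, 6] true) (.nil)))) (.node (.node (.node (.leaf [0, 3, 5, 3, 5, 2, 5, 3, 0, 4, 2, 2, 5, 3] true) (.nil)) (.node (.leaf [9, 1, 3, 1, 4, 6, 1, 3, 8, 0, 4, 1, 3, 6, 3, 3, 4, 1] true) (.nil))) (.node (.node (.leaf [9, 4, 1, 2, 4, 6, 5, 8, 2, 5, 3, 3, 4, 7, 1, 5, 2, 1, 5] true) (.nil)) (.node (.leaf [9, 3, 3, 4, 3, 1, 6, 6, 8, 6, 6, 4, 0, 7, 4, 6, 3, 0, 0, 0] true) (.nil))))) (.node (.node (.node (.node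 (.leaf [0, 0, 4, 0, 4, 0, 3, 5, 3, 4, 1, 4, 1, 2] true) (.nil)) (.node (.leaf [9, 2, 1, 2, 7, 1, 4, 2, 8, 1, 1, 6, 0, 0, 7, 1, 3, 5, 7, 4] true) (.nil))) (.node (.node (.leaf [0, 3, 4, 2, 2, 7, 1, 6, 2, 1, 2, 6, 4, 2] true) (.nil)) (.node (.leaf [9, 6, 3, 0, 5, 5, 7, 5, 8, 4, 6, 1, 2, 2, 7, 0, 0, 7, 0, 6] true) (.nil)))) (.node (.node (.node (.leaf [0, 2, 0, 3, 0, 5, 3, 5, 3, 5, 1, 3, 0, 3] true) (.nil)) (.node (.leaf [9, 6, 0, 4, 7, 4, 1, 4, 8, 2, 7, 7, 3, 5, 3, 0, 7, 4, 3, 7] true) (.nil))) (.node (.node (.leaf [9, 3, 3, 4, 0, 6, 5, 0, 8, 7, 3, 5, 5, 6, 3, 6, 5, 2, 1] true) (.nil)) (.node (.leaf [9, 0, 0, 5, 6, 1, 4, 7, 8, 2, 1, 6, 1, 4, 3, 0, 0, 2, 1, 6] true) (.nil))))))))) (.node (.node (.node (.node (.node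 (.node (.node (.node (.leaf [6] false) (.leaf [9, 7, 0, 4, 6, 6, 4, 7, 8, 6, 0, 0, 6, 5, 5, 6, 3, 1, 7, 3] true)) (.node (.leaf [9, 7, 5, 2, 4, 1, 6, 0, 8, 0, 6, 2, 0, 7, 5, 1, 2, 1, 5, 5] true) (.nil))) (.node (.node (.leaf [0, 2, 1, 2, 0, 2, 2, 2, 1, 3, 3, 3, 1, 3] true) (.nil)) (.node (.leaf [9, 2, 2, 5, 2, 6, 1, 4, 8, 1, 7, 5, 7, 7, 0, 6, 6, 2, 0] true) (.nil)))) (.node (.node (.node (.leaf [0, 2, 2, 1, 5, 1, 4, 2, 0, 5, 0, 4, 0, 3] true) (.nil)) (.node (.leaf [9, 3, 6, 2, 4, 2, 5, 2, 8, 0, 3, 7, 5, 2, 2, 0, 2, 1, 5] true) (.nil))) (.node (.node (.leaf [9, 7, 7, 4, 4, 7, 8, 7, 1, 5, 2, 7, 0, 0, 3, 7, 7] true) (.nil)) (.node (.leaf [9, 6, 5, 7, 7, 5, 1, 6, 8, 2, 6, 0, 2, 7, 4, 4, 7, 1, 1, 7] true) (.nil))))) (.node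 (.node (.node (.node (.leaf [0, 0, 0, 2, 2, 5, 3, 1, 2, 5, 3, 1, 5] true) (.leaf [6, 6, 9, 7, 8, 8, 7, 9] true)) (.node (.leaf [9, 1, 4, 1, 7, 1, 6, 1, 8, 7, 3, 6, 1, 7, 5, 6, 6, 5, 6, 2] true) (.nil))) (.node (.node (.leaf [0, 0, 5, 0, 5, 0, 2, 5, 5, 2, 1, 2, 5, 5] true) (.nil)) (.node (.leaf [9, 5, 1, 1, 7, 1, 2, 5, 8, 4, 2, 5, 0, 6, 1, 1, 3, 1, 6, 5] true) (.nil)))) (.node (.node (.node (.leaf [0, 0, 2, 6, 2, 1, 2, 5, 3, 1, 5, 5, 1, 6] true) (.nil)) (.node (.leaf [9, 0, 6, 0, 5, 7, 3, 3, 8, 0, 3, 4, 3, 5, 0, 7, 2, 1, 2] true) (.nil))) (.node (.node (.leaf [9, 5, 0, 4, 3, 4, 7, 8, 3, 0, 2, 2, 5, 1, 4, 4, 2, 5, 6] true) (.nil)) (.node (.leaf [9, 6, 6, 1, 2, 5, 0, 7, 8, 4, 4, 0, 0, 2, 4, 3, 3, 0, 0, 7] true) (.nil))))))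 (.node (.node (.node (.node (.node (.leaf [0, 0, 3, 0, 2, 1, 3, 3, 1, 2, 1, 2] true) (.leaf [9, 6, 4, 0, 2, 7, 7, 7, 8, 6, 6, 0, 2, 1, 2, 5, 3, 1, 1, 4] true)) (.node (.leaf [9, 1, 4, 6, 0, 0, 2, 1, 8, 6, 3, 0, 3, 0, 2, 6, 1, 2, 4, 7, 3] true) (.nil))) (.node (.node (.leaf [0, 4, 3, 6, 5, 2, 5, 5, 6, 6, 3, 3, 4, 6] true) (.nil)) (.node (.leaf [9, 7, 4, 7, 0, 0, 4, 4, 8, 4, 3, 4, 0, 2, 7, 0, 6, 6, 0, 5] true) (.nil)))) (.node (.node (.node (.leaf [0, 0, 3, 4, 1, 4, 4, 2, 2, 2, 2, 0, 0, 5] true) (.nil)) (.node (.leaf [9, 4, 7, 5, 1, 5, 7, 2, 8, 2, 6, 0, 4, 6, 6, 2, 4, 2, 2, 0] true) (.nil))) (.node (.node (.leaf [9, 2, 1, 6, 1, 3, 3, 8, 0, 0, 0, 4, 3, 1, 6, 6, 3, 1, 6] true) (.nil)) (.node (.leaf [9, 7, 2, 7, 1, 6,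 4, 6, 8, 0, 7, 3, 7, 0, 5, 1, 3, 7, 3, 5] true) (.nil))))) (.node (.node (.node (.node (.leaf [0, 4, 3, 4, 2, 5, 1, 2, 2, 2, 4, 2, 5] true) (.nil)) (.node (.leaf [9, 4, 7, 4, 0, 4, 1, 2, 8, 0, 2, 1, 1, 6, 6, 2, 6, 4, 1] true) (.nil))) (.node (.node (.leaf [0, 4, 6, 6, 3, 4, 7, 7, 4, 2, 7, 7, 5, 2] true) (.nil)) (.node (.leaf [9, 3, 0, 5, 1, 5, 6, 5, 8, 0, 5, 7, 3, 7, 7, 0, 0, 3, 1] true) (.nil)))) (.node (.node (.node (.leaf [0, 0, 2, 0, 0, 2, 2, 2, 0, 0, 3, 3, 1, 2] true) (.nil)) (.node (.leaf [9, 6, 1, 7, 0, 2, 6, 3, 8, 0, 6, 4, 0, 2, 7, 5, 2, 4, 1, 3] true) (.nil))) (.node (.node (.leaf [9, 5, 3, 7, 5, 7, 3, 0, 8, 1, 6, 1, 3, 7, 3, 1, 7, 7, 2] true) (.nil)) (.node (.leaf [9, 0, 0, 6, 3, 1, 3, 7, 8, 7, 2, 2, 2,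 5, 0, 4, 7, 3, 4] true) (.nil))))))) (.node (.node (.node (.node (.node (.node (.leaf [2, 5, 2, 5, 2, 5, 2, 5, 2, 5] true) (.leaf [9, 4, 3, 1, 1, 7, 5, 7, 8, 3, 0, 4, 4, 7, 1, 4, 0, 7, 0, 4] true)) (.node (.leaf [9, 1, 7, 2, 7, 3, 1, 1, 8, 1, 6, 4, 1, 1, 1, 4, 7, 1, 1, 2] true) (.nil))) (.node (.node (.leaf [0, 2, 4, 1, 3, 4, 1, 5, 2, 5, 5, 3, 1, 3] true) (.nil)) (.node (.leaf [9, 7, 0, 3, 5, 7, 2, 4, 8, 6, 4, 3, 1, 4, 4, 2, 0, 4, 2] true) (.nil)))) (.node (.node (.node (.leaf [0, 0, 3, 1, 3, 3, 3, 0, 3, 1, 3, 3, 0, 2] true) (.nil)) (.node (.leaf [9, 3, 4, 3, 3, 0, 7, 2, 8, 1, 4, 3, 5, 1, 7, 1, 3, 3] true) (.nil))) (.node (.node (.leaf [9, 1, 1, 1, 2, 7, 1, 8, 6, 6, 4, 7, 0, 5, 6, 1, 6, 1, 4] true) (.nil)) (.node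 (.leaf [9, 1, 2, 2, 0, 6, 3, 6, 8, 3, 1, 6, 2, 5, 5, 2, 1, 7, 7, 7] true) (.nil))))) (.node (.node (.node (.node (.leaf [0, 0, 3, 4, 1, 4, 4, 3, 3, 3, 0, 0, 5] true) (.leaf [6, 9, 6, 9] true)) (.node (.leaf [9, 3, 1, 3, 3, 4, 7, 1, 8, 4, 3, 6, 3, 6, 0, 4, 0, 3, 3] true) (.nil))) (.node (.node (.leaf [0, 2, 2, 2, 6, 3, 1, 6, 1, 3, 0, 5, 1, 5] true) (.nil)) (.node (.leaf [9, 7, 5, 7, 4, 3, 3, 5, 8, 2, 6, 0, 0, 4, 1, 5, 7, 7, 3, 3] true) (.nil)))) (.node (.node (.node (.leaf [0, 2, 1, 5, 2, 2, 5, 0, 2, 1, 5, 2, 2, 5] true) (.nil)) (.node (.leaf [9, 6, 5, 2, 6, 2, 5, 3, 8, 7, 4, 6, 1, 3, 6, 3, 4, 7, 1] true) (.nil))) (.node (.node (.leaf [9, 3, 5, 0, 6, 5, 2, 0, 8, 5, 2, 2, 0, 7, 1, 3, 7, 4, 1, 2] true) (.nil)) (.node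 (.leaf [9, 5, 0, 5, 6, 5, 1, 7, 8, 7, 7, 0, 4, 3, 6, 4, 4, 6, 4, 1] true) (.nil)))))) (.node (.node (.node (.node (.node (.leaf [0, 2, 0, 2, 0, 2, 0, 2, 0, 2, 0, 2] true) (.leaf [3, 2] true)) (.node (.leaf [9, 0, 7, 0, 6, 3, 4, 1, 8, 6, 3, 1, 5, 7, 7, 5, 6, 1, 3] true) (.nil))) (.node (.node (.leaf [0, 3, 3, 4, 2, 1, 6, 1, 5, 5, 3, 7, 1, 3] true) (.nil)) (.node (.leaf [9, 3, 6, 4, 0, 3, 0, 5, 8, 6, 1, 2, 7, 5, 2, 4, 0, 4, 4, 6] true) (.nil)))) (.node (.node (.node (.leaf [0, 0, 4, 0, 7, 2, 1, 2, 7, 4, 1, 4, 0, 4] true) (.nil)) (.node (.leaf [9, 7, 7, 2, 1, 3, 1, 3, 8, 2, 2, 1, 1, 5, 3, 6, 0, 4, 4, 2] true) (.nil))) (.node (.node (.leaf [9, 6, 6, 5, 5, 2, 5, 8, 7, 7, 7, 7, 5, 3, 1, 5, 0, 3] true) (.nil)) (.node (.leaf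 [9, 4, 7, 5, 3, 6, 5, 6, 8, 4, 2, 7, 7, 4, 4, 2, 5, 7] true) (.nil))))) (.node (.node (.node (.node (.leaf [0, 0, 0, 3, 0, 3, 0, 0, 2, 2, 1, 2, 1, 2] true) (.nil)) (.node (.leaf [9, 5, 3, 3, 4, 7, 2, 2, 8, 2, 6, 4, 4, 7, 2, 6, 2, 2, 2, 6] true) (.nil))) (.node (.node (.leaf [0, 0, 0, 3, 1, 1, 6, 1, 6, 3, 6, 0, 3, 6] true) (.nil)) (.node (.leaf [9, 6, 5, 3, 0, 3, 7, 5, 8, 1, 1, 6, 6, 6, 1, 1, 3, 7, 5, 5] true) (.nil)))) (.node (.node (.node (.leaf [0, 2, 1, 5, 5, 2, 2, 4, 0, 5, 1, 2, 1, 3] true) (.nil)) (.node (.leaf [9, 0, 0, 5, 3, 7, 0, 4, 8, 0, 0, 7, 0, 0, 5, 5, 6, 2, 4, 7] true) (.nil))) (.node (.node (.leaf [9, 7, 3, 4, 7, 3, 5, 0, 8, 4, 0, 6, 5, 0, 3, 6, 5] true) (.nil)) (.node (.leaf [9, 1, 4, 3, 4, 1, 4, 7,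 8, 0, 0, 0, 2, 4, 4, 2, 1, 3, 6] true) (.nil)))))))) (.node (.node (.node (.node (.node (.node (.node (.leaf [2, 2, 2, 2, 2, 2, 2] true) (.leaf [9, 3, 5, 2, 0, 3, 5, 7, 8, 5, 1, 3, 1, 2, 5, 2, 4, 0, 6] true)) (.node (.leaf [9, 4, 2, 1, 7, 1, 7, 0, 8, 1, 5, 3, 6, 2, 5, 6, 0, 3, 6, 3] true) (.nil))) (.node (.node (.leaf [0, 0, 2, 0, 2, 2, 0, 3, 0, 0, 2, 2, 1, 3] true) (.nil)) (.node (.leaf [9, 3, 3, 6, 5, 2, 2, 4, 8, 7, 3, 3, 3, 7, 3, 6, 5, 5, 7, 3] true) (.nil)))) (.node (.node (.node (.leaf [0, 2, 2, 0, 6, 2, 4, 6, 4, 4, 6, 3, 6, 3] true) (.nil)) (.node (.leaf [9, 7, 1, 2, 6, 2, 6, 2, 8, 1, 1, 6, 0, 2, 2, 0, 2, 1, 6, 1] true) (.nil))) (.node (.node (.leaf [9, 0, 6, 5, 0, 5, 0, 8, 7, 5, 1, 5, 5, 6, 5, 7, 0, 0] true)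 (.nil)) (.node (.leaf [9, 1, 5, 6, 1, 4, 2, 6, 8, 6, 3, 4, 1, 2, 0, 6, 1, 1, 6, 0] true) (.nil))))) (.node (.node (.node (.node (.leaf [0, 2, 1, 4, 6, 4, 2, 1, 5, 7, 1, 3, 7] true) (.leaf [0, 2, 7, 5, 8, 5, 5, 0, 3, 9, 9, 0, 7, 0, 6, 3] true)) (.node (.leaf [9, 2, 2, 6, 4, 1, 7, 1, 8, 3, 0, 3, 6, 1, 4, 2, 5, 2, 1] true) (.nil))) (.node (.node (.leaf [0, 0, 2, 2, 2, 0, 3, 0, 2, 0, 0, 3, 0, 3] true) (.nil)) (.node (.leaf [9, 4, 6, 3, 4, 7, 2, 5, 8, 1, 6, 1, 4, 6, 4, 7, 2, 4, 0, 6] true) (.nil)))) (.node (.node (.node (.leaf [0, 2, 0, 4, 2, 4, 2, 4, 0, 2, 1, 3, 0, 3] true) (.nil)) (.node (.leaf [9, 0, 4, 7, 0, 6, 4, 3, 8, 0, 0, 5, 1, 3, 5, 7, 7, 3, 6, 0] true) (.nil))) (.node (.node (.leaf [9, 0, 0, 6, 1, 5, 0, 0, 8,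 7, 0, 2, 2, 5, 2, 0, 4, 7, 2, 2] true) (.nil)) (.node (.leaf [9, 2, 5, 2, 0, 2, 1, 7, 8, 4, 0, 3, 0, 3, 3, 4, 4, 1, 2, 6] true) (.nil)))))) (.node (.node (.node (.node (.node (.leaf [0, 4, 0, 4, 1, 3, 0, 5, 0, 5, 5, 3] true) (.leaf [9, 1, 2, 7, 7, 7, 7, 7, 8, 1, 3, 0, 0, 7, 2, 6, 3, 5, 5, 3] true)) (.node (.leaf [9, 6, 2, 5, 7, 5, 3, 1, 8, 6, 5, 2, 1, 3, 5, 0, 0, 4, 4] true) (.nil))) (.node (.node (.leaf [0, 0, 0, 3, 4, 3, 3, 0, 3, 3, 3, 3, 0, 4] true) (.nil)) (.node (.leaf [9, 4, 0, 7, 4, 6, 6, 4, 8, 7, 1, 7, 0, 6, 0, 5, 7, 5, 3, 0] true) (.nil)))) (.node (.node (.node (.leaf [0, 0, 3, 3, 3, 0, 2, 0, 2, 2, 1, 2, 1, 3] true) (.nil)) (.node (.leaf [9, 7, 2, 7, 7, 1, 1, 3, 8, 0, 6, 0, 2, 2, 4, 0, 0, 7, 2, 4] true)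 (.nil))) (.node (.node (.leaf [9, 1, 2, 7, 5, 2, 4, 8, 7, 2, 7, 0, 4, 1, 3, 5, 7, 7, 1] true) (.nil)) (.node (.leaf [9, 4, 0, 0, 7, 5, 5, 6, 8, 1, 2, 2, 4, 1, 6, 1, 5, 3, 6, 4] true) (.nil))))) (.node (.node (.node (.node (.leaf [0, 0, 3, 0, 3, 3, 1, 3, 3, 1, 2, 0, 3] true) (.nil)) (.node (.leaf [9, 3, 7, 1, 3, 4, 2, 2, 8, 1, 4, 6, 3, 0, 3, 4, 2, 7, 5, 6] true) (.nil))) (.node (.node (.leaf [0, 3, 0, 3, 0, 3, 0, 3, 0, 3, 0, 3, 0, 3] true) (.nil)) (.node (.leaf [9, 4, 3, 0, 0, 2, 7, 5, 8, 3, 7, 2, 1, 2, 0, 0, 4, 3, 6, 2] true) (.nil)))) (.node (.node (.node (.leaf [0, 4, 1, 7, 7, 3, 6, 3, 7, 2, 7, 1, 2, 4] true) (.nil)) (.node (.leaf [9, 2, 5, 6, 4, 4, 7, 3, 8, 3, 0, 6, 0, 2, 7, 0, 5, 0, 7, 3] true) (.nil))) (.node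 (.node (.leaf [9, 4, 4, 7, 7, 1, 5, 0, 8, 6, 4, 3, 4, 7, 3, 1, 5, 0] true) (.nil)) (.node (.leaf [9, 5, 2, 0, 4, 7, 3, 7, 8, 1, 6, 5, 3, 4, 0, 5, 6, 4, 3, 1] true) (.nil))))))) (.node (.node (.node (.node (.node (.node (.leaf [2, 2, 2, 2, 2, 2, 5, 3, 5, 3, 5] true) (.leaf [9, 3, 6, 0, 5, 2, 7, 7, 8, 4, 3, 6, 0, 6, 1, 2, 1, 5, 6, 0] true)) (.node (.leaf [9, 1, 1, 4, 0, 7, 1, 1, 8, 3, 3, 6, 5, 1, 3, 4, 3, 3, 1, 6] true) (.nil))) (.node (.node (.leaf [0, 0, 2, 0, 0, 3, 6, 0, 0, 2, 0, 0, 3, 6] true) (.nil)) (.node (.leaf [9, 1, 6, 0, 6, 4, 3, 4, 8, 3, 7, 5, 6, 6, 3, 4, 1, 6, 5] true) (.nil)))) (.node (.node (.node (.leaf [0, 5, 7, 1, 5, 7, 1, 6, 1, 5, 6, 6, 3, 7] true) (.nil)) (.node (.leaf [9, 3, 4, 3, 5, 3, 7, 2, 8,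 4, 0, 3, 1, 3, 3, 4, 6, 2, 1] true) (.nil))) (.node (.node (.leaf [9, 4, 4, 7, 7, 4, 2, 8, 5, 3, 4, 2, 0, 5, 7, 0, 6, 2, 5, 5] true) (.nil)) (.node (.leaf [9, 2, 0, 5, 5, 6, 3, 6, 8, 7, 4, 0, 0, 4, 7, 7, 1, 7, 2] true) (.nil))))) (.node (.node (.node (.node (.leaf [0, 2, 2, 0, 2, 4, 1, 2, 4, 0, 2, 5, 5] true) (.leaf [8, 8, 8, 8, 8, 8, 8, 8, 8, 8, 8] true)) (.node (.leaf [9, 0, 6, 5, 2, 2, 0, 2, 8, 2, 2, 1, 5, 1, 7, 2, 7, 2, 5] true) (.nil))) (.node (.node (.leaf [0, 4, 2, 4, 1, 3, 4, 4, 3, 4, 1, 3, 4, 3] true) (.nil)) (.node (.leaf [9, 5, 3, 3, 3, 1, 6, 5, 8, 3, 7, 4, 3, 7, 5, 6, 3, 3, 3] true) (.nil)))) (.node (.node (.node (.leaf [0, 0, 4, 2, 0, 4, 3, 3, 5, 5, 3, 4, 3, 4] true) (.nil)) (.node (.leaf [9, 4, 6, 6,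 0, 6, 5, 3, 8, 2, 7, 7, 0, 2, 0, 5, 0, 4, 7] true) (.nil))) (.node (.node (.leaf [9, 6, 4, 2, 1, 4, 3, 0, 8, 0, 4, 2, 0, 0, 7, 5, 7, 2, 7, 7] true) (.nil)) (.node (.leaf [9, 3, 0, 6, 4, 0, 3, 7, 8, 0, 6, 5, 5, 1, 2, 2, 0, 4, 6, 0, 7] true) (.nil)))))) (.node (.node (.node (.node (.node (.leaf [0, 0, 0, 2, 2, 1, 1, 3, 3, 0, 0, 2] true) (.leaf [7, 6] true)) (.node (.leaf [9, 2, 5, 7, 1, 6, 5, 1, 8, 6, 1, 2, 1, 1, 6, 5, 0, 6, 2, 7] true) (.nil))) (.node (.node (.leaf [0, 3, 4, 3, 7, 3, 0, 5, 3, 6, 6, 4, 2, 4] true) (.nil)) (.node (.leaf [9, 2, 4, 6, 5, 6, 1, 5, 8, 7, 7, 7, 4, 0, 4, 2, 5, 2, 1, 2] true) (.nil)))) (.node (.node (.node (.leaf [0, 2, 0, 3, 0, 2, 1, 3, 0, 4, 2, 4, 2, 4] true) (.nil)) (.node (.leaf [9, 1,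 1, 6, 5, 1, 3, 3, 8, 7, 2, 2, 0, 4, 7, 0, 0, 6] true) (.nil))) (.node (.node (.leaf [9, 0, 4, 1, 5, 7, 5, 8, 5, 5, 6, 0, 3, 1, 3, 5, 7, 1, 2] true) (.nil)) (.node (.leaf [9, 2, 0, 2, 0, 3, 6, 6, 8, 6, 4, 4, 1, 4, 2, 1, 6, 2, 5, 2] true) (.nil))))) (.node (.node (.node (.node (.leaf [0, 0, 0, 5, 3, 4, 4, 4, 0, 0, 3, 1, 3, 5] true) (.nil)) (.node (.leaf [9, 6, 4, 2, 1, 3, 4, 2, 8, 7, 1, 5, 3, 4, 3, 0, 2, 0, 4] true) (.nil))) (.node (.node (.leaf [6, 8, 6, 8, 6, 8, 6, 8, 6, 8, 6, 3, 1, 1, 3, 1, 3, 1, 4, 4, 3, 4, 7, 9, 7, 9, 7, 9, 7, 9, 7, 9, 7, 8, 6, 8, 6, 8, 6, 8, 6, 8, 6, 8, 6, 5, 2, 5, 5, 0, 2, 0, 2, 0, 0, 2, 7, 9, 7, 9, 7, 9, 7, 9, 7, 9, 7, 9, 9, 9] true) (.nil)) (.node (.leaf [9, 2, 5, 3, 6, 3, 0, 6, 8, 5, 0, 7,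 0, 5, 1, 6, 5, 0] true) (.nil)))) (.node (.node (.node (.leaf [0, 3, 4, 4, 3, 5, 0, 5, 0, 5, 1, 4, 4, 3] true) (.nil)) (.node (.leaf [9, 6, 2, 1, 6, 5, 1, 4, 8, 0, 0, 4, 0, 3, 4, 1, 6, 0, 5, 5] true) (.nil))) (.node (.node (.leaf [9, 4, 3, 4, 3, 6, 5, 0, 8, 5, 0, 2, 0, 7, 2, 6, 6, 0, 5] true) (.nil)) (.node (.leaf [9, 4, 6, 2, 1, 2, 4, 7, 8, 4, 4, 6, 2, 0, 0, 7, 7, 7, 0, 0] true) (.nil))))))))))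

/-- the twists of the words -/
def evL : List (List ℤ) := [[(.ofNat 0), (.ofNat 0), (.ofNat 0), (.ofNat 0), (.ofNat 0), (.ofNat 0)], [(.ofNat 0), (.ofNat 0), (.ofNat 0), (.ofNat 0), (.ofNat 0), (.ofNat 0)], [(.ofNat 0), (.ofNat 0), (.ofNat 0), (.ofNat 0), (.ofNat 0), (.ofNat 0)], [(.ofNat 0), (.ofNat 0), (.ofNat 0), (.ofNat 0), (.ofNat 0), (.ofNat 0)], [(.ofNat 0), (.ofNat 0), (.ofNat 0), (.ofNat 0), (.ofNat 0), (.ofNat 0)], [(.ofNat 0), (.ofNat 0), (.ofNat 0), (.ofNat 0), (.ofNat 0), (.ofNat 0)], [(.ofNat 0), (.ofNat 0), (.ofNat 0), (.ofNat 0), (.ofNat 0), (.ofNat 0)], [(.ofNat 0), (.ofNat 0), (.ofNat 0), (.ofNat 0), (.ofNat 0), (.ofNat 0)], [(.ofNat 0), (.ofNat 0), (.ofNat 0), (.ofNat 0), (.ofNat 0), (.ofNat 0)],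 [(.ofNat 0), (.ofNat 0), (.ofNat 0), (.ofNat 0), (.ofNat 0), (.ofNat 0)], [(.ofNat 0), (.ofNat 0), (.ofNat 0), (.ofNat 0), (.ofNat 0), (.ofNat 0)], [(.ofNat 0), (.ofNat 0), (.ofNat 0), (.ofNat 0), (.ofNat 0), (.ofNat 0)], [(.ofNat 0), (.ofNat 0), (.ofNat 0), (.ofNat 0), (.ofNat 0), (.ofNat 0)], [(.ofNat 0), (.ofNat 0), (.ofNat 0), (.ofNat 0), (.ofNat 0), (.ofNat 0)], [(.ofNat 0), (.ofNat 0), (.ofNat 0), (.ofNat 0), (.ofNat 0), (.ofNat 0)], [(.ofNat 0), (.ofNat 0), (.ofNat 0), (.ofNat 0), (.ofNat 0), (.ofNat 0)], [(.ofNat 0), (.ofNat 0), (.ofNat 0), (.ofNat 0), (.ofNat 0), (.ofNat 0)], [(.ofNat 0), (.ofNat 0), (.ofNat 0), (.ofNat 0), (.ofNat 0), (.ofNat 0)], [(.ofNat 0), (.ofNat 0), (.ofNat 0), (.ofNat 0), (.ofNat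 0), (.ofNat 0)], [(.ofNat 0), (.ofNat 0), (.ofNat 0), (.ofNat 0), (.ofNat 0), (.ofNat 0)], [(.ofNat 0), (.ofNat 0), (.ofNat 0), (.ofNat 0), (.ofNat 0), (.ofNat 0)], [(.ofNat 0), (.ofNat 0), (.ofNat 0), (.ofNat 0), (.ofNat 0), (.ofNat 0)], [(.ofNat 0), (.ofNat 0), (.ofNat 0), (.ofNat 0), (.ofNat 0), (.ofNat 0)], [(.ofNat 0), (.ofNat 0), (.ofNat 0), (.ofNat 0), (.ofNat 0), (.ofNat 0)], [(.ofNat 0), (.ofNat 0), (.ofNat 0), (.ofNat 0), (.ofNat 0), (.ofNat 0)], [(.ofNat 0), (.ofNat 0), (.ofNat 0), (.ofNat 0), (.ofNat 0), (.ofNat 0)], [(.ofNat 0), (.ofNat 0), (.ofNat 0), (.ofNat 0), (.ofNat 0), (.ofNat 0)], [(.ofNat 0), (.ofNat 0), (.ofNat 0), (.ofNat 0), (.ofNat 0), (.ofNat 0)], [(.ofNat 0), (.ofNat 0), (.ofNat 0), (.ofNat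 0), (.ofNat 0), (.ofNat 0)], [(.ofNat 0), (.ofNat 0), (.ofNat 0), (.ofNat 0), (.ofNat 0), (.ofNat 0)], [(.ofNat 0), (.ofNat 0), (.ofNat 0), (.ofNat 0), (.ofNat 0), (.ofNat 0)], [(.ofNat 0), (.ofNat 0), (.ofNat 0), (.ofNat 0), (.ofNat 0), (.ofNat 0)], [(.ofNat 0), (.ofNat 0), (.ofNat 0), (.ofNat 0), (.ofNat 0), (.ofNat 0)], [(.ofNat 0), (.ofNat 0), (.ofNat 0), (.ofNat 0), (.ofNat 0), (.ofNat 0)], [(.ofNat 0), (.ofNat 0), (.ofNat 0), (.ofNat 0), (.ofNat 0), (.ofNat 0)], [(.ofNat 0), (.ofNat 0), (.ofNat 0), (.ofNat 0), (.ofNat 0), (.ofNat 0)], [(.ofNat 0), (.ofNat 0), (.ofNat 0), (.ofNat 0), (.ofNat 0), (.ofNat 0)], [(.ofNat 0), (.ofNat 0), (.ofNat 0), (.ofNat 0), (.ofNat 0), (.ofNat 0)], [(.ofNat 0), (.ofNat 0), (.ofNat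 0), (.ofNat 0), (.ofNat 0), (.ofNat 0)], [(.ofNat 0), (.ofNat 0), (.ofNat 0), (.ofNat 0), (.ofNat 0), (.ofNat 0)], [(.ofNat 0), (.ofNat 0), (.ofNat 0), (.ofNat 0), (.ofNat 0), (.ofNat 0)], [(.ofNat 0), (.ofNat 0), (.ofNat 0), (.ofNat 0), (.ofNat 0), (.ofNat 0)], [(.ofNat 0), (.ofNat 0), (.ofNat 0), (.ofNat 0), (.ofNat 0), (.ofNat 0)], [(.ofNat 0), (.ofNat 0), (.ofNat 0), (.ofNat 0), (.ofNat 0), (.ofNat 0)], [(.ofNat 0), (.ofNat 0), (.ofNat 0), (.ofNat 0), (.ofNat 0), (.ofNat 0)], [(.ofNat 0), (.ofNat 0), (.ofNat 0), (.ofNat 0), (.ofNat 0), (.ofNat 0)], [(.ofNat 0), (.ofNat 0), (.ofNat 0), (.ofNat 0), (.ofNat 0), (.ofNat 0)], [(.ofNat 0), (.ofNat 0), (.ofNat 0), (.ofNat 0), (.ofNat 0), (.ofNat 0)], [(.ofNat 0), (.ofNat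 0), (.ofNat 0), (.ofNat 0), (.ofNat 0), (.ofNat 0)], [(.ofNat 0), (.ofNat 0), (.ofNat 0), (.ofNat 0), (.ofNat 0), (.ofNat 0)], [(.ofNat 0), (.ofNat 0), (.ofNat 0), (.ofNat 0), (.ofNat 0), (.ofNat 0)], [(.ofNat 0), (.ofNat 0), (.ofNat 0), (.ofNat 0), (.ofNat 0), (.ofNat 0)], [(.ofNat 0), (.ofNat 0), (.ofNat 0), (.ofNat 0), (.ofNat 0), (.ofNat 0)], [(.ofNat 0), (.ofNat 0), (.ofNat 0), (.ofNat 0), (.ofNat 0), (.ofNat 0)], [(.ofNat 0), (.ofNat 0), (.ofNat 0), (.ofNat 0), (.ofNat 0), (.ofNat 0)], [(.ofNat 0), (.ofNat 0), (.ofNat 0), (.ofNat 0), (.ofNat 0), (.ofNat 0)], [(.ofNat 0), (.ofNat 0), (.ofNat 0), (.ofNat 0), (.ofNat 0), (.ofNat 0)], [(.ofNat 0), (.ofNat 0), (.ofNat 0), (.ofNat 0), (.ofNat 0), (.ofNat 0)], [(.ofNat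 0), (.ofNat 0), (.ofNat 0), (.ofNat 0), (.ofNat 0), (.ofNat 0)], [(.ofNat 0), (.ofNat 0), (.ofNat 0), (.ofNat 0), (.ofNat 0), (.ofNat 0)], [(.ofNat 0), (.ofNat 0), (.ofNat 0), (.ofNat 0), (.ofNat 0), (.ofNat 0)], [(.ofNat 0), (.ofNat 0), (.ofNat 0), (.ofNat 0), (.ofNat 0), (.ofNat 0)], [(.ofNat 0), (.ofNat 0), (.ofNat 0), (.ofNat 0), (.ofNat 0), (.ofNat 0)], [(.ofNat 0), (.ofNat 0), (.ofNat 0), (.ofNat 0), (.ofNat 0), (.ofNat 0)], [(.ofNat 0), (.ofNat 0), (.ofNat 0), (.ofNat 0), (.ofNat 0), (.ofNat 0)], [(.ofNat 0), (.ofNat 0), (.ofNat 0), (.ofNat 0), (.ofNat 0), (.ofNat 0)], [(.ofNat 0), (.ofNat 0), (.ofNat 0), (.ofNat 0), (.ofNat 0), (.ofNat 0)], [(.ofNat 0), (.ofNat 0), (.ofNat 0), (.ofNat 0), (.ofNat 0), (.ofNat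 0)], [(.ofNat 0), (.ofNat 0), (.ofNat 0), (.ofNat 0), (.ofNat 0), (.ofNat 0)], [(.ofNat 0), (.ofNat 0), (.ofNat 0), (.ofNat 0), (.ofNat 0), (.ofNat 0)], [(.ofNat 0), (.ofNat 0), (.ofNat 0), (.ofNat 0), (.ofNat 0), (.ofNat 0)], [(.ofNat 0), (.ofNat 0), (.ofNat 0), (.ofNat 0), (.ofNat 0), (.ofNat 0)], [(.ofNat 0), (.ofNat 0), (.ofNat 0), (.ofNat 0), (.ofNat 0), (.ofNat 0)], [(.ofNat 0), (.ofNat 0), (.ofNat 0), (.ofNat 0), (.ofNat 0), (.ofNat 0)], [(.ofNat 0), (.ofNat 0), (.ofNat 0), (.ofNat 0), (.ofNat 0), (.ofNat 0)], [(.ofNat 0), (.ofNat 0), (.ofNat 0), (.ofNat 0), (.ofNat 0), (.ofNat 0)], [(.ofNat 0), (.ofNat 0), (.ofNat 0), (.ofNat 0), (.ofNat 0), (.ofNat 0)], [(.ofNat 0), (.ofNat 0), (.ofNat 0), (.ofNat 0), (.ofNat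 0), (.ofNat 0)], [(.ofNat 0), (.ofNat 0), (.ofNat 0), (.ofNat 0), (.ofNat 0), (.ofNat 0)], [(.ofNat 0), (.ofNat 0), (.ofNat 0), (.ofNat 0), (.ofNat 0), (.ofNat 0)], [(.ofNat 0), (.ofNat 0), (.ofNat 0), (.ofNat 0), (.ofNat 0), (.ofNat 0)], [(.ofNat 0), (.ofNat 0), (.ofNat 0), (.ofNat 0), (.ofNat 0), (.ofNat 0)], [(.ofNat 0), (.ofNat 0), (.ofNat 0), (.ofNat 0), (.ofNat 0), (.ofNat 0)], [(.ofNat 0), (.ofNat 0), (.ofNat 0), (.ofNat 0), (.ofNat 0), (.ofNat 0)], [(.ofNat 0), (.ofNat 0), (.ofNat 0), (.ofNat 0), (.ofNat 0), (.ofNat 0)], [(.ofNat 0), (.ofNat 0), (.ofNat 0), (.ofNat 0), (.ofNat 0), (.ofNat 0)], [(.ofNat 0), (.ofNat 0), (.ofNat 0), (.ofNat 0), (.ofNat 0), (.ofNat 0)], [(.ofNat 0), (.ofNat 0), (.ofNat 0), (.ofNat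 0), (.ofNat 0), (.ofNat 0)], [(.ofNat 0), (.ofNat 0), (.ofNat 0), (.ofNat 0), (.ofNat 0), (.ofNat 0)], [(.ofNat 0), (.ofNat 0), (.ofNat 0), (.ofNat 0), (.ofNat 0), (.ofNat 0)], [(.ofNat 0), (.ofNat 0), (.ofNat 0), (.ofNat 0), (.ofNat 0), (.ofNat 0)], [(.ofNat 0), (.ofNat 0), (.ofNat 0), (.ofNat 0), (.ofNat 0), (.ofNat 0)], [(.ofNat 0), (.ofNat 0), (.ofNat 0), (.ofNat 0), (.ofNat 0), (.ofNat 0)], [(.ofNat 0), (.ofNat 0), (.ofNat 0), (.ofNat 0), (.ofNat 0), (.ofNat 0)], [(.ofNat 0), (.ofNat 0), (.ofNat 0), (.ofNat 0), (.ofNat 0), (.ofNat 0)], [(.ofNat 0), (.ofNat 0), (.ofNat 0), (.ofNat 0), (.ofNat 0), (.ofNat 0)], [(.ofNat 0), (.ofNat 0), (.ofNat 0), (.ofNat 0), (.ofNat 0), (.ofNat 0)], [(.ofNat 0), (.ofNat 0), (.ofNat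 0), (.ofNat 0), (.ofNat 0), (.ofNat 0)], [(.ofNat 0), (.ofNat 0), (.ofNat 0), (.ofNat 0), (.ofNat 0), (.ofNat 0)], [(.ofNat 0), (.ofNat 0), (.ofNat 0), (.ofNat 0), (.ofNat 0), (.ofNat 0)], [(.ofNat 0), (.ofNat 0), (.ofNat 0), (.ofNat 0), (.ofNat 0), (.ofNat 0)], [(.ofNat 0), (.ofNat 0), (.ofNat 0), (.ofNat 0), (.ofNat 0), (.ofNat 0)], [(.ofNat 0), (.ofNat 0), (.ofNat 0), (.ofNat 0), (.ofNat 0), (.ofNat 0)], [(.ofNat 0), (.ofNat 0), (.ofNat 0), (.ofNat 0), (.ofNat 0), (.ofNat 0)], [(.ofNat 0), (.ofNat 0), (.ofNat 0), (.ofNat 0), (.ofNat 0), (.ofNat 0)], [(.ofNat 0), (.ofNat 0), (.ofNat 0), (.ofNat 0), (.ofNat 0), (.ofNat 0)], [(.ofNat 0), (.ofNat 0), (.ofNat 0), (.ofNat 0), (.ofNat 0), (.ofNat 0)], [(.ofNat 0), (.ofNat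 0), (.ofNat 0), (.ofNat 0), (.ofNat 0), (.ofNat 0)], [(.ofNat 0), (.ofNat 0), (.ofNat 0), (.ofNat 0), (.ofNat 0), (.ofNat 0)], [(.ofNat 0), (.ofNat 0), (.ofNat 0), (.ofNat 0), (.ofNat 0), (.ofNat 0)], [(.ofNat 0), (.ofNat 0), (.ofNat 0), (.ofNat 0), (.ofNat 0), (.ofNat 0)], [(.ofNat 0), (.ofNat 0), (.ofNat 0), (.ofNat 0), (.ofNat 0), (.ofNat 0)], [(.ofNat 0), (.ofNat 0), (.ofNat 0), (.ofNat 0), (.ofNat 0), (.ofNat 0)], [(.ofNat 0), (.ofNat 0), (.ofNat 0), (.ofNat 0), (.ofNat 0), (.ofNat 0)], [(.ofNat 0), (.ofNat 0), (.ofNat 0), (.ofNat 0), (.ofNat 0), (.ofNat 0)], [(.ofNat 0), (.ofNat 0), (.ofNat 0), (.ofNat 0), (.ofNat 0), (.ofNat 0)], [(.ofNat 0), (.ofNat 0), (.ofNat 0), (.ofNat 0), (.ofNat 0), (.ofNat 0)], [(.ofNat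 0), (.ofNat 0), (.ofNat 0), (.ofNat 0), (.ofNat 0), (.ofNat 0)], [(.ofNat 0), (.ofNat 0), (.ofNat 0), (.ofNat 0), (.ofNat 0), (.ofNat 0)], [(.ofNat 0), (.ofNat 0), (.ofNat 0), (.ofNat 0), (.ofNat 0), (.ofNat 0)], [(.ofNat 0), (.ofNat 0), (.ofNat 0), (.ofNat 0), (.ofNat 0), (.ofNat 0)], [(.ofNat 0), (.ofNat 0), (.ofNat 0), (.ofNat 0), (.ofNat 0), (.ofNat 0)], [(.ofNat 0), (.ofNat 0), (.ofNat 0), (.ofNat 0), (.ofNat 0), (.ofNat 0)], [(.ofNat 0), (.ofNat 0), (.ofNat 0), (.ofNat 0), (.ofNat 0), (.ofNat 0)], [(.ofNat 0), (.ofNat 0), (.ofNat 0), (.ofNat 0), (.ofNat 0), (.ofNat 0)], [(.ofNat 0), (.ofNat 0), (.ofNat 0), (.ofNat 0), (.ofNat 0), (.ofNat 0)], [(.ofNat 0), (.ofNat 0), (.ofNat 0), (.ofNat 0), (.ofNat 0), (.ofNat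 0)], [(.ofNat 0), (.ofNat 0), (.ofNat 0), (.ofNat 0), (.ofNat 0), (.ofNat 0)], [(.ofNat 0), (.ofNat 0), (.ofNat 0), (.ofNat 0), (.ofNat 0), (.ofNat 0)], [(.ofNat 0), (.ofNat 0), (.ofNat 0), (.ofNat 0), (.ofNat 0), (.ofNat 0)], [(.ofNat 0), (.ofNat 0), (.ofNat 0), (.ofNat 0), (.ofNat 0), (.ofNat 0)], [(.ofNat 0), (.ofNat 0), (.ofNat 0), (.ofNat 0), (.ofNat 0), (.ofNat 0)], [(.ofNat 0), (.ofNat 0), (.ofNat 0), (.ofNat 0), (.ofNat 0), (.ofNat 0)], [(.ofNat 0), (.ofNat 0), (.ofNat 0), (.ofNat 0), (.ofNat 0), (.ofNat 0)], [(.ofNat 0), (.ofNat 0), (.ofNat 0), (.ofNat 0), (.ofNat 0), (.ofNat 0)], [(.ofNat 0), (.ofNat 0), (.ofNat 0), (.ofNat 0), (.ofNat 0), (.ofNat 0)], [(.ofNat 0), (.ofNat 0), (.ofNat 0), (.ofNat 0), (.ofNat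 0), (.ofNat 0)], [(.ofNat 0), (.ofNat 0), (.ofNat 0), (.ofNat 0), (.ofNat 0), (.ofNat 0)], [(.ofNat 0), (.ofNat 0), (.ofNat 0), (.ofNat 0), (.ofNat 0), (.ofNat 0)], [(.ofNat 0), (.ofNat 0), (.ofNat 0), (.ofNat 0), (.ofNat 0), (.ofNat 0)], [(.ofNat 0), (.ofNat 0), (.ofNat 0), (.ofNat 0), (.ofNat 0), (.ofNat 0)], [(.ofNat 0), (.ofNat 0), (.ofNat 0), (.ofNat 0), (.ofNat 0), (.ofNat 0)], [(.ofNat 0), (.ofNat 0), (.ofNat 0), (.ofNat 0), (.ofNat 0), (.ofNat 0)], [(.ofNat 0), (.ofNat 0), (.ofNat 0), (.ofNat 0), (.ofNat 0), (.ofNat 0)], [(.ofNat 0), (.ofNat 0), (.ofNat 0), (.ofNat 0), (.ofNat 0), (.ofNat 0)], [(.ofNat 0), (.ofNat 0), (.ofNat 0), (.ofNat 0), (.ofNat 0), (.ofNat 0)], [(.ofNat 0), (.ofNat 0), (.ofNat 0), (.ofNat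 0), (.ofNat 0), (.ofNat 0)], [(.ofNat 0), (.ofNat 0), (.ofNat 0), (.ofNat 0), (.ofNat 0), (.ofNat 0)], [(.ofNat 0), (.ofNat 0), (.ofNat 0), (.ofNat 0), (.ofNat 0), (.ofNat 0)], [(.ofNat 0), (.ofNat 0), (.ofNat 0), (.ofNat 0), (.ofNat 0), (.ofNat 0)], [(.ofNat 0), (.ofNat 0), (.ofNat 0), (.ofNat 0), (.ofNat 0), (.ofNat 0)], [(.ofNat 0), (.ofNat 0), (.ofNat 0), (.ofNat 0), (.ofNat 0), (.ofNat 0)], [(.ofNat 0), (.ofNat 0), (.ofNat 0), (.ofNat 0), (.ofNat 0), (.ofNat 0)], [(.ofNat 0), (.ofNat 0), (.ofNat 0), (.ofNat 0), (.ofNat 0), (.ofNat 0)], [(.ofNat 0), (.ofNat 0), (.ofNat 0), (.ofNat 0), (.ofNat 0), (.ofNat 0)], [(.ofNat 0), (.ofNat 0), (.ofNat 0), (.ofNat 0), (.ofNat 0), (.ofNat 0)], [(.ofNat 0), (.ofNat 0), (.ofNat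 0), (.ofNat 0), (.ofNat 0), (.ofNat 0)], [(.ofNat 0), (.ofNat 0), (.ofNat 0), (.ofNat 0), (.ofNat 0), (.ofNat 0)], [(.ofNat 0), (.ofNat 0), (.ofNat 0), (.ofNat 0), (.ofNat 0), (.ofNat 0)], [(.ofNat 0), (.ofNat 0), (.ofNat 0), (.ofNat 0), (.ofNat 0), (.ofNat 0)], [(.ofNat 0), (.ofNat 0), (.ofNat 0), (.ofNat 0), (.ofNat 0), (.ofNat 0)], [(.ofNat 0), (.ofNat 0), (.ofNat 0), (.ofNat 0), (.ofNat 0), (.ofNat 0)], [(.ofNat 0), (.ofNat 0), (.ofNat 0), (.ofNat 0), (.ofNat 0), (.ofNat 0)], [(.ofNat 0), (.ofNat 0), (.ofNat 0), (.ofNat 0), (.ofNat 0), (.ofNat 0)], [(.ofNat 0), (.ofNat 0), (.ofNat 0), (.ofNat 0), (.ofNat 0), (.ofNat 0)], [(.ofNat 0), (.ofNat 0), (.ofNat 0), (.ofNat 0), (.ofNat 0), (.ofNat 0)], [(.ofNat 0), (.ofNat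 0), (.ofNat 0), (.ofNat 0), (.ofNat 0), (.ofNat 0)], [(.ofNat 0), (.ofNat 0), (.ofNat 0), (.ofNat 0), (.ofNat 0), (.ofNat 0)], [(.ofNat 0), (.ofNat 0), (.ofNat 0), (.ofNat 0), (.ofNat 0), (.ofNat 0)], [(.ofNat 0), (.ofNat 0), (.ofNat 0), (.ofNat 0), (.ofNat 0), (.ofNat 0)], [(.ofNat 0), (.ofNat 0), (.ofNat 0), (.ofNat 0), (.ofNat 0), (.ofNat 0)], [(.ofNat 0), (.ofNat 0), (.ofNat 0), (.ofNat 0), (.ofNat 0), (.ofNat 0)], [(.ofNat 0), (.ofNat 0), (.ofNat 0), (.ofNat 0), (.ofNat 0), (.ofNat 0)], [(.ofNat 0), (.ofNat 0), (.ofNat 0), (.ofNat 0), (.ofNat 0), (.ofNat 0)], [(.ofNat 0), (.ofNat 0), (.ofNat 0), (.ofNat 0), (.ofNat 0), (.ofNat 0)], [(.ofNat 0), (.ofNat 0), (.ofNat 0), (.ofNat 0), (.ofNat 0), (.ofNat 0)], [(.ofNat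 0), (.ofNat 0), (.ofNat 0), (.ofNat 0), (.ofNat 0), (.ofNat 0)], [(.ofNat 0), (.ofNat 0), (.ofNat 0), (.ofNat 0), (.ofNat 0), (.ofNat 0)], [(.ofNat 0), (.ofNat 0), (.ofNat 0), (.ofNat 0), (.ofNat 0), (.ofNat 0)], [(.ofNat 0), (.ofNat 0), (.ofNat 0), (.ofNat 0), (.ofNat 0), (.ofNat 0)], [(.ofNat 0), (.ofNat 0), (.ofNat 0), (.ofNat 0), (.ofNat 0), (.ofNat 0)], [(.ofNat 0), (.ofNat 0), (.ofNat 0), (.ofNat 0), (.ofNat 0), (.ofNat 0)], [(.ofNat 0), (.ofNat 0), (.ofNat 0), (.ofNat 0), (.ofNat 0), (.ofNat 0)], [(.ofNat 0), (.ofNat 0), (.ofNat 0), (.ofNat 0), (.ofNat 0), (.ofNat 0)], [(.ofNat 0), (.ofNat 0), (.ofNat 0), (.ofNat 0), (.ofNat 0), (.ofNat 0)], [(.ofNat 0), (.ofNat 0), (.ofNat 0), (.ofNat 0), (.ofNat 0), (.ofNat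 0)], [(.ofNat 0), (.ofNat 0), (.ofNat 0), (.ofNat 0), (.ofNat 0), (.ofNat 0)], [(.ofNat 0), (.ofNat 0), (.ofNat 0), (.ofNat 0), (.ofNat 0), (.ofNat 0)], [(.ofNat 0), (.ofNat 0), (.ofNat 0), (.ofNat 0), (.ofNat 0), (.ofNat 0)], [(.ofNat 0), (.ofNat 0), (.ofNat 0), (.ofNat 0), (.ofNat 0), (.ofNat 0)], [(.ofNat 0), (.ofNat 0), (.ofNat 0), (.ofNat 0), (.ofNat 0), (.ofNat 0)], [(.ofNat 0), (.ofNat 0), (.ofNat 0), (.ofNat 0), (.ofNat 0), (.ofNat 0)], [(.ofNat 0), (.ofNat 0), (.ofNat 0), (.ofNat 0), (.ofNat 0), (.ofNat 0)], [(.ofNat 0), (.ofNat 0), (.ofNat 0), (.ofNat 0), (.ofNat 0), (.ofNat 0)], [(.ofNat 0), (.ofNat 0), (.ofNat 0), (.ofNat 0), (.ofNat 0), (.ofNat 0)], [(.ofNat 0), (.ofNat 0), (.ofNat 0), (.ofNat 0), (.ofNat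 0), (.ofNat 0)], [(.ofNat 0), (.ofNat 0), (.ofNat 0), (.ofNat 0), (.ofNat 0), (.ofNat 0)], [(.ofNat 0), (.ofNat 0), (.ofNat 0), (.ofNat 0), (.ofNat 0), (.ofNat 0)], [(.ofNat 0), (.ofNat 0), (.ofNat 0), (.ofNat 0), (.ofNat 0), (.ofNat 0)], [(.ofNat 0), (.ofNat 0), (.ofNat 0), (.ofNat 0), (.ofNat 0), (.ofNat 0)], [(.ofNat 0), (.ofNat 0), (.ofNat 0), (.ofNat 0), (.ofNat 0), (.ofNat 0)], [(.ofNat 0), (.ofNat 0), (.ofNat 0), (.ofNat 0), (.ofNat 0), (.ofNat 0)], [(.ofNat 0), (.ofNat 0), (.ofNat 0), (.ofNat 0), (.ofNat 0), (.ofNat 0)], [(.ofNat 0), (.ofNat 0), (.ofNat 0), (.ofNat 0), (.ofNat 0), (.ofNat 0)], [(.ofNat 0), (.ofNat 0), (.ofNat 0), (.ofNat 0), (.ofNat 0), (.ofNat 0)], [(.ofNat 0), (.ofNat 0), (.ofNat 0), (.ofNat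 0), (.ofNat 0), (.ofNat 0)], [(.ofNat 0), (.ofNat 0), (.ofNat 0), (.ofNat 0), (.ofNat 0), (.ofNat 0)], [(.ofNat 0), (.ofNat 0), (.ofNat 0), (.ofNat 0), (.ofNat 0), (.ofNat 0)], [(.ofNat 0), (.ofNat 0), (.ofNat 0), (.ofNat 0), (.ofNat 0), (.ofNat 0)], [(.ofNat 0), (.ofNat 0), (.ofNat 0), (.ofNat 0), (.ofNat 0), (.ofNat 0)], [(.ofNat 0), (.ofNat 0), (.ofNat 0), (.ofNat 0), (.ofNat 0), (.ofNat 0)], [(.ofNat 0), (.ofNat 0), (.ofNat 0), (.ofNat 0), (.ofNat 0), (.ofNat 0)], [(.ofNat 0), (.ofNat 0), (.ofNat 0), (.ofNat 0), (.ofNat 0), (.ofNat 0)], [(.ofNat 0), (.ofNat 0), (.ofNat 0), (.ofNat 0), (.ofNat 0), (.ofNat 0)], [(.ofNat 0), (.ofNat 0), (.ofNat 0), (.ofNat 0), (.ofNat 0), (.ofNat 0)], [(.ofNat 0), (.ofNat 0), (.ofNat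 0), (.ofNat 0), (.ofNat 0), (.ofNat 0)], [(.ofNat 0), (.ofNat 0), (.ofNat 0), (.ofNat 0), (.ofNat 0), (.ofNat 0)], [(.ofNat 0), (.ofNat 0), (.ofNat 0), (.ofNat 0), (.ofNat 0), (.ofNat 0)], [(.ofNat 0), (.ofNat 0), (.ofNat 0), (.ofNat 0), (.ofNat 0), (.ofNat 0)], [(.ofNat 0), (.ofNat 0), (.ofNat 0), (.ofNat 0), (.ofNat 0), (.ofNat 0)], [(.ofNat 0), (.ofNat 0), (.ofNat 0), (.ofNat 0), (.ofNat 0), (.ofNat 0)], [(.ofNat 0), (.ofNat 0), (.ofNat 0), (.ofNat 0), (.ofNat 0), (.ofNat 0)], [(.ofNat 0), (.ofNat 0), (.ofNat 0), (.ofNat 0), (.ofNat 0), (.ofNat 0)], [(.ofNat 0), (.ofNat 0), (.ofNat 0), (.ofNat 0), (.ofNat 0), (.ofNat 0)], [(.ofNat 0), (.ofNat 0), (.ofNat 0), (.ofNat 0), (.ofNat 0), (.ofNat 0)], [(.ofNat 0), (.ofNat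 0), (.ofNat 0), (.ofNat 0), (.ofNat 0), (.ofNat 0)], [(.ofNat 0), (.ofNat 0), (.ofNat 0), (.ofNat 0), (.ofNat 0), (.ofNat 0)], [(.ofNat 0), (.ofNat 0), (.ofNat 0), (.ofNat 0), (.ofNat 0), (.ofNat 0)], [(.ofNat 0), (.ofNat 0), (.ofNat 0), (.ofNat 0), (.ofNat 0), (.ofNat 0)], [(.ofNat 0), (.ofNat 0), (.ofNat 0), (.ofNat 0), (.ofNat 0), (.ofNat 0)], [(.ofNat 0), (.ofNat 0), (.ofNat 0), (.ofNat 0), (.ofNat 0), (.ofNat 0)], [(.ofNat 0), (.ofNat 0), (.ofNat 0), (.ofNat 0), (.ofNat 0), (.ofNat 0)], [(.ofNat 0), (.ofNat 0), (.ofNat 0), (.ofNat 0), (.ofNat 0), (.ofNat 0)], [(.ofNat 0), (.ofNat 0), (.ofNat 0), (.ofNat 0), (.ofNat 0), (.ofNat 0)], [(.ofNat 0), (.ofNat 0), (.ofNat 0), (.ofNat 0), (.ofNat 0), (.ofNat 0)], [(.ofNat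 0), (.ofNat 0), (.ofNat 0), (.ofNat 0), (.ofNat 0), (.ofNat 0)], [(.ofNat 0), (.ofNat 0), (.ofNat 0), (.ofNat 0), (.ofNat 0), (.ofNat 0)], [(.ofNat 0), (.ofNat 0), (.ofNat 0), (.ofNat 0), (.ofNat 0), (.ofNat 0)], [(.ofNat 0), (.ofNat 0), (.ofNat 0), (.ofNat 0), (.ofNat 0), (.ofNat 0)], [(.ofNat 0), (.ofNat 0), (.ofNat 0), (.ofNat 0), (.ofNat 0), (.ofNat 0)], [(.ofNat 0), (.ofNat 0), (.ofNat 0), (.ofNat 0), (.ofNat 0), (.ofNat 0)], [(.ofNat 0), (.ofNat 0), (.ofNat 0), (.ofNat 0), (.ofNat 0), (.ofNat 0)], [(.ofNat 0), (.ofNat 0), (.ofNat 0), (.ofNat 0), (.ofNat 0), (.ofNat 0)], [(.ofNat 0), (.ofNat 0), (.ofNat 0), (.ofNat 0), (.ofNat 0), (.ofNat 0)], [(.ofNat 0), (.ofNat 0), (.ofNat 0), (.ofNat 0), (.ofNat 0), (.ofNat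 0)], [(.ofNat 0), (.ofNat 0), (.ofNat 0), (.ofNat 0), (.ofNat 0), (.ofNat 0)], [(.ofNat 0), (.ofNat 0), (.ofNat 0), (.ofNat 0), (.ofNat 0), (.ofNat 0)], [(.ofNat 0), (.ofNat 0), (.ofNat 0), (.ofNat 0), (.ofNat 0), (.ofNat 0)], [(.ofNat 0), (.ofNat 0), (.ofNat 0), (.ofNat 0), (.ofNat 0), (.ofNat 0)], [(.ofNat 0), (.ofNat 0), (.ofNat 0), (.ofNat 0), (.ofNat 0), (.ofNat 0)], [(.ofNat 0), (.ofNat 0), (.ofNat 0), (.ofNat 0), (.ofNat 0), (.ofNat 0)], [(.ofNat 0), (.ofNat 0), (.ofNat 0), (.ofNat 0), (.ofNat 0), (.ofNat 0)], [(.ofNat 0), (.ofNat 0), (.ofNat 0), (.ofNat 0), (.ofNat 0), (.ofNat 0)], [(.ofNat 0), (.ofNat 0), (.ofNat 0), (.ofNat 0), (.ofNat 0), (.ofNat 0)], [(.ofNat 0), (.ofNat 0), (.ofNat 0), (.ofNat 0), (.ofNat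 0), (.ofNat 0)], [(.ofNat 0), (.ofNat 0), (.ofNat 0), (.ofNat 0), (.ofNat 0), (.ofNat 0)], [(.ofNat 0), (.ofNat 0), (.ofNat 0), (.ofNat 0), (.ofNat 0), (.ofNat 0)], [(.ofNat 0), (.ofNat 0), (.ofNat 0), (.ofNat 0), (.ofNat 0), (.ofNat 0)], [(.ofNat 0), (.ofNat 0), (.ofNat 0), (.ofNat 0), (.ofNat 0), (.ofNat 0)], [(.ofNat 0), (.ofNat 0), (.ofNat 0), (.ofNat 0), (.ofNat 0), (.ofNat 0)], [(.ofNat 0), (.ofNat 0), (.ofNat 0), (.ofNat 0), (.ofNat 0), (.ofNat 0)], [(.ofNat 0), (.ofNat 0), (.ofNat 0), (.ofNat 0), (.ofNat 0), (.ofNat 0)], [(.ofNat 0), (.ofNat 0), (.ofNat 0), (.ofNat 0), (.ofNat 0), (.ofNat 0)], [(.ofNat 0), (.ofNat 0), (.ofNat 0), (.ofNat 0), (.ofNat 0), (.ofNat 0)], [(.ofNat 0), (.ofNat 0), (.ofNat 0), (.ofNat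 0), (.ofNat 0), (.ofNat 0)], [(.ofNat 0), (.ofNat 0), (.ofNat 0), (.ofNat 0), (.ofNat 0), (.ofNat 0)], [(.ofNat 0), (.ofNat 0), (.ofNat 0), (.ofNat 0), (.ofNat 0), (.ofNat 0)], [(.ofNat 0), (.ofNat 0), (.ofNat 0), (.ofNat 0), (.ofNat 0), (.ofNat 0)], [(.ofNat 0), (.ofNat 0), (.ofNat 0), (.ofNat 0), (.ofNat 0), (.ofNat 0)], [(.ofNat 0), (.ofNat 0), (.ofNat 0), (.ofNat 0), (.ofNat 0), (.ofNat 0)], [(.ofNat 0), (.ofNat 0), (.ofNat 0), (.ofNat 0), (.ofNat 0), (.ofNat 0)], [(.ofNat 0), (.ofNat 0), (.ofNat 0), (.ofNat 0), (.ofNat 0), (.ofNat 0)], [(.ofNat 0), (.ofNat 0), (.ofNat 0), (.ofNat 0), (.ofNat 0), (.ofNat 0)], [(.ofNat 0), (.ofNat 0), (.ofNat 0), (.ofNat 0), (.ofNat 0), (.ofNat 0)], [(.ofNat 0), (.ofNat 0), (.ofNat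 0), (.ofNat 0), (.ofNat 0), (.ofNat 0)], [(.ofNat 0), (.ofNat 0), (.ofNat 0), (.ofNat 0), (.ofNat 0), (.ofNat 0)], [(.ofNat 0), (.ofNat 0), (.ofNat 0), (.ofNat 0), (.ofNat 0), (.ofNat 0)], [(.ofNat 0), (.ofNat 0), (.ofNat 0), (.ofNat 0), (.ofNat 0), (.ofNat 0)], [(.ofNat 0), (.ofNat 0), (.ofNat 0), (.ofNat 0), (.ofNat 0), (.ofNat 0)], [(.ofNat 0), (.ofNat 0), (.ofNat 0), (.ofNat 0), (.ofNat 0), (.ofNat 0)], [(.ofNat 0), (.ofNat 0), (.ofNat 0), (.ofNat 0), (.ofNat 0), (.ofNat 0)], [(.ofNat 0), (.ofNat 0), (.ofNat 0), (.ofNat 0), (.ofNat 0), (.ofNat 0)], [(.ofNat 0), (.ofNat 0), (.ofNat 0), (.ofNat 0), (.ofNat 0), (.ofNat 0)], [(.ofNat 0), (.ofNat 0), (.ofNat 0), (.ofNat 0), (.ofNat 0), (.ofNat 0)], [(.ofNat 0), (.ofNat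 0), (.ofNat 0), (.ofNat 0), (.ofNat 0), (.ofNat 0)], [(.ofNat 0), (.ofNat 0), (.ofNat 0), (.ofNat 0), (.ofNat 0), (.ofNat 0)], [(.ofNat 0), (.ofNat 0), (.ofNat 0), (.ofNat 0), (.ofNat 0), (.ofNat 0)], [(.ofNat 0), (.ofNat 0), (.ofNat 0), (.ofNat 0), (.ofNat 0), (.ofNat 0)], [(.ofNat 0), (.ofNat 0), (.ofNat 0), (.ofNat 0), (.ofNat 0), (.ofNat 0)], [(.ofNat 0), (.ofNat 0), (.ofNat 0), (.ofNat 0), (.ofNat 0), (.ofNat 0)], [(.ofNat 0), (.ofNat 0), (.ofNat 0), (.ofNat 0), (.ofNat 0), (.ofNat 0)], [(.ofNat 0), (.ofNat 0), (.ofNat 0), (.ofNat 0), (.ofNat 0), (.ofNat 0)], [(.ofNat 0), (.ofNat 0), (.ofNat 0), (.ofNat 0), (.ofNat 0), (.ofNat 0)], [(.ofNat 0), (.ofNat 0), (.ofNat 0), (.ofNat 0), (.ofNat 0), (.ofNat 0)], [(.ofNat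 0), (.ofNat 0), (.ofNat 0), (.ofNat 0), (.ofNat 0), (.ofNat 0)], [(.ofNat 0), (.ofNat 0), (.ofNat 0), (.ofNat 0), (.ofNat 0), (.ofNat 0)], [(.ofNat 0), (.ofNat 0), (.ofNat 0), (.ofNat 0), (.ofNat 0), (.ofNat 0)], [(.ofNat 0), (.ofNat 0), (.ofNat 0), (.ofNat 0), (.ofNat 0), (.ofNat 0)], [(.ofNat 0), (.ofNat 0), (.ofNat 0), (.ofNat 0), (.ofNat 0), (.ofNat 0)], [(.ofNat 0), (.ofNat 0), (.ofNat 0), (.ofNat 0), (.ofNat 0), (.ofNat 0)], [(.ofNat 0), (.ofNat 0), (.ofNat 0), (.ofNat 0), (.ofNat 0), (.ofNat 0)], [(.ofNat 0), (.ofNat 0), (.ofNat 0), (.ofNat 0), (.ofNat 0), (.ofNat 0)], [(.ofNat 0), (.ofNat 0), (.ofNat 0), (.ofNat 0), (.ofNat 0), (.ofNat 0)], [(.ofNat 0), (.ofNat 0), (.ofNat 0), (.ofNat 0), (.ofNat 0), (.ofNat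 0)], [(.ofNat 0), (.ofNat 0), (.ofNat 0), (.ofNat 0), (.ofNat 0), (.ofNat 0)], [(.ofNat 0), (.ofNat 0), (.ofNat 0), (.ofNat 0), (.ofNat 0), (.ofNat 0)], [(.ofNat 0), (.ofNat 0), (.ofNat 0), (.ofNat 0), (.ofNat 0), (.ofNat 0)], [(.ofNat 0), (.ofNat 0), (.ofNat 0), (.ofNat 0), (.ofNat 0), (.ofNat 0)], [(.ofNat 0), (.ofNat 0), (.ofNat 0), (.ofNat 0), (.ofNat 0), (.ofNat 0)], [(.ofNat 0), (.ofNat 0), (.ofNat 0), (.ofNat 0), (.ofNat 0), (.ofNat 0)], [(.ofNat 0), (.ofNat 0), (.ofNat 0), (.ofNat 0), (.ofNat 0), (.ofNat 0)], [(.ofNat 0), (.ofNat 0), (.ofNat 0), (.ofNat 0), (.ofNat 0), (.ofNat 0)], [(.ofNat 0), (.ofNat 0), (.ofNat 0), (.ofNat 0), (.ofNat 0), (.ofNat 0)], [(.ofNat 0), (.ofNat 0), (.ofNat 0), (.ofNat 0), (.ofNat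 0), (.ofNat 0)], [(.ofNat 0), (.ofNat 0), (.ofNat 0), (.ofNat 0), (.ofNat 0), (.ofNat 0)], [(.ofNat 0), (.ofNat 0), (.ofNat 0), (.ofNat 0), (.ofNat 0), (.ofNat 0)], [(.ofNat 0), (.ofNat 0), (.ofNat 0), (.ofNat 0), (.ofNat 0), (.ofNat 0)], [(.ofNat 0), (.ofNat 0), (.ofNat 0), (.ofNat 0), (.ofNat 0), (.ofNat 0)], [(.ofNat 0), (.ofNat 0), (.ofNat 0), (.ofNat 0), (.ofNat 0), (.ofNat 0)], [(.ofNat 0), (.ofNat 0), (.ofNat 0), (.ofNat 0), (.ofNat 0), (.ofNat 0)], [(.ofNat 0), (.ofNat 0), (.ofNat 0), (.ofNat 0), (.ofNat 0), (.ofNat 0)], [(.ofNat 0), (.ofNat 0), (.ofNat 0), (.ofNat 0), (.ofNat 0), (.ofNat 0)], [(.ofNat 0), (.ofNat 0), (.ofNat 0), (.ofNat 0), (.ofNat 0), (.ofNat 0)], [(.ofNat 0), (.ofNat 0), (.ofNat 0), (.ofNat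 0), (.ofNat 0), (.ofNat 0)], [(.ofNat 0), (.ofNat 0), (.ofNat 0), (.ofNat 0), (.ofNat 0), (.ofNat 0)], [(.ofNat 0), (.ofNat 0), (.ofNat 0), (.ofNat 0), (.ofNat 0), (.ofNat 0)], [(.ofNat 0), (.ofNat 0), (.ofNat 0), (.ofNat 0), (.ofNat 0), (.ofNat 0)], [(.ofNat 0), (.ofNat 0), (.ofNat 0), (.ofNat 0), (.ofNat 0), (.ofNat 0)], [(.ofNat 0), (.ofNat 0), (.ofNat 0), (.ofNat 0), (.ofNat 0), (.ofNat 0)], [(.ofNat 0), (.ofNat 0), (.ofNat 0), (.ofNat 0), (.ofNat 0), (.ofNat 0)], [(.ofNat 0), (.ofNat 0), (.ofNat 0), (.ofNat 0), (.ofNat 0), (.ofNat 0)], [(.ofNat 0), (.ofNat 0), (.ofNat 0), (.ofNat 0), (.ofNat 0), (.ofNat 0)], [(.ofNat 0), (.ofNat 0), (.ofNat 0), (.ofNat 0), (.ofNat 0), (.ofNat 0)], [(.ofNat 0), (.ofNat 0), (.ofNat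 0), (.ofNat 0), (.ofNat 0), (.ofNat 0)], [(.ofNat 0), (.ofNat 0), (.ofNat 0), (.ofNat 0), (.ofNat 0), (.ofNat 0)], [(.ofNat 0), (.ofNat 0), (.ofNat 0), (.ofNat 0), (.ofNat 0), (.ofNat 0)], [(.ofNat 0), (.ofNat 0), (.ofNat 0), (.ofNat 0), (.ofNat 0), (.ofNat 0)], [(.ofNat 0), (.ofNat 0), (.ofNat 0), (.ofNat 0), (.ofNat 0), (.ofNat 0)], [(.ofNat 0), (.ofNat 0), (.ofNat 0), (.ofNat 0), (.ofNat 0), (.ofNat 0)], [(.ofNat 0), (.ofNat 0), (.ofNat 0), (.ofNat 0), (.ofNat 0), (.ofNat 0)], [(.ofNat 0), (.ofNat 0), (.ofNat 0), (.ofNat 0), (.ofNat 0), (.ofNat 0)], [(.ofNat 0), (.ofNat 0), (.ofNat 0), (.ofNat 0), (.ofNat 0), (.ofNat 0)], [(.ofNat 0), (.ofNat 0), (.ofNat 0), (.ofNat 0), (.ofNat 0), (.ofNat 0)], [(.ofNat 0), (.ofNat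 0), (.ofNat 0), (.ofNat 0), (.ofNat 0), (.ofNat 0)], [(.ofNat 0), (.ofNat 0), (.ofNat 0), (.ofNat 0), (.ofNat 0), (.ofNat 0)], [(.ofNat 0), (.ofNat 0), (.ofNat 0), (.ofNat 0), (.ofNat 0), (.ofNat 0)], [(.ofNat 0), (.ofNat 0), (.ofNat 0), (.ofNat 0), (.ofNat 0), (.ofNat 0)], [(.ofNat 0), (.ofNat 0), (.ofNat 0), (.ofNat 0), (.ofNat 0), (.ofNat 0)], [(.ofNat 0), (.ofNat 0), (.ofNat 0), (.ofNat 0), (.ofNat 0), (.ofNat 0)], [(.ofNat 0), (.ofNat 0), (.ofNat 0), (.ofNat 0), (.ofNat 0), (.ofNat 0)], [(.ofNat 0), (.ofNat 0), (.ofNat 0), (.ofNat 0), (.ofNat 0), (.ofNat 0)], [(.ofNat 0), (.ofNat 0), (.ofNat 0), (.ofNat 0), (.ofNat 0), (.ofNat 0)], [(.ofNat 0), (.ofNat 0), (.ofNat 0), (.ofNat 0), (.ofNat 0), (.ofNat 0)], [(.ofNat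 0), (.ofNat 0), (.ofNat 0), (.ofNat 0), (.ofNat 0), (.ofNat 0)], [(.ofNat 0), (.ofNat 0), (.ofNat 0), (.ofNat 0), (.ofNat 0), (.ofNat 0)], [(.ofNat 0), (.ofNat 0), (.ofNat 0), (.ofNat 0), (.ofNat 0), (.ofNat 0)], [(.ofNat 0), (.ofNat 0), (.ofNat 0), (.ofNat 0), (.ofNat 0), (.ofNat 0)], [(.ofNat 0), (.ofNat 0), (.ofNat 0), (.ofNat 0), (.ofNat 0), (.ofNat 0)], [(.ofNat 0), (.ofNat 0), (.ofNat 0), (.ofNat 0), (.ofNat 0), (.ofNat 0)], [(.ofNat 0), (.ofNat 0), (.ofNat 0), (.ofNat 0), (.ofNat 0), (.ofNat 0)], [(.ofNat 0), (.ofNat 0), (.ofNat 0), (.ofNat 0), (.ofNat 0), (.ofNat 0)], [(.ofNat 0), (.ofNat 0), (.ofNat 0), (.ofNat 0), (.ofNat 0), (.ofNat 0)], [(.ofNat 0), (.ofNat 0), (.ofNat 0), (.ofNat 0), (.ofNat 0), (.ofNat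 0)], [(.ofNat 0), (.ofNat 0), (.ofNat 0), (.ofNat 0), (.ofNat 0), (.ofNat 0)], [(.ofNat 0), (.ofNat 0), (.ofNat 0), (.ofNat 0), (.ofNat 0), (.ofNat 0)], [(.ofNat 0), (.ofNat 0), (.ofNat 0), (.ofNat 0), (.ofNat 0), (.ofNat 0)], [(.ofNat 0), (.ofNat 0), (.ofNat 0), (.ofNat 0), (.ofNat 0), (.ofNat 0)], [(.ofNat 0), (.ofNat 0), (.ofNat 0), (.ofNat 0), (.ofNat 0), (.ofNat 0)], [(.ofNat 0), (.ofNat 0), (.ofNat 0), (.ofNat 0), (.ofNat 0), (.ofNat 0)], [(.ofNat 0), (.ofNat 0), (.ofNat 0), (.ofNat 0), (.ofNat 0), (.ofNat 0)], [(.ofNat 0), (.ofNat 0), (.ofNat 0), (.ofNat 0), (.ofNat 0), (.ofNat 0)], [(.ofNat 0), (.ofNat 0), (.ofNat 0), (.ofNat 0), (.ofNat 0), (.ofNat 0)], [(.ofNat 0), (.ofNat 0), (.ofNat 0), (.ofNat 0), (.ofNat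 0), (.ofNat 0)], [(.ofNat 0), (.ofNat 0), (.ofNat 0), (.ofNat 0), (.ofNat 0), (.ofNat 0)], [(.ofNat 0), (.ofNat 0), (.ofNat 0), (.ofNat 0), (.ofNat 0), (.ofNat 0)], [(.ofNat 0), (.ofNat 0), (.ofNat 0), (.ofNat 0), (.ofNat 0), (.ofNat 0)], [(.ofNat 0), (.ofNat 0), (.ofNat 0), (.ofNat 0), (.ofNat 0), (.ofNat 0)], [(.ofNat 0), (.ofNat 0), (.ofNat 0), (.ofNat 0), (.ofNat 0), (.ofNat 0)], [(.ofNat 0), (.ofNat 0), (.ofNat 0), (.ofNat 0), (.ofNat 0), (.ofNat 0)], [(.ofNat 0), (.ofNat 0), (.ofNat 0), (.ofNat 0), (.ofNat 0), (.ofNat 0)], [(.ofNat 0), (.ofNat 0), (.ofNat 0), (.ofNat 0), (.ofNat 0), (.ofNat 0)], [(.ofNat 0), (.ofNat 0), (.ofNat 0), (.ofNat 0), (.ofNat 0), (.ofNat 0)], [(.ofNat 0), (.ofNat 0), (.ofNat 0), (.ofNat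 0), (.ofNat 0), (.ofNat 0)], [(.ofNat 0), (.ofNat 0), (.ofNat 0), (.ofNat 0), (.ofNat 0), (.ofNat 0)], [(.ofNat 0), (.ofNat 0), (.ofNat 0), (.ofNat 0), (.ofNat 0), (.ofNat 0)], [(.ofNat 0), (.ofNat 0), (.ofNat 0), (.ofNat 0), (.ofNat 0), (.ofNat 0)], [(.ofNat 0), (.ofNat 0), (.ofNat 0), (.ofNat 0), (.ofNat 0), (.ofNat 0)], [(.ofNat 0), (.ofNat 0), (.ofNat 0), (.ofNat 0), (.ofNat 0), (.ofNat 0)], [(.ofNat 0), (.ofNat 0), (.ofNat 0), (.ofNat 0), (.ofNat 0), (.ofNat 0)], [(.ofNat 0), (.ofNat 0), (.ofNat 0), (.ofNat 0), (.ofNat 0), (.ofNat 0)], [(.ofNat 0), (.ofNat 0), (.ofNat 0), (.ofNat 0), (.ofNat 0), (.ofNat 0)], [(.ofNat 0), (.ofNat 0), (.ofNat 0), (.ofNat 0), (.ofNat 0), (.ofNat 0)], [(.ofNat 0), (.ofNat 0), (.ofNat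 0), (.ofNat 0), (.ofNat 0), (.ofNat 0)], [(.ofNat 0), (.ofNat 0), (.ofNat 0), (.ofNat 0), (.ofNat 0), (.ofNat 0)], [(.ofNat 0), (.ofNat 0), (.ofNat 0), (.ofNat 0), (.ofNat 0), (.ofNat 0)], [(.ofNat 0), (.ofNat 0), (.ofNat 0), (.ofNat 0), (.ofNat 0), (.ofNat 0)], [(.ofNat 0), (.ofNat 0), (.ofNat 0), (.ofNat 0), (.ofNat 0), (.ofNat 0)], [(.ofNat 0), (.ofNat 0), (.ofNat 0), (.ofNat 0), (.ofNat 0), (.ofNat 0)], [(.ofNat 0), (.ofNat 0), (.ofNat 0), (.ofNat 0), (.ofNat 0), (.ofNat 0)], [(.ofNat 0), (.ofNat 0), (.ofNat 0), (.ofNat 0), (.ofNat 0), (.ofNat 0)], [(.ofNat 0), (.ofNat 0), (.ofNat 0), (.ofNat 0), (.ofNat 0), (.ofNat 0)], [(.ofNat 0), (.ofNat 0), (.ofNat 0), (.ofNat 0), (.ofNat 0), (.ofNat 0)], [(.ofNat 0), (.ofNat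 0), (.ofNat 0), (.ofNat 0), (.ofNat 0), (.ofNat 0)], [(.ofNat 0), (.ofNat 0), (.ofNat 0), (.ofNat 0), (.ofNat 0), (.ofNat 0)], [(.ofNat 0), (.ofNat 0), (.ofNat 0), (.ofNat 0), (.ofNat 0), (.ofNat 0)], [(.ofNat 0), (.ofNat 0), (.ofNat 0), (.ofNat 0), (.ofNat 0), (.ofNat 0)], [(.ofNat 0), (.ofNat 0), (.ofNat 0), (.ofNat 0), (.ofNat 0), (.ofNat 0)], [(.ofNat 0), (.ofNat 0), (.ofNat 0), (.ofNat 0), (.ofNat 0), (.ofNat 0)], [(.ofNat 0), (.ofNat 0), (.ofNat 0), (.ofNat 0), (.ofNat 0), (.ofNat 0)], [(.ofNat 0), (.ofNat 0), (.ofNat 0), (.ofNat 0), (.ofNat 0), (.ofNat 0)], [(.ofNat 0), (.ofNat 0), (.ofNat 0), (.ofNat 0), (.ofNat 0), (.ofNat 0)], [(.ofNat 0), (.ofNat 0), (.ofNat 0), (.ofNat 0), (.ofNat 0), (.ofNat 0)], [(.ofNat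 0), (.ofNat 0), (.ofNat 0), (.ofNat 0), (.ofNat 0), (.ofNat 0)], [(.ofNat 0), (.ofNat 0), (.ofNat 0), (.ofNat 0), (.ofNat 0), (.ofNat 0)], [(.ofNat 0), (.ofNat 0), (.ofNat 0), (.ofNat 0), (.ofNat 0), (.ofNat 0)], [(.ofNat 0), (.ofNat 0), (.ofNat 0), (.ofNat 0), (.ofNat 0), (.ofNat 0)], [(.ofNat 0), (.ofNat 0), (.ofNat 0), (.ofNat 0), (.ofNat 0), (.ofNat 0)], [(.ofNat 0), (.ofNat 0), (.ofNat 0), (.ofNat 0), (.ofNat 0), (.ofNat 0)], [(.ofNat 0), (.ofNat 0), (.ofNat 0), (.ofNat 0), (.ofNat 0), (.ofNat 0)], [(.ofNat 0), (.ofNat 0), (.ofNat 0), (.ofNat 0), (.ofNat 0), (.ofNat 0)], [(.ofNat 0), (.ofNat 0), (.ofNat 0), (.ofNat 0), (.ofNat 0), (.ofNat 0)], [(.ofNat 0), (.ofNat 0), (.ofNat 0), (.ofNat 0), (.ofNat 0), (.ofNat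 0)], [(.ofNat 0), (.ofNat 0), (.ofNat 0), (.ofNat 0), (.ofNat 0), (.ofNat 0)], [(.ofNat 0), (.ofNat 0), (.ofNat 0), (.ofNat 0), (.ofNat 0), (.ofNat 0)], [(.ofNat 0), (.ofNat 0), (.ofNat 0), (.ofNat 0), (.ofNat 0), (.ofNat 0)], [(.ofNat 0), (.ofNat 0), (.ofNat 0), (.ofNat 0), (.ofNat 0), (.ofNat 0)], [(.ofNat 0), (.ofNat 0), (.ofNat 0), (.ofNat 0), (.ofNat 0), (.ofNat 0)], [(.ofNat 0), (.ofNat 0), (.ofNat 0), (.ofNat 0), (.ofNat 0), (.ofNat 0)], [(.ofNat 0), (.ofNat 0), (.ofNat 0), (.ofNat 0), (.ofNat 0), (.ofNat 0)], [(.ofNat 0), (.ofNat 0), (.ofNat 0), (.ofNat 0), (.ofNat 0), (.ofNat 0)], [(.ofNat 0), (.ofNat 0), (.ofNat 0), (.ofNat 0), (.ofNat 0), (.ofNat 0)], [(.ofNat 0), (.ofNat 0), (.ofNat 0), (.ofNat 0), (.ofNat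 0), (.ofNat 0)], [(.ofNat 0), (.ofNat 0), (.ofNat 0), (.ofNat 0), (.ofNat 0), (.ofNat 0)], [(.ofNat 0), (.ofNat 0), (.ofNat 0), (.ofNat 0), (.ofNat 0), (.ofNat 0)], [(.ofNat 0), (.ofNat 0), (.ofNat 0), (.ofNat 0), (.ofNat 0), (.ofNat 0)], [(.ofNat 0), (.ofNat 0), (.ofNat 0), (.ofNat 0), (.ofNat 0), (.ofNat 0)], [(.ofNat 0), (.ofNat 0), (.ofNat 0), (.ofNat 0), (.ofNat 0), (.ofNat 0)], [(.ofNat 0), (.ofNat 0), (.ofNat 0), (.ofNat 0), (.ofNat 0), (.ofNat 0)], [(.ofNat 0), (.ofNat 0), (.ofNat 0), (.ofNat 0), (.ofNat 0), (.ofNat 0)], [(.ofNat 0), (.ofNat 0), (.ofNat 0), (.ofNat 0), (.ofNat 0), (.ofNat 0)], [(.ofNat 0), (.ofNat 0), (.ofNat 0), (.ofNat 0), (.ofNat 0), (.ofNat 0)], [(.ofNat 0), (.ofNat 0), (.ofNat 0), (.ofNat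 0), (.ofNat 0), (.ofNat 0)], [(.ofNat 0), (.ofNat 0), (.ofNat 0), (.ofNat 0), (.ofNat 0), (.ofNat 0)], [(.ofNat 0), (.ofNat 0), (.ofNat 0), (.ofNat 0), (.ofNat 0), (.ofNat 0)], [(.ofNat 0), (.ofNat 0), (.ofNat 0), (.ofNat 0), (.ofNat 0), (.ofNat 0)], [(.ofNat 0), (.ofNat 0), (.ofNat 0), (.ofNat 0), (.ofNat 0), (.ofNat 0)], [(.ofNat 0), (.ofNat 0), (.ofNat 0), (.ofNat 0), (.ofNat 0), (.ofNat 0)], [(.ofNat 0), (.ofNat 0), (.ofNat 0), (.ofNat 0), (.ofNat 0), (.ofNat 0)], [(.ofNat 0), (.ofNat 0), (.ofNat 0), (.ofNat 0), (.ofNat 0), (.ofNat 0)], [(.ofNat 0), (.ofNat 0), (.ofNat 0), (.ofNat 0), (.ofNat 0), (.ofNat 0)], [(.ofNat 0), (.ofNat 0), (.ofNat 0), (.ofNat 0), (.ofNat 0), (.ofNat 0)], [(.ofNat 0), (.ofNat 0), (.ofNat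 0), (.ofNat 0), (.ofNat 0), (.ofNat 0)], [(.ofNat 0), (.ofNat 0), (.ofNat 0), (.ofNat 0), (.ofNat 0), (.ofNat 0)], [(.ofNat 0), (.ofNat 0), (.ofNat 0), (.ofNat 0), (.ofNat 0), (.ofNat 0)], [(.ofNat 0), (.ofNat 0), (.ofNat 0), (.ofNat 0), (.ofNat 0), (.ofNat 0)], [(.ofNat 0), (.ofNat 0), (.ofNat 0), (.ofNat 0), (.ofNat 0), (.ofNat 0)], [(.ofNat 0), (.ofNat 0), (.ofNat 0), (.ofNat 0), (.ofNat 0), (.ofNat 0)], [(.ofNat 0), (.ofNat 0), (.ofNat 0), (.ofNat 0), (.ofNat 0), (.ofNat 0)], [(.ofNat 0), (.ofNat 0), (.ofNat 0), (.ofNat 0), (.ofNat 0), (.ofNat 0)], [(.ofNat 0), (.ofNat 0), (.ofNat 0), (.ofNat 0), (.ofNat 0), (.ofNat 0)], [(.ofNat 0), (.ofNat 0), (.ofNat 0), (.ofNat 0), (.ofNat 0), (.ofNat 0)], [(.ofNat 0), (.ofNat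 0), (.ofNat 0), (.ofNat 0), (.ofNat 0), (.ofNat 0)], [(.ofNat 0), (.ofNat 0), (.ofNat 0), (.ofNat 0), (.ofNat 0), (.ofNat 0)], [(.ofNat 0), (.ofNat 0), (.ofNat 0), (.ofNat 0), (.ofNat 0), (.ofNat 0)], [(.ofNat 0), (.ofNat 0), (.ofNat 0), (.ofNat 0), (.ofNat 0), (.ofNat 0)], [(.ofNat 0), (.ofNat 0), (.ofNat 0), (.ofNat 0), (.ofNat 0), (.ofNat 0)], [(.ofNat 0), (.ofNat 0), (.ofNat 0), (.ofNat 0), (.ofNat 0), (.ofNat 0)], [(.ofNat 0), (.ofNat 0), (.ofNat 0), (.ofNat 0), (.ofNat 0), (.ofNat 0)], [(.ofNat 0), (.ofNat 0), (.ofNat 0), (.ofNat 0), (.ofNat 0), (.ofNat 0)], [(.ofNat 0), (.ofNat 0), (.ofNat 0), (.ofNat 0), (.ofNat 0), (.ofNat 0)], [(.ofNat 0), (.ofNat 0), (.ofNat 0), (.ofNat 0), (.ofNat 0), (.ofNat 0)], [(.ofNat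 0), (.ofNat 0), (.ofNat 0), (.ofNat 0), (.ofNat 0), (.ofNat 0)], [(.ofNat 0), (.ofNat 0), (.ofNat 0), (.ofNat 0), (.ofNat 0), (.ofNat 0)], [(.ofNat 0), (.ofNat 0), (.ofNat 0), (.ofNat 0), (.ofNat 0), (.ofNat 0)], [(.ofNat 0), (.ofNat 0), (.ofNat 0), (.ofNat 0), (.ofNat 0), (.ofNat 0)], [(.ofNat 0), (.ofNat 0), (.ofNat 0), (.ofNat 0), (.ofNat 0), (.ofNat 0)], [(.ofNat 0), (.ofNat 0), (.ofNat 0), (.ofNat 0), (.ofNat 0), (.ofNat 0)], [(.ofNat 0), (.ofNat 0), (.ofNat 0), (.ofNat 0), (.ofNat 0), (.ofNat 0)], [(.ofNat 0), (.ofNat 0), (.ofNat 0), (.ofNat 0), (.ofNat 0), (.ofNat 0)], [(.ofNat 0), (.ofNat 0), (.ofNat 0), (.ofNat 0), (.ofNat 0), (.ofNat 0)], [(.ofNat 0), (.ofNat 0), (.ofNat 0), (.ofNat 0), (.ofNat 0), (.ofNat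 0)], [(.ofNat 0), (.ofNat 0), (.ofNat 0), (.ofNat 0), (.ofNat 0), (.ofNat 0)], [(.ofNat 0), (.ofNat 0), (.ofNat 0), (.ofNat 0), (.ofNat 0), (.ofNat 0)], [(.ofNat 0), (.ofNat 0), (.ofNat 0), (.ofNat 0), (.ofNat 0), (.ofNat 0)], [(.ofNat 0), (.ofNat 0), (.ofNat 0), (.ofNat 0), (.ofNat 0), (.ofNat 0)], [(.ofNat 0), (.ofNat 0), (.ofNat 0), (.ofNat 0), (.ofNat 0), (.ofNat 0)], [(.ofNat 0), (.ofNat 0), (.ofNat 0), (.ofNat 0), (.ofNat 0), (.ofNat 0)], [(.ofNat 0), (.ofNat 0), (.ofNat 0), (.ofNat 0), (.ofNat 0), (.ofNat 0)], [(.ofNat 0), (.ofNat 0), (.ofNat 0), (.ofNat 0), (.ofNat 0), (.ofNat 0)], [(.ofNat 0), (.ofNat 0), (.ofNat 0), (.ofNat 0), (.ofNat 0), (.ofNat 0)], [(.ofNat 0), (.ofNat 0), (.ofNat 0), (.ofNat 0), (.ofNat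 0), (.ofNat 0)], [(.ofNat 0), (.ofNat 0), (.ofNat 0), (.ofNat 0), (.ofNat 0), (.ofNat 0)], [(.ofNat 0), (.ofNat 0), (.ofNat 0), (.ofNat 0), (.ofNat 0), (.ofNat 0)], [(.ofNat 0), (.ofNat 0), (.ofNat 0), (.ofNat 0), (.ofNat 0), (.ofNat 0)], [(.ofNat 0), (.ofNat 0), (.ofNat 0), (.ofNat 0), (.ofNat 0), (.ofNat 0)], [(.ofNat 0), (.ofNat 0), (.ofNat 0), (.ofNat 0), (.ofNat 0), (.ofNat 0)], [(.ofNat 0), (.ofNat 0), (.ofNat 0), (.ofNat 0), (.ofNat 0), (.ofNat 0)], [(.ofNat 0), (.ofNat 0), (.ofNat 0), (.ofNat 0), (.ofNat 0), (.ofNat 0)], [(.ofNat 0), (.ofNat 0), (.ofNat 0), (.ofNat 0), (.ofNat 0), (.ofNat 0)], [(.ofNat 0), (.ofNat 0), (.ofNat 0), (.ofNat 0), (.ofNat 0), (.ofNat 0)], [(.ofNat 0), (.ofNat 0), (.ofNat 0), (.ofNat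 0), (.ofNat 0), (.ofNat 0)], [(.ofNat 0), (.ofNat 0), (.ofNat 0), (.ofNat 0), (.ofNat 0), (.ofNat 0)], [(.ofNat 0), (.ofNat 0), (.ofNat 0), (.ofNat 0), (.ofNat 0), (.ofNat 0)], [(.ofNat 0), (.ofNat 0), (.ofNat 0), (.ofNat 0), (.ofNat 0), (.ofNat 0)], [(.ofNat 0), (.ofNat 0), (.ofNat 0), (.ofNat 0), (.ofNat 0), (.ofNat 0)], [(.ofNat 0), (.ofNat 0), (.ofNat 0), (.ofNat 0), (.ofNat 0), (.ofNat 0)], [(.ofNat 0), (.ofNat 0), (.ofNat 0), (.ofNat 0), (.ofNat 0), (.ofNat 0)], [(.ofNat 0), (.ofNat 0), (.ofNat 0), (.ofNat 0), (.ofNat 0), (.ofNat 0)], [(.ofNat 0), (.ofNat 0), (.ofNat 0), (.ofNat 0), (.ofNat 0), (.ofNat 0)], [(.ofNat 0), (.ofNat 0), (.ofNat 0), (.ofNat 0), (.ofNat 0), (.ofNat 0)], [(.ofNat 0), (.ofNat 0), (.ofNat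 0), (.ofNat 0), (.ofNat 0), (.ofNat 0)], [(.ofNat 0), (.ofNat 0), (.ofNat 0), (.ofNat 0), (.ofNat 0), (.ofNat 0)], [(.ofNat 0), (.ofNat 0), (.ofNat 0), (.ofNat 0), (.ofNat 0), (.ofNat 0)], [(.ofNat 0), (.ofNat 0), (.ofNat 0), (.ofNat 0), (.ofNat 0), (.ofNat 0)], [(.ofNat 0), (.ofNat 0), (.ofNat 0), (.ofNat 0), (.ofNat 0), (.ofNat 0)], [(.ofNat 0), (.ofNat 0), (.ofNat 0), (.ofNat 0), (.ofNat 0), (.ofNat 0)], [(.ofNat 0), (.ofNat 0), (.ofNat 0), (.ofNat 0), (.ofNat 0), (.ofNat 0)], [(.ofNat 0), (.ofNat 0), (.ofNat 0), (.ofNat 0), (.ofNat 0), (.ofNat 0)], [(.ofNat 0), (.ofNat 0), (.ofNat 0), (.ofNat 0), (.ofNat 0), (.ofNat 0)], [(.ofNat 0), (.ofNat 0), (.ofNat 0), (.ofNat 0), (.ofNat 0), (.ofNat 0)], [(.ofNat 0), (.ofNat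 0), (.ofNat 0), (.ofNat 0), (.ofNat 0), (.ofNat 0)], [(.ofNat 0), (.ofNat 0), (.ofNat 0), (.ofNat 0), (.ofNat 0), (.ofNat 0)], [(.ofNat 0), (.ofNat 0), (.ofNat 0), (.ofNat 0), (.ofNat 0), (.ofNat 0)], [(.ofNat 0), (.ofNat 0), (.ofNat 0), (.ofNat 0), (.ofNat 0), (.ofNat 0)], [(.ofNat 0), (.ofNat 0), (.ofNat 0), (.ofNat 0), (.ofNat 0), (.ofNat 0)], [(.ofNat 0), (.ofNat 0), (.ofNat 0), (.ofNat 0), (.ofNat 0), (.ofNat 0)], [(.ofNat 0), (.ofNat 0), (.ofNat 0), (.ofNat 0), (.ofNat 0), (.ofNat 0)], [(.ofNat 0), (.ofNat 0), (.ofNat 0), (.ofNat 0), (.ofNat 0), (.ofNat 0)], [(.ofNat 0), (.ofNat 0), (.ofNat 0), (.ofNat 0), (.ofNat 0), (.ofNat 0)], [(.ofNat 0), (.ofNat 0), (.ofNat 0), (.ofNat 0), (.ofNat 0), (.ofNat 0)], [(.ofNat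 0), (.ofNat 0), (.ofNat 0), (.ofNat 0), (.ofNat 0), (.ofNat 0)], [(.ofNat 0), (.ofNat 0), (.ofNat 0), (.ofNat 0), (.ofNat 0), (.ofNat 0)], [(.ofNat 0), (.ofNat 0), (.ofNat 0), (.ofNat 0), (.ofNat 0), (.ofNat 0)], [(.ofNat 0), (.ofNat 0), (.ofNat 0), (.ofNat 0), (.ofNat 0), (.ofNat 0)], [(.ofNat 0), (.ofNat 0), (.ofNat 0), (.ofNat 0), (.ofNat 0), (.ofNat 0)], [(.ofNat 0), (.ofNat 0), (.ofNat 0), (.ofNat 0), (.ofNat 0), (.ofNat 0)], [(.ofNat 0), (.ofNat 0), (.ofNat 0), (.ofNat 0), (.ofNat 0), (.ofNat 0)], [(.ofNat 0), (.ofNat 0), (.ofNat 0), (.ofNat 0), (.ofNat 0), (.ofNat 0)], [(.ofNat 0), (.ofNat 0), (.ofNat 0), (.ofNat 0), (.ofNat 0), (.ofNat 0)], [(.ofNat 0), (.ofNat 0), (.ofNat 0), (.ofNat 0), (.ofNat 0), (.ofNat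 0)], [(.ofNat 0), (.ofNat 0), (.ofNat 0), (.ofNat 0), (.ofNat 0), (.ofNat 0)], [(.ofNat 0), (.ofNat 0), (.ofNat 0), (.ofNat 0), (.ofNat 0), (.ofNat 0)], [(.ofNat 0), (.ofNat 0), (.ofNat 0), (.ofNat 0), (.ofNat 0), (.ofNat 0)], [(.ofNat 0), (.ofNat 0), (.ofNat 0), (.ofNat 0), (.ofNat 0), (.ofNat 0)], [(.ofNat 0), (.ofNat 0), (.ofNat 0), (.ofNat 0), (.ofNat 0), (.ofNat 0)], [(.ofNat 0), (.ofNat 0), (.ofNat 0), (.ofNat 0), (.ofNat 0), (.ofNat 0)], [(.ofNat 1), (.ofNat 0), (.ofNat 0), (.ofNat 0), (.ofNat 0), (.ofNat 0)], [(.ofNat 0), (.ofNat 1), (.ofNat 0), (.ofNat 0), (.ofNat 0), (.ofNat 0)], [(.ofNat 0), (.ofNat 0), (.ofNat 1), (.ofNat 0), (.ofNat 0), (.ofNat 0)], [(.ofNat 0), (.ofNat 0), (.ofNat 0), (.ofNat 1), (.ofNat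 0), (.ofNat 0)], [(.ofNat 0), (.ofNat 0), (.ofNat 0), (.ofNat 0), (.ofNat 1), (.ofNat 0)], [(.ofNat 0), (.ofNat 0), (.ofNat 0), (.ofNat 0), (.ofNat 0), (.ofNat 1)], [(.ofNat 0), (.ofNat 0), (.ofNat 0), (.ofNat 0), (.ofNat 0), (.ofNat 0)], [(.ofNat 1), (.ofNat 0), (.ofNat 0), (.ofNat 0), (.ofNat 0), (.ofNat 0)], [(.ofNat 0), (.ofNat 0), (.ofNat 0), (.ofNat 0), (.ofNat 0), (.ofNat 1)], [(.ofNat 2), (.ofNat 0), (.ofNat 0), (.ofNat 0), (.ofNat 0), (.negSucc 1)], [(.ofNat 0), (.ofNat 1), (.ofNat 0), (.ofNat 0), (.ofNat 0), (.ofNat 0)], [(.negSucc 0), (.ofNat 0), (.ofNat 0), (.ofNat 0), (.ofNat 0), (.ofNat 2)], [(.negSucc 0), (.ofNat 6), (.ofNat 0), (.ofNat 0), (.ofNat 0), (.ofNat 4)], [(.negSucc 21), (.negSucc 10), (.ofNat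 0), (.ofNat 11), (.ofNat 0), (.ofNat 11)], [(.negSucc 4), (.ofNat 24), (.ofNat 0), (.negSucc 1), (.ofNat 3), (.ofNat 16)], [(.ofNat 33), (.ofNat 15), (.ofNat 0), (.negSucc 2), (.negSucc 5), (.negSucc 32)]]

/-- the twist of a word -/
noncomputable def Ev (w : ℕ) : List ℤ := lnth evL w

/-- all relator words -/
def relL : List (List ℕ) := [[4, 4, 4, 4, 4], [2, 4, 2, 4, 2, 4], [0, 0, 0, 0, 0, 0, 0], [2, 2, 2, 2, 2, 2, 2], [2, 4, 2, 4, 2, 5, 5, 5, 5], [0, 5, 0, 5, 0, 5, 0, 5, 0, 5], [0, 2, 0, 3, 0, 2, 1, 3, 0, 3], [2, 5, 2, 5, 2, 5, 2, 5, 2, 5], [0, 4, 0, 4, 0, 4, 0, 4, 0, 4], [0, 6, 0, 6, 0, 6, 0, 6, 0, 6], [6, 6, 6, 6, 6, 6, 6, 6, 6, 6, 6], [2, 2, 2, 2, 2, 2, 5, 3, 5, 3, 5], [0, 0, 2, 0, 0, 2, 0, 0, 2, 0, 0, 2], [0,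 2, 4, 1, 3, 5, 1, 2, 0, 5, 3, 5], [0, 4, 4, 0, 4, 4, 0, 4, 4, 0, 4, 4], [0, 0, 3, 0, 2, 1, 3, 3, 1, 2, 1, 2], [0, 2, 4, 1, 3, 5, 1, 2, 0, 2, 4, 2], [0, 3, 3, 0, 5, 2, 0, 3, 3, 0, 5, 2], [4, 7, 4, 7, 4, 7, 4, 7, 4, 7, 4, 7], [0, 4, 0, 4, 1, 3, 0, 5, 0, 5, 5, 3], [0, 4, 2, 2, 5, 3, 0, 4, 2, 2, 5, 3], [0, 2, 1, 2, 0, 2, 1, 2, 0, 2, 1, 2], [0, 0, 4, 0, 0, 4, 0, 0, 4, 0, 0, 4], [0, 2, 0, 2, 0, 2, 0, 2, 0, 2, 0, 2], [2, 2, 7, 2, 2, 7, 2, 2, 7, 2, 2, 7], [0, 7, 4, 0, 7, 4, 0, 7, 4, 0, 7, 4], [0, 0, 2, 2, 0, 0, 2, 2, 0, 0, 2, 2], [0, 0, 0, 2, 2, 1, 1, 3, 3, 0, 0, 2], [0, 0, 0, 3, 4, 3, 3, 0, 2, 2, 2, 0, 4], [0, 4, 3, 4, 2, 5, 1, 2, 2, 5, 3, 5, 5], [0, 0, 4, 3, 4, 6, 6, 6, 2, 7, 7, 2, 5], [0, 0, 0, 2, 2, 5, 3, 1, 2, 5, 3,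 1, 5], [0, 4, 7, 2, 4, 0, 5, 7, 1, 6, 1, 6, 4], [0, 0, 0, 5, 5, 0, 4, 0, 5, 1, 4, 1, 3], [0, 2, 2, 1, 4, 1, 6, 3, 1, 6, 5, 3, 3], [0, 2, 1, 4, 6, 4, 2, 1, 5, 7, 1, 3, 7], [0, 0, 3, 3, 3, 0, 3, 1, 2, 0, 3, 0, 3], [0, 0, 0, 0, 3, 1, 1, 2, 2, 0, 0, 3, 3], [0, 0, 0, 5, 3, 5, 5, 0, 0, 3, 1, 3, 5], [0, 0, 3, 4, 1, 4, 4, 3, 3, 3, 0, 0, 5], [0, 4, 0, 4, 0, 4, 0, 4, 0, 5, 5, 5, 5], [0, 0, 3, 3, 3, 5, 5, 2, 2, 4, 0, 5, 3], [2, 4, 2, 4, 2, 5, 2, 4, 2, 4, 2, 5, 5], [0, 2, 2, 0, 2, 4, 1, 2, 4, 0, 2, 5, 5], [0, 2, 1, 7, 4, 1, 5, 7, 5, 1, 4, 6, 4], [2, 4, 4, 4, 4, 2, 5, 2, 5, 2, 5, 2, 5], [0, 0, 3, 0, 3, 4, 0, 2, 2, 1, 4, 2, 4], [0, 4, 3, 4, 2, 5, 1, 2, 2, 2, 4, 2, 5], [0, 0, 0, 2, 4, 2, 5, 0, 0, 3, 1, 3, 5], [0, 0, 3, 0, 3, 4,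 0, 2, 2, 1, 3, 5, 3], [0, 0, 2, 1, 3, 3, 0, 0, 3, 1, 3, 0, 2], [0, 0, 3, 0, 3, 3, 1, 3, 3, 1, 2, 0, 3], [0, 4, 0, 4, 1, 3, 0, 5, 0, 4, 4, 4, 3], [0, 4, 4, 4, 4, 0, 5, 0, 5, 0, 5, 0, 5], [0, 4, 4, 0, 4, 4, 0, 4, 4, 0, 5, 5, 5], [0, 0, 0, 3, 0, 3, 0, 0, 2, 2, 1, 2, 1, 2], [0, 2, 2, 0, 2, 4, 1, 2, 4, 0, 2, 4, 4, 4], [0, 0, 4, 0, 4, 0, 3, 5, 3, 4, 1, 4, 1, 2], [0, 3, 5, 3, 5, 3, 0, 4, 0, 4, 0, 4, 0, 4], [0, 0, 0, 5, 3, 4, 4, 4, 0, 0, 3, 1, 3, 5], [0, 2, 0, 5, 2, 1, 5, 3, 1, 3, 4, 2, 0, 4], [0, 2, 1, 6, 1, 6, 3, 6, 1, 6, 2, 2, 2, 4], [0, 4, 3, 3, 5, 6, 5, 5, 1, 5, 2, 6, 1, 5], [0, 2, 2, 1, 5, 1, 4, 2, 0, 5, 0, 4, 0, 3], [0, 4, 7, 3, 5, 0, 7, 0, 4, 7, 3, 5, 0, 7], [0, 3, 0, 4, 6, 2, 1, 7, 1, 2, 4, 0, 4, 7], [0, 0, 3, 3,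 0, 2, 2, 2, 1, 2, 2, 2, 0, 3], [0, 2, 2, 0, 6, 2, 4, 6, 4, 4, 6, 3, 6, 3], [0, 2, 1, 3, 0, 3, 0, 5, 3, 5, 3, 5, 0, 3], [0, 0, 3, 3, 3, 4, 4, 4, 2, 2, 4, 0, 5, 3], [0, 4, 2, 2, 2, 4, 2, 4, 0, 4, 2, 2, 5, 3], [0, 0, 3, 1, 3, 3, 3, 0, 3, 1, 3, 3, 0, 2], [0, 0, 0, 3, 3, 3, 1, 2, 0, 2, 2, 0, 3, 3], [0, 3, 4, 0, 3, 5, 5, 0, 3, 4, 0, 3, 5, 5], [0, 2, 0, 3, 0, 2, 1, 4, 2, 4, 2, 4, 0, 3], [0, 5, 7, 1, 5, 7, 1, 6, 1, 5, 6, 6, 3, 7], [0, 3, 5, 1, 4, 2, 5, 1, 5, 1, 3, 3, 5, 3], [0, 2, 4, 0, 5, 2, 0, 3, 5, 0, 4, 1, 4, 4], [0, 0, 4, 4, 3, 0, 3, 5, 2, 0, 4, 1, 3, 3], [0, 0, 3, 4, 1, 4, 4, 2, 2, 2, 2, 0, 0, 5], [0, 0, 2, 1, 3, 0, 3, 0, 0, 3, 0, 2, 0, 3], [0, 0, 2, 2, 2, 2, 0, 3, 1, 2, 0, 3, 0, 3], [0, 0, 2, 5, 0, 3, 1, 3, 0, 5,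 3, 5, 5, 3], [0, 0, 3, 3, 3, 0, 2, 0, 2, 2, 1, 2, 1, 3], [0, 0, 0, 3, 0, 2, 2, 5, 3, 4, 3, 3, 3, 4], [0, 0, 0, 0, 4, 0, 2, 4, 3, 0, 2, 4, 3, 3], [0, 3, 6, 5, 6, 2, 2, 0, 3, 6, 5, 6, 2, 2], [0, 0, 4, 0, 7, 2, 1, 2, 7, 4, 1, 4, 0, 4], [0, 0, 0, 2, 1, 1, 2, 2, 2, 1, 2, 2, 1, 3], [0, 3, 5, 3, 5, 2, 5, 3, 0, 4, 2, 2, 5, 3], [0, 3, 3, 0, 4, 1, 4, 3, 5, 1, 4, 4, 1, 5], [0, 2, 0, 3, 0, 2, 1, 3, 0, 4, 2, 4, 2, 4], [0, 0, 2, 0, 3, 1, 3, 0, 0, 3, 1, 2, 2, 2], [0, 2, 4, 1, 7, 2, 0, 2, 5, 5, 7, 1, 3, 3], [2, 2, 2, 2, 2, 2, 5, 3, 4, 4, 4, 4, 3, 5], [0, 0, 2, 6, 2, 1, 2, 5, 3, 1, 5, 5, 1, 6], [0, 0, 2, 5, 0, 3, 1, 3, 0, 2, 4, 2, 5, 3], [0, 0, 2, 1, 2, 5, 1, 2, 0, 4, 2, 5, 2, 5], [0, 0, 0, 4, 4, 1, 4, 3, 0, 4, 3, 5, 2, 4], [0, 2,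 0, 4, 2, 4, 2, 4, 0, 2, 1, 3, 0, 3], [0, 3, 3, 4, 1, 4, 6, 0, 6, 3, 7, 1, 7, 5], [0, 0, 3, 0, 2, 1, 3, 1, 3, 0, 3, 0, 2, 2], [0, 0, 0, 2, 1, 2, 2, 0, 0, 0, 2, 1, 2, 2], [0, 2, 1, 5, 2, 2, 5, 0, 2, 1, 5, 2, 2, 5], [0, 0, 0, 5, 1, 7, 4, 2, 6, 0, 7, 5, 6, 5], [0, 4, 3, 4, 2, 5, 1, 2, 2, 5, 3, 4, 4, 4], [2, 6, 2, 6, 2, 6, 2, 6, 2, 6, 2, 6, 2, 6], [0, 0, 4, 2, 0, 4, 3, 3, 5, 5, 3, 4, 3, 4], [0, 0, 0, 3, 3, 1, 1, 2, 2, 2, 1, 1, 1, 3], [0, 2, 0, 2, 4, 4, 2, 4, 0, 4, 0, 5, 1, 5], [0, 0, 0, 0, 2, 0, 5, 0, 4, 1, 5, 1, 4, 4], [0, 0, 2, 0, 0, 2, 2, 2, 0, 0, 3, 3, 1, 2], [0, 0, 4, 4, 0, 2, 5, 0, 4, 3, 4, 0, 5, 3], [0, 0, 4, 3, 7, 0, 2, 7, 3, 0, 3, 4, 2, 4], [0, 0, 3, 1, 2, 4, 0, 5, 0, 0, 5, 1, 2, 5], [0, 4, 1, 7, 7, 3, 6, 3,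 7, 2, 7, 1, 2, 4], [2, 2, 4, 2, 4, 2, 2, 5, 2, 5, 2, 5, 2, 5], [0, 0, 0, 2, 0, 2, 4, 3, 5, 0, 0, 0, 2, 5], [0, 0, 4, 3, 7, 0, 2, 7, 3, 0, 3, 3, 5, 3], [0, 2, 1, 5, 5, 2, 2, 4, 0, 5, 1, 2, 1, 3], [0, 0, 4, 2, 2, 4, 3, 4, 1, 2, 4, 0, 4, 4], [0, 2, 0, 3, 0, 5, 3, 5, 3, 5, 1, 3, 0, 3], [0, 0, 2, 4, 2, 5, 2, 0, 0, 5, 2, 4, 3, 3], [0, 3, 4, 4, 3, 5, 0, 5, 0, 5, 1, 4, 4, 3], [0, 0, 0, 0, 5, 1, 3, 3, 3, 1, 2, 2, 5, 2], [0, 2, 4, 3, 0, 5, 5, 0, 2, 4, 3, 0, 5, 5], [0, 0, 2, 0, 3, 0, 2, 2, 1, 2, 0, 2, 1, 2], [0, 2, 1, 2, 0, 2, 2, 2, 1, 3, 3, 3, 1, 3], [0, 2, 2, 5, 6, 6, 2, 7, 7, 3, 3, 5, 7, 2], [0, 3, 0, 3, 4, 1, 3, 3, 4, 4, 1, 5, 2, 2], [0, 2, 4, 2, 4, 2, 0, 5, 0, 5, 0, 5, 0, 5], [0, 0, 2, 0, 2, 2, 0, 3, 0, 0, 2, 2, 1, 3],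 [0, 0, 2, 0, 5, 3, 7, 7, 0, 2, 4, 6, 5, 2], [0, 0, 4, 3, 4, 3, 0, 4, 0, 3, 4, 0, 2, 2], [0, 3, 5, 1, 4, 2, 5, 1, 5, 1, 3, 4, 2, 4], [0, 2, 4, 1, 3, 4, 1, 5, 2, 5, 5, 3, 1, 3], [0, 2, 4, 2, 0, 5, 3, 5, 3, 1, 3, 5, 1, 2], [0, 2, 4, 1, 4, 2, 4, 2, 1, 2, 0, 2, 4, 2], [0, 0, 2, 2, 0, 2, 2, 0, 3, 3, 3, 0, 3, 3], [0, 0, 2, 0, 0, 3, 6, 0, 0, 2, 0, 0, 3, 6], [0, 2, 4, 1, 4, 2, 4, 2, 1, 2, 0, 5, 3, 5], [0, 0, 4, 0, 5, 0, 5, 6, 3, 0, 3, 6, 0, 4], [0, 0, 0, 4, 4, 4, 0, 4, 0, 5, 1, 4, 1, 3], [0, 4, 3, 6, 5, 2, 5, 5, 6, 6, 3, 3, 4, 6], [0, 3, 4, 3, 4, 2, 5, 5, 1, 3, 4, 1, 5, 5], [0, 2, 0, 7, 5, 7, 3, 4, 6, 0, 3, 5, 2, 5], [0, 2, 2, 0, 2, 4, 0, 2, 2, 1, 3, 5, 1, 3], [0, 0, 0, 3, 4, 3, 3, 0, 3, 3, 3, 3, 0, 4], [0, 0, 3, 4, 1, 5,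 5, 5, 3, 3, 3, 0, 0, 5], [0, 2, 0, 2, 4, 3, 5, 3, 0, 4, 0, 5, 1, 5], [0, 2, 2, 1, 5, 2, 5, 0, 3, 3, 4, 3, 0, 4], [0, 3, 3, 4, 2, 1, 6, 1, 5, 5, 3, 7, 1, 3], [0, 0, 0, 2, 5, 0, 0, 4, 0, 4, 1, 5, 1, 2], [0, 0, 2, 5, 5, 0, 3, 6, 2, 5, 5, 2, 1, 6], [0, 2, 4, 3, 1, 4, 1, 2, 7, 2, 1, 2, 7, 2], [0, 3, 4, 3, 7, 3, 0, 5, 3, 6, 6, 4, 2, 4], [0, 0, 0, 5, 5, 2, 1, 3, 5, 1, 3, 4, 0, 4], [0, 0, 5, 1, 4, 1, 4, 2, 1, 4, 0, 5, 3, 3], [0, 0, 5, 3, 3, 5, 2, 2, 4, 3, 4, 0, 4, 2], [0, 0, 5, 0, 5, 0, 2, 5, 5, 2, 1, 2, 5, 5], [0, 3, 4, 3, 7, 3, 0, 5, 3, 6, 6, 3, 5, 3], [0, 2, 1, 2, 5, 2, 2, 0, 2, 1, 2, 5, 2, 2], [0, 0, 2, 2, 2, 2, 5, 5, 2, 2, 4, 0, 5, 3], [0, 0, 2, 2, 2, 0, 3, 0, 2, 0, 0, 3, 0, 3], [0, 2, 0, 5, 5, 1, 2, 1, 5, 2, 4, 0,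 2, 5], [0, 4, 3, 4, 2, 5, 1, 3, 3, 3, 3, 4, 2, 5], [0, 0, 5, 7, 1, 1, 5, 7, 7, 5, 1, 7, 5, 2], [0, 2, 2, 2, 6, 3, 1, 6, 1, 3, 0, 5, 1, 5], [0, 0, 3, 5, 2, 2, 4, 1, 2, 0, 5, 3, 4, 2], [0, 0, 0, 5, 5, 1, 2, 5, 3, 4, 3, 4, 2, 5], [0, 0, 2, 5, 3, 1, 2, 0, 3, 5, 0, 4, 4, 2], [0, 4, 2, 4, 1, 3, 4, 4, 3, 4, 1, 3, 4, 3], [0, 4, 4, 0, 5, 5, 5, 0, 4, 4, 0, 5, 5, 5], [0, 4, 0, 4, 1, 3, 4, 1, 4, 1, 4, 1, 5, 3], [0, 2, 4, 2, 1, 2, 5, 2, 0, 5, 2, 5, 5, 2], [0, 4, 6, 6, 3, 4, 7, 7, 4, 2, 7, 7, 5, 2], [0, 0, 5, 2, 4, 3, 3, 0, 0, 5, 3, 5, 5, 2], [0, 0, 0, 0, 4, 2, 0, 2, 1, 1, 4, 3, 5, 3], [0, 3, 7, 0, 5, 7, 7, 3, 4, 2, 2, 6, 1, 3], [0, 3, 0, 3, 0, 3, 0, 3, 0, 3, 0, 3, 0, 3], [0, 0, 5, 2, 5, 5, 2, 4, 1, 3, 3, 4, 1, 2], [0, 0, 7, 2,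 2, 2, 6, 5, 5, 7, 3, 3, 6, 2], [0, 2, 1, 2, 2, 0, 2, 2, 2, 0, 3, 3, 1, 2], [0, 0, 0, 3, 1, 1, 6, 1, 6, 3, 6, 0, 3, 6], [0, 0, 0, 3, 3, 3, 1, 3, 1, 1, 2, 2, 1, 2], [0, 3, 4, 2, 2, 7, 1, 6, 2, 1, 2, 6, 4, 2], [8, 8, 8, 8, 8, 8, 8, 8, 8, 8, 8], [6, 8, 6, 8, 6, 8, 6, 8, 6, 8, 6, 3, 1, 1, 3, 1, 3, 1, 4, 4, 3, 4, 7, 9, 7, 9, 7, 9, 7, 9, 7, 9, 7, 8, 6, 8, 6, 8, 6, 8, 6, 8, 6, 8, 6, 5, 2, 5, 5, 0, 2, 0, 2, 0, 0, 2, 7, 9, 7, 9, 7, 9, 7, 9, 7, 9, 7, 9, 9, 9], [9, 6, 3, 0, 3, 1, 8, 7, 2, 0, 3, 0, 5, 1, 4, 4, 3], [9, 6, 5, 5, 6, 6, 8, 6, 6, 2, 1, 1, 6, 3, 4, 0, 6], [9, 0, 2, 1, 2, 7, 8, 2, 5, 5, 0, 4, 1, 2, 1, 3, 6], [9, 7, 7, 4, 4, 7, 8, 7, 1, 5, 2, 7, 0, 0, 3, 7, 7], [9, 0, 6, 3, 0, 0, 0, 8, 5, 0, 7, 0, 7, 4, 1, 6, 5, 7, 7],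 [9, 7, 5, 7, 3, 3, 0, 8, 7, 0, 0, 4, 6, 2, 0, 7, 2, 6], [9, 5, 3, 4, 6, 3, 0, 8, 3, 4, 1, 1, 6, 3, 0, 6, 3, 1, 5], [9, 0, 6, 5, 0, 5, 0, 8, 7, 5, 1, 5, 5, 6, 5, 7, 0, 0], [9, 4, 6, 2, 0, 4, 1, 8, 0, 5, 5, 0, 5, 7, 4, 4, 2, 5, 1], [9, 0, 6, 5, 3, 4, 1, 8, 6, 1, 2, 0, 4, 1, 7, 1, 2, 5, 5], [9, 4, 6, 4, 0, 5, 1, 8, 3, 3, 7, 0, 3, 0, 2, 0, 4, 3, 3], [9, 1, 1, 1, 2, 7, 1, 8, 6, 6, 4, 7, 0, 5, 6, 1, 6, 1, 4], [9, 5, 0, 7, 3, 7, 1, 8, 0, 0, 2, 1, 4, 3, 0, 6, 5, 0], [9, 1, 4, 1, 4, 7, 1, 8, 1, 1, 6, 4, 7, 4, 4, 0, 4, 6], [9, 0, 5, 2, 4, 7, 1, 8, 4, 4, 3, 0, 6, 0, 5, 1, 3, 0, 7], [9, 4, 4, 7, 7, 4, 2, 8, 5, 3, 4, 2, 0, 5, 7, 0, 6, 2, 5, 5], [9, 4, 1, 3, 4, 6, 2, 8, 4, 6, 6, 2, 5, 7, 2, 4, 3, 6], [9, 6, 5, 3, 4, 7, 2, 8, 1,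 2, 5, 0, 7, 7, 4, 4, 2, 0, 4], [9, 2, 2, 0, 7, 0, 3, 8, 2, 6, 4, 2, 0, 0, 0, 6, 3, 3, 6], [9, 2, 1, 6, 1, 3, 3, 8, 0, 0, 0, 4, 3, 1, 6, 6, 3, 1, 6], [9, 6, 2, 0, 3, 0, 4, 8, 7, 0, 0, 5, 2, 5, 0, 4, 0, 0], [9, 6, 5, 2, 5, 1, 4, 8, 7, 4, 3, 5, 5, 0, 4, 3, 3, 1, 2], [9, 0, 6, 2, 6, 1, 4, 8, 1, 4, 7, 1, 2, 5, 0, 3, 1, 1], [9, 1, 2, 7, 5, 2, 4, 8, 7, 2, 7, 0, 4, 1, 3, 5, 7, 7, 1], [9, 6, 4, 7, 0, 0, 5, 8, 1, 5, 5, 6, 5, 3, 1, 3, 7, 4], [9, 3, 7, 5, 2, 0, 5, 8, 7, 2, 5, 3, 6, 4, 3, 7, 7, 5], [9, 4, 7, 5, 3, 0, 5, 8, 2, 2, 1, 2, 2, 7, 2, 6, 0, 0, 6], [9, 6, 6, 5, 5, 2, 5, 8, 7, 7, 7, 7, 5, 3, 1, 5, 0, 3], [9, 3, 5, 6, 6, 5, 5, 8, 3, 4, 3, 6, 0, 5, 6, 0, 7, 0, 4, 4], [9, 4, 1, 2, 4, 6, 5, 8, 2, 5, 3, 3, 4, 7, 1, 5, 2, 1,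 5], [9, 0, 5, 1, 3, 7, 5, 8, 4, 2, 6, 1, 7, 7, 0, 5, 3, 4, 1], [9, 0, 4, 1, 5, 7, 5, 8, 5, 5, 6, 0, 3, 1, 3, 5, 7, 1, 2], [9, 1, 2, 2, 6, 4, 6, 8, 7, 3, 6, 1, 3, 7, 5, 1, 1, 6], [9, 5, 1, 2, 1, 3, 7, 8, 0, 7, 4, 0, 7, 1, 7, 3, 6, 2], [9, 3, 6, 5, 2, 4, 7, 8, 5, 1, 3, 5, 5, 6, 6, 1, 4, 3, 0], [9, 5, 0, 4, 3, 4, 7, 8, 3, 0, 2, 2, 5, 1, 4, 4, 2, 5, 6], [9, 4, 1, 1, 6, 5, 7, 8, 5, 6, 2, 0, 2, 4, 7, 4, 4, 0], [9, 4, 3, 4, 4, 7, 7, 8, 2, 1, 4, 0, 2, 4, 6, 6, 6, 6], [9, 6, 5, 1, 5, 3, 0, 0, 8, 7, 0, 4, 0, 5, 0, 2, 2, 4], [9, 0, 0, 6, 1, 5, 0, 0, 8, 7, 0, 2, 2, 5, 2, 0, 4, 7, 2, 2], [9, 2, 2, 0, 4, 7, 0, 0, 8, 7, 1, 1, 6, 5, 1, 3, 3, 6], [9, 2, 0, 3, 5, 7, 0, 0, 8, 3, 3, 6, 1, 4, 7, 1, 1, 4, 1, 5], [9, 2, 0, 7, 5, 0, 2,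 0, 8, 0, 5, 2, 2, 7, 2, 0, 5, 1], [9, 3, 5, 0, 6, 5, 2, 0, 8, 5, 2, 2, 0, 7, 1, 3, 7, 4, 1, 2], [9, 3, 6, 4, 4, 7, 2, 0, 8, 0, 6, 0, 0, 6, 5, 5, 0, 2, 2, 6], [9, 7, 2, 7, 1, 3, 3, 0, 8, 3, 1, 5, 0, 5, 3, 4, 4, 6, 5, 5], [9, 1, 4, 6, 4, 3, 3, 0, 8, 7, 5, 0, 7, 2, 4, 3, 4, 0, 0], [9, 6, 4, 2, 1, 4, 3, 0, 8, 0, 4, 2, 0, 0, 7, 5, 7, 2, 7, 7], [9, 0, 5, 1, 5, 6, 3, 0, 8, 7, 5, 5, 1, 3, 0, 3, 5, 2, 5], [9, 4, 6, 2, 5, 6, 3, 0, 8, 4, 6, 0, 5, 5, 0, 4, 1, 4, 2], [9, 6, 6, 6, 6, 6, 3, 0, 8, 2, 4, 4, 2, 7, 3, 6, 1, 1, 2, 0], [9, 5, 3, 7, 5, 7, 3, 0, 8, 1, 6, 1, 3, 7, 3, 1, 7, 7, 2], [9, 7, 3, 5, 0, 7, 4, 0, 8, 1, 7, 0, 0, 7, 1, 3, 0, 5, 2, 7], [9, 0, 7, 0, 6, 0, 5, 0, 8, 7, 4, 7, 3, 5, 0, 6, 4, 3, 6, 5], [9, 5, 6, 3, 6, 0,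 5, 0, 8, 4, 4, 1, 1, 1, 2, 7, 4, 4, 6, 2], [9, 4, 4, 7, 7, 1, 5, 0, 8, 6, 4, 3, 4, 7, 3, 1, 5, 0], [9, 6, 1, 1, 4, 2, 5, 0, 8, 7, 5, 0, 5, 0, 0, 2, 4, 0, 5], [9, 6, 5, 0, 5, 2, 5, 0, 8, 7, 2, 0, 3, 5, 5, 3, 1, 1, 1], [9, 3, 4, 4, 7, 2, 5, 0, 8, 2, 4, 2, 5, 7, 1, 7, 2, 1, 4], [9, 7, 3, 4, 7, 3, 5, 0, 8, 4, 0, 6, 5, 0, 3, 6, 5], [9, 2, 4, 4, 7, 5, 5, 0, 8, 4, 6, 2, 4, 1, 7, 0, 6, 5, 7], [9, 3, 3, 4, 0, 6, 5, 0, 8, 7, 3, 5, 5, 6, 3, 6, 5, 2, 1], [9, 4, 3, 6, 2, 6, 5, 0, 8, 2, 6, 0, 6, 6, 3, 1, 6, 3, 3], [9, 4, 3, 4, 3, 6, 5, 0, 8, 5, 0, 2, 0, 7, 2, 6, 6, 0, 5], [9, 6, 6, 5, 3, 6, 5, 0, 8, 2, 2, 7, 7, 1, 3, 0, 2, 7, 4], [9, 0, 3, 1, 1, 7, 5, 0, 8, 7, 4, 7, 2, 0, 0, 3, 7, 5, 6, 0, 5], [9, 1, 2, 2, 5, 7, 5, 0, 8, 3, 5,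 1, 3, 6, 0, 3, 0, 0, 0], [9, 7, 5, 2, 4, 1, 6, 0, 8, 0, 6, 2, 0, 7, 5, 1, 2, 1, 5, 5], [9, 0, 0, 2, 6, 3, 6, 0, 8, 1, 6, 6, 2, 5, 1, 2, 7, 0, 4, 3], [9, 2, 4, 3, 6, 3, 6, 0, 8, 3, 1, 6, 6, 3, 3, 4, 6, 3, 3, 6], [9, 6, 5, 6, 6, 1, 7, 0, 8, 0, 0, 4, 7, 1, 1, 2, 2, 1], [9, 4, 2, 1, 7, 1, 7, 0, 8, 1, 5, 3, 6, 2, 5, 6, 0, 3, 6, 3], [9, 5, 2, 5, 7, 1, 7, 0, 8, 4, 7, 0, 5, 2, 7, 7, 4, 6, 2], [9, 7, 7, 1, 1, 2, 1, 1, 8, 0, 2, 4, 0, 7, 7, 7, 3, 0], [9, 6, 5, 2, 6, 3, 1, 1, 8, 5, 3, 6, 6, 4, 3, 7, 2, 5, 5, 7], [9, 1, 7, 2, 7, 3, 1, 1, 8, 1, 6, 4, 1, 1, 1, 4, 7, 1, 1, 2], [9, 5, 1, 6, 2, 4, 1, 1, 8, 2, 1, 4, 0, 5, 5, 1, 7, 2, 2, 5], [9, 6, 5, 0, 7, 4, 1, 1, 8, 7, 0, 3, 1, 1, 2, 5, 0, 7, 0, 3], [9, 3, 3, 6, 1, 5, 1, 1, 8, 1,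 5, 3, 6, 5, 1, 3, 5, 5, 1], [9, 1, 1, 4, 0, 7, 1, 1, 8, 3, 3, 6, 5, 1, 3, 4, 3, 3, 1, 6], [9, 6, 2, 0, 2, 7, 1, 1, 8, 5, 2, 6, 5, 1, 4, 3, 3, 3, 6], [9, 6, 1, 3, 4, 7, 1, 1, 8, 0, 5, 7, 2, 4, 3, 3, 3, 5, 1], [9, 2, 5, 2, 5, 7, 1, 1, 8, 0, 6, 6, 0, 3, 6, 1, 6, 1, 4, 7], [9, 1, 4, 6, 0, 0, 2, 1, 8, 6, 3, 0, 3, 0, 2, 6, 1, 2, 4, 7, 3], [9, 2, 5, 7, 7, 2, 2, 1, 8, 2, 0, 2, 5, 2, 0, 6, 6, 3, 1, 5], [9, 7, 2, 7, 2, 4, 2, 1, 8, 4, 6, 3, 5, 2, 1, 4, 2, 6, 5], [9, 4, 7, 7, 2, 0, 3, 1, 8, 2, 6, 4, 1, 2, 4, 6, 3, 1], [9, 6, 2, 5, 7, 5, 3, 1, 8, 6, 5, 2, 1, 3, 5, 0, 0, 4, 4], [9, 3, 6, 5, 0, 0, 4, 1, 8, 6, 1, 6, 2, 4, 1, 5, 6, 1, 2, 2], [9, 1, 2, 7, 4, 0, 4, 1, 8, 4, 3, 4, 2, 1, 2, 0, 4, 4, 6], [9, 7, 2, 7, 3, 3, 4, 1, 8, 2,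 0, 5, 0, 3, 1, 5, 7, 7, 5, 3], [9, 0, 7, 0, 6, 3, 4, 1, 8, 6, 3, 1, 5, 7, 7, 5, 6, 1, 3], [9, 2, 2, 7, 4, 6, 4, 1, 8, 2, 1, 1, 2, 1, 6, 2, 0, 6, 1, 5], [9, 6, 3, 0, 5, 0, 5, 1, 8, 5, 1, 3, 0, 4, 1, 1, 2, 5, 7, 5], [9, 2, 0, 7, 7, 2, 5, 1, 8, 3, 1, 6, 0, 5, 3, 0, 5, 1, 6, 5], [9, 2, 5, 7, 1, 6, 5, 1, 8, 6, 1, 2, 1, 1, 6, 5, 0, 6, 2, 7], [9, 6, 1, 6, 4, 6, 5, 1, 8, 4, 2, 1, 2, 0, 4, 6, 5, 5, 2], [9, 5, 6, 1, 3, 7, 5, 1, 8, 4, 1, 5, 3, 6, 1, 1, 7, 3, 7, 2], [9, 0, 7, 4, 3, 7, 5, 1, 8, 3, 0, 7, 1, 1, 2, 2, 4, 7, 5, 0], [9, 1, 4, 1, 7, 1, 6, 1, 8, 7, 3, 6, 1, 7, 5, 6, 6, 5, 6, 2], [9, 0, 5, 2, 7, 1, 6, 1, 8, 2, 0, 7, 4, 6, 6, 4, 0, 2, 7], [9, 0, 6, 5, 7, 1, 6, 1, 8, 1, 3, 4, 7, 1, 5, 1, 1, 2, 4], [9, 0, 4, 6, 2, 5, 6,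 1, 8, 2, 5, 1, 1, 3, 4, 7, 2, 7, 1, 2], [9, 2, 2, 6, 4, 1, 7, 1, 8, 3, 0, 3, 6, 1, 4, 2, 5, 2, 1], [9, 4, 1, 2, 5, 3, 7, 1, 8, 7, 0, 5, 0, 4, 0, 7, 0, 3, 6, 1], [9, 4, 7, 5, 5, 3, 7, 1, 8, 2, 0, 7, 2, 7, 7, 0, 0, 6, 2, 6], [9, 3, 5, 1, 1, 4, 7, 1, 8, 2, 0, 3, 1, 7, 3, 1, 6, 5, 0, 4], [9, 3, 1, 3, 3, 4, 7, 1, 8, 4, 3, 6, 3, 6, 0, 4, 0, 3, 3], [9, 0, 7, 0, 6, 4, 7, 1, 8, 5, 3, 0, 0, 4, 0, 6, 5, 2, 0], [9, 5, 0, 7, 3, 0, 0, 2, 8, 7, 4, 3, 1, 2, 0, 5, 6, 0, 3, 0], [9, 4, 7, 1, 1, 2, 0, 2, 8, 3, 4, 4, 0, 3, 4, 6, 4, 6, 6, 1], [9, 0, 6, 5, 2, 2, 0, 2, 8, 2, 2, 1, 5, 1, 7, 2, 7, 2, 5], [9, 6, 6, 3, 5, 5, 0, 2, 8, 2, 1, 1, 1, 7, 7, 3, 1, 5, 7, 5], [9, 4, 6, 0, 2, 1, 1, 2, 8, 2, 7, 0, 2, 0, 6, 5, 5, 1, 3, 0, 7], [9, 4, 7,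 7, 3, 1, 1, 2, 8, 1, 1, 6, 6, 1, 2, 5, 2, 2, 0], [9, 4, 7, 4, 0, 4, 1, 2, 8, 0, 2, 1, 1, 6, 6, 2, 6, 4, 1], [9, 5, 2, 7, 1, 5, 1, 2, 8, 1, 5, 5, 0, 4, 1, 1, 3, 6, 2, 1], [9, 6, 2, 1, 5, 7, 1, 2, 8, 4, 4, 2, 6, 0, 0, 6, 0, 7, 4, 1, 1], [9, 6, 0, 2, 0, 2, 2, 2, 8, 7, 3, 0, 0, 4, 0, 3, 1, 4, 2], [9, 3, 7, 1, 3, 4, 2, 2, 8, 1, 4, 6, 3, 0, 3, 4, 2, 7, 5, 6], [9, 1, 4, 7, 1, 5, 2, 2, 8, 0, 3, 4, 7, 2, 7, 4, 4, 2, 6], [9, 7, 7, 0, 2, 5, 2, 2, 8, 1, 1, 1, 2, 7, 5, 6, 1, 5, 7, 7], [9, 0, 0, 4, 0, 7, 2, 2, 8, 5, 7, 0, 2, 6, 6, 3, 4, 4, 0], [9, 5, 3, 3, 4, 7, 2, 2, 8, 2, 6, 4, 4, 7, 2, 6, 2, 2, 2, 6], [9, 0, 6, 5, 0, 0, 4, 2, 8, 1, 7, 7, 1, 1, 5, 7, 3, 3, 4, 6], [9, 2, 1, 2, 7, 1, 4, 2, 8, 1, 1, 6, 0, 0, 7, 1, 3, 5, 7, 4],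 [9, 1, 3, 4, 7, 1, 4, 2, 8, 3, 0, 0, 6, 2, 7, 7, 0, 2, 0, 4], [9, 6, 4, 2, 1, 3, 4, 2, 8, 7, 1, 5, 3, 4, 3, 0, 2, 0, 4], [9, 6, 3, 4, 1, 1, 5, 2, 8, 7, 4, 3, 4, 1, 5, 2, 1, 5, 5], [9, 6, 6, 4, 1, 2, 5, 2, 8, 3, 3, 4, 0, 6, 3, 1, 1, 3, 3], [9, 3, 6, 1, 2, 2, 5, 2, 8, 2, 2, 0, 6, 0, 4, 2, 5, 0], [9, 3, 6, 2, 4, 2, 5, 2, 8, 0, 3, 7, 5, 2, 2, 0, 2, 1, 5], [9, 1, 4, 3, 6, 5, 5, 2, 8, 5, 0, 3, 6, 0, 6, 4, 3, 5, 3], [9, 3, 3, 5, 2, 0, 6, 2, 8, 7, 4, 6, 3, 5, 2, 1, 2, 7, 5, 0], [9, 6, 5, 3, 1, 2, 6, 2, 8, 0, 7, 4, 6, 3, 7, 7, 5, 5, 6, 4], [9, 7, 1, 2, 6, 2, 6, 2, 8, 1, 1, 6, 0, 2, 2, 0, 2, 1, 6, 1], [9, 6, 4, 7, 3, 3, 6, 2, 8, 1, 3, 3, 3, 6, 0, 0, 3, 4, 0], [9, 7, 4, 7, 3, 4, 6, 2, 8, 6, 5, 0, 4, 3, 0, 6, 4, 1, 4, 7], [9,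 7, 2, 2, 5, 6, 6, 2, 8, 6, 6, 6, 5, 3, 3, 1, 6, 5, 6], [9, 3, 4, 3, 3, 0, 7, 2, 8, 1, 4, 3, 5, 1, 7, 1, 3, 3], [9, 2, 6, 5, 7, 0, 7, 2, 8, 6, 5, 3, 1, 3, 3, 7, 1, 4, 3, 5], [9, 6, 6, 3, 4, 1, 7, 2, 8, 1, 7, 4, 0, 3, 0, 7, 1, 7, 2, 5], [9, 2, 2, 6, 5, 1, 7, 2, 8, 2, 2, 5, 5, 3, 7, 4, 6, 6, 5, 7], [9, 3, 4, 3, 5, 3, 7, 2, 8, 4, 0, 3, 1, 3, 3, 4, 6, 2, 1], [9, 6, 0, 5, 5, 3, 7, 2, 8, 0, 2, 5, 0, 0, 6, 6, 0, 5], [9, 0, 5, 1, 1, 4, 7, 2, 8, 7, 3, 7, 1, 5, 6, 5, 2, 5, 0, 4], [9, 4, 1, 2, 1, 5, 7, 2, 8, 7, 5, 5, 1, 5, 3, 4, 6, 3, 0, 7], [9, 4, 7, 5, 1, 5, 7, 2, 8, 2, 6, 0, 4, 6, 6, 2, 4, 2, 2, 0], [9, 1, 3, 6, 5, 5, 7, 2, 8, 7, 3, 3, 1, 4, 4, 7, 1, 1, 7, 1], [9, 3, 5, 0, 6, 3, 0, 3, 8, 0, 5, 5, 1, 5, 2, 1, 3, 1, 4, 6],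 [9, 6, 2, 6, 3, 7, 0, 3, 8, 1, 4, 7, 2, 0, 0, 0, 2, 1], [9, 7, 2, 7, 7, 1, 1, 3, 8, 0, 6, 0, 2, 2, 4, 0, 0, 7, 2, 4], [9, 5, 0, 7, 0, 2, 1, 3, 8, 5, 1, 6, 0, 3, 4, 2, 5, 1, 2, 1], [9, 1, 1, 6, 4, 2, 1, 3, 8, 4, 0, 5, 0, 0, 6, 5, 0, 7, 2, 2], [9, 6, 0, 0, 5, 2, 1, 3, 8, 7, 3, 0, 4, 1, 4, 3, 4, 3], [9, 7, 7, 2, 1, 3, 1, 3, 8, 2, 2, 1, 1, 5, 3, 6, 0, 4, 4, 2], [9, 7, 2, 7, 4, 4, 1, 3, 8, 3, 6, 0, 6, 6, 5, 1, 1, 5, 6], [9, 1, 3, 1, 4, 6, 1, 3, 8, 0, 4, 1, 3, 6, 3, 3, 4, 1], [9, 0, 4, 3, 6, 6, 1, 3, 8, 6, 0, 2, 1, 1, 6, 6, 0, 2, 1, 6], [9, 1, 1, 6, 5, 1, 3, 3, 8, 7, 2, 2, 0, 4, 7, 0, 0, 6], [9, 5, 0, 7, 3, 4, 3, 3, 8, 1, 3, 7, 7, 1, 6, 6, 4, 6, 0], [9, 0, 5, 7, 5, 6, 3, 3, 8, 4, 0, 7, 1, 3, 7, 0, 3, 0, 0, 3], [9, 3, 6,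 0, 4, 7, 3, 3, 8, 6, 4, 7, 7, 5, 6, 2, 4, 4, 3, 3], [9, 0, 6, 0, 5, 7, 3, 3, 8, 0, 3, 4, 3, 5, 0, 7, 2, 1, 2], [9, 7, 1, 2, 7, 2, 4, 3, 8, 1, 4, 7, 0, 4, 1, 6, 1, 4], [9, 6, 0, 3, 1, 3, 4, 3, 8, 7, 4, 0, 0, 5, 3, 0, 3, 1, 5, 0], [9, 0, 0, 6, 4, 3, 4, 3, 8, 0, 5, 6, 3, 5, 2, 0, 2, 4, 1, 2], [9, 0, 4, 7, 0, 6, 4, 3, 8, 0, 0, 5, 1, 3, 5, 7, 7, 3, 6, 0], [9, 0, 3, 3, 6, 6, 4, 3, 8, 4, 0, 2, 7, 7, 1, 3, 4, 3, 1, 3], [9, 2, 6, 5, 5, 7, 4, 3, 8, 1, 4, 2, 2, 6, 4, 2, 5, 3, 1, 1], [9, 5, 2, 2, 7, 7, 4, 3, 8, 7, 1, 5, 1, 7, 1, 1, 5, 1, 4, 6], [9, 6, 5, 2, 6, 2, 5, 3, 8, 7, 4, 6, 1, 3, 6, 3, 4, 7, 1], [9, 5, 0, 4, 6, 2, 5, 3, 8, 5, 2, 1, 3, 4, 2, 6, 4, 7, 0, 0], [9, 1, 7, 2, 7, 2, 5, 3, 8, 7, 2, 2, 7, 5, 2, 2, 7, 7, 0, 2],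 [9, 1, 4, 4, 6, 5, 5, 3, 8, 6, 4, 7, 1, 6, 0, 5, 3, 7, 5], [9, 4, 6, 6, 0, 6, 5, 3, 8, 2, 7, 7, 0, 2, 0, 5, 0, 4, 7], [9, 4, 6, 3, 6, 6, 5, 3, 8, 5, 2, 2, 1, 2, 6, 5, 5, 1, 6], [9, 4, 0, 7, 4, 7, 5, 3, 8, 3, 0, 3, 4, 3, 5, 1, 5, 6, 6, 6], [9, 5, 5, 7, 4, 7, 5, 3, 8, 5, 6, 4, 1, 6, 0, 3, 6, 2, 0], [9, 6, 1, 7, 0, 2, 6, 3, 8, 0, 6, 4, 0, 2, 7, 5, 2, 4, 1, 3], [9, 6, 6, 6, 2, 6, 6, 3, 8, 6, 6, 3, 4, 2, 5, 6, 4, 1, 5], [9, 4, 0, 3, 7, 1, 7, 3, 8, 2, 5, 2, 0, 0, 5, 7, 7, 5, 2, 5], [9, 5, 5, 3, 7, 1, 7, 3, 8, 7, 7, 3, 6, 5, 6, 2, 7, 5, 7, 4], [9, 2, 5, 6, 4, 4, 7, 3, 8, 3, 0, 6, 0, 2, 7, 0, 5, 0, 7, 3], [9, 3, 6, 1, 6, 4, 7, 3, 8, 4, 2, 5, 0, 6, 2, 2, 0, 2, 4, 7], [9, 6, 2, 4, 0, 0, 0, 4, 8, 5, 3, 4, 0, 5, 3, 6, 0, 0,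 4], [9, 4, 3, 0, 6, 0, 0, 4, 8, 4, 7, 0, 2, 0, 0, 7, 1, 4, 3, 5], [9, 0, 0, 5, 3, 7, 0, 4, 8, 0, 0, 7, 0, 0, 5, 5, 6, 2, 4, 7], [9, 7, 1, 6, 4, 2, 1, 4, 8, 7, 7, 3, 1, 1, 7, 0, 7, 7, 4, 4], [9, 6, 0, 4, 7, 4, 1, 4, 8, 2, 7, 7, 3, 5, 3, 0, 7, 4, 3, 7], [9, 7, 7, 4, 2, 5, 1, 4, 8, 1, 2, 0, 0, 0, 5, 5, 3, 6, 5, 0, 4], [9, 6, 2, 1, 6, 5, 1, 4, 8, 0, 0, 4, 0, 3, 4, 1, 6, 0, 5, 5], [9, 2, 4, 3, 7, 5, 1, 4, 8, 1, 1, 6, 5, 7, 3, 5, 2, 0, 3, 4], [9, 2, 0, 3, 1, 6, 1, 4, 8, 6, 5, 6, 1, 3, 1, 2, 2, 7, 0, 6], [9, 3, 1, 1, 2, 6, 1, 4, 8, 2, 6, 4, 0, 2, 0, 0, 3, 1, 5, 5], [9, 2, 2, 5, 2, 6, 1, 4, 8, 1, 7, 5, 7, 7, 0, 6, 6, 2, 0], [9, 7, 7, 3, 4, 0, 2, 4, 8, 7, 5, 3, 1, 5, 2, 6, 6, 6], [9, 5, 5, 0, 6, 0, 2, 4, 8, 5, 5, 7, 3, 4,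 0, 5, 2, 7, 2, 2], [9, 4, 7, 0, 2, 2, 2, 4, 8, 2, 2, 2, 7, 4, 6, 2, 5, 6, 2], [9, 3, 3, 6, 5, 2, 2, 4, 8, 7, 3, 3, 3, 7, 3, 6, 5, 5, 7, 3], [9, 6, 5, 1, 6, 2, 2, 4, 8, 3, 0, 5, 1, 6, 3, 5, 5, 3, 4, 1], [9, 6, 6, 6, 6, 5, 2, 4, 8, 5, 6, 6, 0, 6, 3, 1, 5, 5, 3, 7], [9, 1, 2, 6, 4, 6, 2, 4, 8, 3, 6, 6, 0, 2, 6, 2, 0, 7, 0], [9, 7, 0, 3, 5, 7, 2, 4, 8, 6, 4, 3, 1, 4, 4, 2, 0, 4, 2], [9, 6, 2, 6, 5, 1, 3, 4, 8, 2, 1, 2, 2, 6, 2, 1, 2, 6, 1, 3], [9, 6, 2, 0, 0, 3, 3, 4, 8, 7, 5, 2, 5, 5, 2, 5, 2, 4, 4], [9, 2, 5, 6, 6, 3, 3, 4, 8, 7, 5, 0, 4, 0, 0, 6, 0, 4, 0, 6], [9, 1, 6, 0, 6, 4, 3, 4, 8, 3, 7, 5, 6, 6, 3, 4, 1, 6, 5], [9, 7, 3, 1, 6, 4, 3, 4, 8, 3, 5, 0, 4, 7, 1, 6, 6, 5], [9, 3, 0, 4, 0, 6, 3, 4, 8, 0, 3, 7, 2, 0,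 0, 5, 1, 4, 4, 0], [9, 6, 0, 2, 4, 6, 3, 4, 8, 4, 6, 5, 3, 7, 2, 1, 2, 1, 5, 7], [9, 7, 4, 7, 0, 0, 4, 4, 8, 4, 3, 4, 0, 2, 7, 0, 6, 6, 0, 5], [9, 5, 3, 1, 7, 1, 4, 4, 8, 6, 5, 3, 3, 7, 0, 4, 7, 4, 2, 0], [9, 2, 6, 0, 6, 2, 4, 4, 8, 5, 6, 4, 6, 3, 7, 4, 7, 2, 6, 6], [9, 2, 4, 6, 5, 6, 4, 4, 8, 1, 3, 7, 2, 1, 7, 0, 5, 7, 4], [9, 4, 0, 7, 4, 6, 6, 4, 8, 7, 1, 7, 0, 6, 0, 5, 7, 5, 3, 0], [9, 0, 4, 6, 2, 0, 7, 4, 8, 7, 5, 2, 1, 6, 0, 0, 7, 3, 7, 5], [9, 1, 4, 1, 7, 2, 7, 4, 8, 2, 6, 1, 2, 1, 7, 5, 2, 7, 1, 3], [9, 7, 4, 4, 0, 4, 7, 4, 8, 7, 1, 5, 3, 4, 3, 0, 4, 6, 2, 1], [9, 3, 6, 4, 0, 3, 0, 5, 8, 6, 1, 2, 7, 5, 2, 4, 0, 4, 4, 6], [9, 0, 6, 2, 4, 3, 0, 5, 8, 0, 7, 2, 1, 6, 1, 5, 1, 4, 1, 6], [9, 7, 4, 4, 6, 1, 1, 5,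 8, 6, 4, 4, 2, 1, 4, 2, 5, 5, 0, 6], [9, 2, 6, 0, 6, 2, 1, 5, 8, 5, 2, 5, 0, 0, 4, 6, 4, 7, 2, 1], [9, 2, 4, 6, 5, 6, 1, 5, 8, 7, 7, 7, 4, 0, 4, 2, 5, 2, 1, 2], [9, 5, 7, 7, 5, 6, 1, 5, 8, 1, 3, 4, 0, 6, 0, 0, 7, 7, 2, 7], [9, 6, 4, 6, 0, 0, 2, 5, 8, 3, 6, 3, 1, 5, 2, 2, 7, 2, 5, 7], [9, 4, 6, 3, 1, 1, 2, 5, 8, 5, 1, 1, 5, 5, 6, 0, 3, 4, 4, 2], [9, 5, 1, 1, 7, 1, 2, 5, 8, 4, 2, 5, 0, 6, 1, 1, 3, 1, 6, 5], [9, 6, 6, 0, 0, 5, 2, 5, 8, 5, 6, 1, 3, 4, 1, 4, 4, 6, 4], [9, 1, 4, 7, 2, 5, 2, 5, 8, 4, 1, 7, 7, 3, 6, 1, 3, 1, 4], [9, 1, 4, 7, 3, 7, 2, 5, 8, 7, 7, 5, 3, 4, 7, 0, 7, 1, 6], [9, 4, 6, 3, 4, 7, 2, 5, 8, 1, 6, 1, 4, 6, 4, 7, 2, 4, 0, 6], [9, 1, 6, 0, 6, 0, 3, 5, 8, 2, 7, 2, 1, 7, 4, 3, 7, 2, 4, 0], [9, 7, 3, 1,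 6, 0, 3, 5, 8, 6, 5, 0, 3, 0, 7, 0, 6, 3, 0, 0], [9, 6, 5, 0, 4, 1, 3, 5, 8, 0, 2, 5, 1, 7, 2, 0, 5, 3, 3, 1], [9, 7, 5, 7, 4, 3, 3, 5, 8, 2, 6, 0, 0, 4, 1, 5, 7, 7, 3, 3], [9, 6, 4, 1, 5, 3, 3, 5, 8, 0, 0, 2, 6, 4, 3, 0, 5, 5], [9, 1, 4, 0, 6, 6, 5, 5, 8, 1, 4, 0, 2, 6, 5, 2, 5, 7], [9, 3, 1, 3, 0, 0, 6, 5, 8, 0, 7, 7, 5, 7, 5, 2, 1, 5, 5, 2], [9, 5, 3, 3, 3, 1, 6, 5, 8, 3, 7, 4, 3, 7, 5, 6, 3, 3, 3], [9, 3, 6, 4, 0, 4, 6, 5, 8, 1, 3, 4, 2, 4, 7, 7, 5, 1, 7, 3], [9, 7, 4, 7, 2, 4, 6, 5, 8, 6, 4, 3, 5, 5, 6, 6, 3, 5], [9, 0, 6, 2, 4, 4, 6, 5, 8, 7, 3, 7, 1, 1, 6, 6, 3, 6, 1, 3], [9, 3, 0, 5, 1, 5, 6, 5, 8, 0, 5, 7, 3, 7, 7, 0, 0, 3, 1], [9, 3, 0, 0, 2, 6, 6, 5, 8, 1, 3, 3, 4, 3, 0, 7, 7, 0, 0], [9, 0, 2, 1, 3, 6,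 6, 5, 8, 0, 2, 7, 5, 3, 0, 5, 7, 3], [9, 3, 0, 0, 3, 1, 7, 5, 8, 1, 1, 7, 7, 0, 3, 7, 2, 6, 5, 6, 4], [9, 4, 3, 0, 0, 2, 7, 5, 8, 3, 7, 2, 1, 2, 0, 0, 4, 3, 6, 2], [9, 6, 6, 6, 4, 2, 7, 5, 8, 4, 2, 7, 1, 6, 6, 1], [9, 4, 3, 6, 5, 2, 7, 5, 8, 4, 0, 3, 1, 6, 5, 2, 6, 3, 3, 0], [9, 2, 4, 7, 7, 2, 7, 5, 8, 7, 0, 4, 4, 7, 3, 0, 3, 3, 4], [9, 6, 5, 3, 0, 3, 7, 5, 8, 1, 1, 6, 6, 6, 1, 1, 3, 7, 5, 5], [9, 1, 2, 7, 4, 3, 7, 5, 8, 3, 5, 0, 5, 1, 4, 4, 1, 7, 5], [9, 6, 3, 0, 5, 5, 7, 5, 8, 4, 6, 1, 2, 2, 7, 0, 0, 7, 0, 6], [9, 2, 4, 7, 1, 7, 7, 5, 8, 6, 5, 1, 4, 1, 3, 1, 6, 6, 3], [9, 2, 5, 3, 6, 3, 0, 6, 8, 5, 0, 7, 0, 5, 1, 6, 5, 0], [9, 3, 7, 3, 7, 3, 0, 6, 8, 0, 7, 0, 3, 1, 3, 3, 1, 7, 0, 0], [9, 5, 0, 3, 5, 7, 0, 6, 8,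 6, 6, 5, 0, 2, 2, 0, 5, 7, 0, 4], [9, 5, 3, 6, 4, 2, 1, 6, 8, 3, 5, 1, 3, 5, 5, 0, 2, 5, 7], [9, 6, 5, 7, 7, 5, 1, 6, 8, 2, 6, 0, 2, 7, 4, 4, 7, 1, 1, 7], [9, 7, 4, 4, 2, 6, 1, 6, 8, 1, 6, 0, 5, 0, 2, 4, 3, 3, 6, 1, 3], [9, 4, 2, 1, 7, 0, 2, 6, 8, 6, 3, 6, 3, 3, 3, 1, 4, 0, 2, 7], [9, 5, 2, 5, 7, 0, 2, 6, 8, 4, 7, 7, 0, 6, 5, 1, 4, 2], [9, 1, 5, 6, 1, 4, 2, 6, 8, 6, 3, 4, 1, 2, 0, 6, 1, 1, 6, 0], [9, 1, 4, 2, 6, 5, 2, 6, 8, 4, 7, 2, 1, 4, 7, 1, 5], [9, 7, 5, 7, 1, 7, 2, 6, 8, 6, 6, 3, 0, 0, 7, 7, 1, 1, 5, 3], [9, 3, 7, 7, 4, 3, 3, 6, 8, 7, 4, 7, 0, 2, 2, 4, 7, 7, 7], [9, 1, 2, 2, 0, 6, 3, 6, 8, 3, 1, 6, 2, 5, 5, 2, 1, 7, 7, 7], [9, 7, 5, 7, 0, 6, 3, 6, 8, 4, 2, 6, 2, 0, 4, 1, 6, 2, 6, 1], [9, 0, 5, 2, 2, 6, 3, 6,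 8, 2, 4, 6, 6, 4, 0, 2, 1, 4, 1, 3], [9, 0, 3, 5, 3, 6, 3, 6, 8, 4, 7, 3, 5, 0, 3, 4, 2, 7, 5], [9, 2, 0, 5, 5, 6, 3, 6, 8, 7, 4, 0, 0, 4, 7, 7, 1, 7, 2], [9, 2, 0, 0, 6, 6, 3, 6, 8, 5, 5, 0, 0, 3, 6, 5, 2, 5, 6, 6], [9, 1, 7, 0, 5, 3, 4, 6, 8, 2, 0, 2, 0, 4, 7, 1, 6, 6, 5, 5], [9, 7, 3, 6, 0, 6, 4, 6, 8, 2, 4, 0, 0, 6, 6, 1, 1, 2, 7, 7], [9, 7, 2, 7, 1, 6, 4, 6, 8, 0, 7, 3, 7, 0, 5, 1, 3, 7, 3, 5], [9, 4, 2, 2, 5, 6, 4, 6, 8, 0, 6, 3, 3, 5, 6, 5, 1, 3, 5, 1], [9, 5, 6, 5, 1, 5, 5, 6, 8, 3, 5, 0, 2, 1, 3, 4, 4, 7, 2, 6], [9, 7, 0, 7, 3, 5, 5, 6, 8, 0, 4, 6, 2, 0, 5, 6, 6, 0, 5, 5, 1], [9, 4, 0, 0, 7, 5, 5, 6, 8, 1, 2, 2, 4, 1, 6, 1, 5, 3, 6, 4], [9, 6, 4, 7, 0, 6, 5, 6, 8, 7, 3, 0, 0, 6, 4, 3, 7, 5, 2, 4], [9, 5,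 5, 1, 1, 6, 5, 6, 8, 4, 1, 7, 7, 1, 6, 3, 1, 5, 2, 5], [9, 3, 7, 5, 2, 6, 5, 6, 8, 3, 4, 3, 1, 5, 7, 2, 4, 6, 1, 6], [9, 4, 7, 5, 3, 6, 5, 6, 8, 4, 2, 7, 7, 4, 4, 2, 5, 7], [9, 0, 0, 3, 0, 0, 6, 6, 8, 1, 2, 6, 6, 6, 1, 5, 3, 1], [9, 3, 3, 4, 3, 1, 6, 6, 8, 6, 6, 4, 0, 7, 4, 6, 3, 0, 0, 0], [9, 5, 3, 1, 5, 2, 6, 6, 8, 7, 7, 7, 3, 4, 0, 2, 4, 6], [9, 2, 0, 2, 0, 3, 6, 6, 8, 6, 4, 4, 1, 4, 2, 1, 6, 2, 5, 2], [9, 5, 0, 4, 3, 5, 6, 6, 8, 5, 3, 4, 6, 1, 7, 0, 7, 2, 7, 7, 1], [9, 1, 4, 3, 5, 0, 0, 7, 8, 4, 3, 0, 0, 3, 1, 2, 0, 3, 6], [9, 0, 0, 6, 5, 2, 0, 7, 8, 0, 4, 2, 2, 2, 5, 3, 6, 4, 1], [9, 6, 6, 1, 2, 5, 0, 7, 8, 4, 4, 0, 0, 2, 4, 3, 3, 0, 0, 7], [9, 2, 7, 3, 1, 6, 0, 7, 8, 2, 0, 5, 3, 4, 6, 3, 1, 5, 7, 1], [9, 0,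 4, 7, 5, 7, 0, 7, 8, 0, 7, 1, 3, 6, 3, 4, 6, 1, 2], [9, 2, 0, 3, 4, 1, 1, 7, 8, 2, 5, 2, 5, 0, 5, 1, 2, 6], [9, 2, 5, 2, 0, 2, 1, 7, 8, 4, 0, 3, 0, 3, 3, 4, 4, 1, 2, 6], [9, 3, 3, 3, 1, 3, 1, 7, 8, 3, 5, 0, 2, 1, 5, 1, 1, 2, 6], [9, 5, 2, 7, 5, 3, 1, 7, 8, 5, 6, 1, 1, 1, 6, 1, 5, 3, 4, 3], [9, 3, 6, 2, 4, 4, 1, 7, 8, 4, 1, 7, 7, 1, 1, 4, 3, 1], [9, 5, 0, 5, 6, 5, 1, 7, 8, 7, 7, 0, 4, 3, 6, 4, 4, 6, 4, 1], [9, 0, 4, 1, 4, 1, 2, 7, 8, 0, 7, 3, 0, 0, 6, 1, 4, 4, 6, 0], [9, 4, 6, 4, 4, 1, 2, 7, 8, 7, 1, 6, 1, 1, 6, 3, 3, 0, 7, 5], [9, 3, 4, 0, 0, 5, 2, 7, 8, 4, 4, 0, 3, 4, 0, 5, 2, 5, 6], [9, 3, 0, 6, 4, 0, 3, 7, 8, 0, 6, 5, 5, 1, 2, 2, 0, 4, 6, 0, 7], [9, 6, 5, 2, 7, 0, 3, 7, 8, 2, 0, 7, 0, 3, 1, 3, 3, 6, 6, 2], [9,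 5, 0, 4, 7, 0, 3, 7, 8, 4, 7, 7, 5, 6, 5, 6, 4, 0, 7, 0], [9, 5, 2, 2, 1, 1, 3, 7, 8, 5, 5, 3, 4, 3, 4, 4, 3, 4, 6], [9, 0, 0, 6, 3, 1, 3, 7, 8, 7, 2, 2, 2, 5, 0, 4, 7, 3, 4], [9, 0, 2, 4, 6, 4, 3, 7, 8, 5, 5, 1, 1, 4, 2, 0, 3, 4, 7], [9, 5, 1, 1, 1, 5, 3, 7, 8, 5, 1, 1, 7, 2, 4, 1, 5, 2, 4], [9, 2, 1, 6, 2, 7, 3, 7, 8, 0, 3, 1, 1, 1, 3, 6, 5, 0], [9, 5, 2, 0, 4, 7, 3, 7, 8, 1, 6, 5, 3, 4, 0, 5, 6, 4, 3, 1], [9, 1, 1, 2, 4, 0, 4, 7, 8, 5, 3, 3, 1, 4, 1, 5, 1, 6], [9, 5, 3, 3, 7, 0, 4, 7, 8, 0, 5, 2, 4, 4, 2, 7, 0, 4, 1, 2], [9, 6, 6, 4, 3, 1, 4, 7, 8, 3, 4, 1, 4, 4, 0, 4, 0, 2, 7], [9, 1, 4, 3, 4, 1, 4, 7, 8, 0, 0, 0, 2, 4, 4, 2, 1, 3, 6], [9, 4, 2, 0, 5, 1, 4, 7, 8, 4, 7, 4, 0, 0, 2, 4, 4, 1, 3, 4], [9, 0, 0, 5,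 6, 1, 4, 7, 8, 2, 1, 6, 1, 4, 3, 0, 0, 2, 1, 6], [9, 3, 7, 3, 0, 2, 4, 7, 8, 5, 7, 4, 4, 6, 6, 2, 7, 5, 6, 1], [9, 4, 6, 2, 1, 2, 4, 7, 8, 4, 4, 6, 2, 0, 0, 7, 7, 7, 0, 0], [9, 6, 2, 1, 6, 3, 4, 7, 8, 4, 6, 5, 2, 7, 0, 4, 4, 2, 2, 1], [9, 0, 0, 2, 7, 3, 4, 7, 8, 6, 4, 4, 3, 6, 2, 5, 7, 7, 2, 4], [9, 2, 4, 3, 7, 3, 4, 7, 8, 0, 6, 5, 2, 7, 2, 0, 7, 5, 6], [9, 7, 0, 4, 6, 6, 4, 7, 8, 6, 0, 0, 6, 5, 5, 6, 3, 1, 7, 3], [9, 1, 6, 0, 7, 7, 4, 7, 8, 0, 3, 3, 0, 0, 6, 5, 1, 1], [9, 4, 2, 2, 4, 0, 5, 7, 8, 4, 4, 1, 2, 5, 7, 3, 1, 1], [9, 6, 6, 6, 3, 1, 5, 7, 8, 0, 5, 7, 1, 5, 1, 4, 3, 7, 2, 7], [9, 3, 5, 2, 0, 3, 5, 7, 8, 5, 1, 3, 1, 2, 5, 2, 4, 0, 6], [9, 1, 2, 5, 0, 3, 5, 7, 8, 2, 4, 1, 2, 4, 3, 4, 0, 3, 3, 6], [9, 7, 4,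 7, 1, 6, 5, 7, 8, 0, 2, 0, 2, 4, 1, 4, 3, 0, 6, 5], [9, 3, 7, 2, 2, 6, 5, 7, 8, 1, 5, 2, 1, 1, 7, 2, 2, 2, 0], [9, 4, 3, 1, 1, 7, 5, 7, 8, 3, 0, 4, 4, 7, 1, 4, 0, 7, 0, 4], [9, 6, 1, 4, 3, 0, 7, 7, 8, 6, 4, 3, 0, 5, 1, 1, 2, 4, 1, 2], [9, 4, 3, 4, 1, 1, 7, 7, 8, 6, 0, 0, 3, 0, 2, 2, 4, 3, 6], [9, 3, 1, 4, 4, 2, 7, 7, 8, 4, 6, 4, 0, 2, 6, 6, 0, 0, 0, 3], [9, 3, 6, 0, 5, 2, 7, 7, 8, 4, 3, 6, 0, 6, 1, 2, 1, 5, 6, 0], [9, 1, 4, 7, 2, 4, 7, 7, 8, 5, 6, 3, 1, 2, 0, 6, 6, 3, 3], [9, 3, 4, 3, 0, 5, 7, 7, 8, 2, 2, 0, 0, 2, 7, 1, 5, 2, 2], [9, 6, 5, 0, 2, 5, 7, 7, 8, 6, 3, 1, 5, 1, 5, 5, 0, 5, 2], [9, 6, 4, 0, 2, 7, 7, 7, 8, 6, 6, 0, 2, 1, 2, 5, 3, 1, 1, 4], [9, 2, 7, 7, 3, 7, 7, 7, 8, 4, 0, 5, 7, 4, 3, 5, 2, 7, 7], [9, 4,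 6, 3, 5, 7, 7, 7, 8, 0, 7, 7, 0, 6, 3, 5], [9, 5, 3, 4, 7, 7, 7, 7, 8, 6, 2, 4, 4, 0, 2, 7, 1, 7, 7, 4], [9, 1, 2, 7, 7, 7, 7, 7, 8, 1, 3, 0, 0, 7, 2, 6, 3, 5, 5, 3], [0, 1], [1, 0], [2, 3], [3, 2], [4, 5], [5, 4], [6, 7], [7, 6], [8, 9], [9, 8], [6, 9, 6, 9], [6, 6, 9, 7, 8, 8, 7, 9], [0, 8, 0, 8, 0, 8, 0, 8, 0, 8, 0, 8], [6, 6, 6, 9, 9, 7, 8, 6, 8, 7, 9, 9], [6, 6, 6, 6, 9, 7, 7, 7, 8, 6, 6, 8, 7, 7, 7, 9], [0, 2, 7, 5, 8, 5, 5, 0, 3, 9, 9, 0, 7, 0, 6, 3], [0, 7, 4, 0, 7, 4, 6, 9, 0, 7, 4, 0, 7, 4, 8, 7], [0, 0, 3, 7, 7, 9, 7, 7, 5, 5, 5, 9, 1, 5, 2, 7], [0, 5, 5, 2, 5, 2, 4, 8, 1, 4, 9, 6, 5, 0, 9, 2]]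

/-- the subgroup generator words -/
def subL : List (List ℕ) := [[0], [2], [4], [6]]

/-- the seed relators with their twists -/
def seedL : List (List ℕ × List ℤ) := [([4, 4, 4, 4, 4], [(.ofNat 0), (.ofNat 0), (.ofNat 0), (.ofNat 0), (.ofNat 0), (.ofNat 0)]), ([2, 4, 2, 4, 2, 4], [(.ofNat 0), (.ofNat 0), (.ofNat 0), (.ofNat 0), (.ofNat 0), (.ofNat 0)]), ([0, 0, 0, 0, 0, 0, 0], [(.ofNat 0), (.ofNat 0), (.ofNat 0), (.ofNat 0), (.ofNat 0), (.ofNat 0)]), ([2, 2, 2, 2, 2, 2, 2], [(.ofNat 0), (.ofNat 0), (.ofNat 0), (.ofNat 0), (.ofNat 0), (.ofNat 0)]), ([2, 4, 2, 4, 2, 5, 5, 5, 5], [(.ofNat 0), (.ofNat 0), (.ofNat 0), (.ofNat 0), (.ofNat 0), (.ofNat 0)]), ([0, 5, 0, 5, 0, 5, 0, 5, 0, 5], [(.ofNat 0), (.ofNat 0), (.ofNat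 0), (.ofNat 0), (.ofNat 0), (.ofNat 0)]), ([0, 2, 0, 3, 0, 2, 1, 3, 0, 3], [(.ofNat 0), (.ofNat 0), (.ofNat 0), (.ofNat 0), (.ofNat 0), (.ofNat 0)]), ([2, 5, 2, 5, 2, 5, 2, 5, 2, 5], [(.ofNat 0), (.ofNat 0), (.ofNat 0), (.ofNat 0), (.ofNat 0), (.ofNat 0)]), ([0, 4, 0, 4, 0, 4, 0, 4, 0, 4], [(.ofNat 0), (.ofNat 0), (.ofNat 0), (.ofNat 0), (.ofNat 0), (.ofNat 0)]), ([0, 6, 0, 6, 0, 6, 0, 6, 0, 6], [(.ofNat 0), (.ofNat 0), (.ofNat 0), (.ofNat 0), (.ofNat 0), (.ofNat 0)]), ([6, 6, 6, 6, 6, 6, 6, 6, 6, 6, 6], [(.ofNat 0), (.ofNat 0), (.ofNat 0), (.ofNat 0), (.ofNat 0), (.ofNat 0)]), ([2, 2, 2, 2, 2, 2, 5, 3, 5, 3, 5], [(.ofNat 0), (.ofNat 0), (.ofNat 0), (.ofNat 0), (.ofNat 0), (.ofNat 0)]), ([0, 0, 2, 0, 0, 2, 0, 0,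 2, 0, 0, 2], [(.ofNat 0), (.ofNat 0), (.ofNat 0), (.ofNat 0), (.ofNat 0), (.ofNat 0)]), ([0, 2, 4, 1, 3, 5, 1, 2, 0, 5, 3, 5], [(.ofNat 0), (.ofNat 0), (.ofNat 0), (.ofNat 0), (.ofNat 0), (.ofNat 0)]), ([0, 4, 4, 0, 4, 4, 0, 4, 4, 0, 4, 4], [(.ofNat 0), (.ofNat 0), (.ofNat 0), (.ofNat 0), (.ofNat 0), (.ofNat 0)]), ([0, 0, 3, 0, 2, 1, 3, 3, 1, 2, 1, 2], [(.ofNat 0), (.ofNat 0), (.ofNat 0), (.ofNat 0), (.ofNat 0), (.ofNat 0)]), ([0, 2, 4, 1, 3, 5, 1, 2, 0, 2, 4, 2], [(.ofNat 0), (.ofNat 0), (.ofNat 0), (.ofNat 0), (.ofNat 0), (.ofNat 0)]), ([0, 3, 3, 0, 5, 2, 0, 3, 3, 0, 5, 2], [(.ofNat 0), (.ofNat 0), (.ofNat 0), (.ofNat 0), (.ofNat 0), (.ofNat 0)]), ([4, 7, 4, 7, 4, 7, 4, 7, 4, 7, 4, 7], [(.ofNat 0), (.ofNat 0),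 (.ofNat 0), (.ofNat 0), (.ofNat 0), (.ofNat 0)]), ([0, 4, 0, 4, 1, 3, 0, 5, 0, 5, 5, 3], [(.ofNat 0), (.ofNat 0), (.ofNat 0), (.ofNat 0), (.ofNat 0), (.ofNat 0)]), ([0, 4, 2, 2, 5, 3, 0, 4, 2, 2, 5, 3], [(.ofNat 0), (.ofNat 0), (.ofNat 0), (.ofNat 0), (.ofNat 0), (.ofNat 0)]), ([0, 2, 1, 2, 0, 2, 1, 2, 0, 2, 1, 2], [(.ofNat 0), (.ofNat 0), (.ofNat 0), (.ofNat 0), (.ofNat 0), (.ofNat 0)]), ([0, 0, 4, 0, 0, 4, 0, 0, 4, 0, 0, 4], [(.ofNat 0), (.ofNat 0), (.ofNat 0), (.ofNat 0), (.ofNat 0), (.ofNat 0)]), ([0, 2, 0, 2, 0, 2, 0, 2, 0, 2, 0, 2], [(.ofNat 0), (.ofNat 0), (.ofNat 0), (.ofNat 0), (.ofNat 0), (.ofNat 0)]), ([2, 2, 7, 2, 2, 7, 2, 2, 7, 2, 2, 7], [(.ofNat 0), (.ofNat 0), (.ofNat 0), (.ofNat 0), (.ofNat 0), (.ofNat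 0)]), ([0, 7, 4, 0, 7, 4, 0, 7, 4, 0, 7, 4], [(.ofNat 0), (.ofNat 0), (.ofNat 0), (.ofNat 0), (.ofNat 0), (.ofNat 0)]), ([0, 0, 2, 2, 0, 0, 2, 2, 0, 0, 2, 2], [(.ofNat 0), (.ofNat 0), (.ofNat 0), (.ofNat 0), (.ofNat 0), (.ofNat 0)]), ([0, 0, 0, 2, 2, 1, 1, 3, 3, 0, 0, 2], [(.ofNat 0), (.ofNat 0), (.ofNat 0), (.ofNat 0), (.ofNat 0), (.ofNat 0)]), ([0, 0, 0, 3, 4, 3, 3, 0, 2, 2, 2, 0, 4], [(.ofNat 0), (.ofNat 0), (.ofNat 0), (.ofNat 0), (.ofNat 0), (.ofNat 0)]), ([0, 4, 3, 4, 2, 5, 1, 2, 2, 5, 3, 5, 5], [(.ofNat 0), (.ofNat 0), (.ofNat 0), (.ofNat 0), (.ofNat 0), (.ofNat 0)]), ([0, 0, 4, 3, 4, 6, 6, 6, 2, 7, 7, 2, 5], [(.ofNat 0), (.ofNat 0), (.ofNat 0), (.ofNat 0), (.ofNat 0), (.ofNat 0)]), ([0, 0, 0, 2, 2, 5, 3,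 1, 2, 5, 3, 1, 5], [(.ofNat 0), (.ofNat 0), (.ofNat 0), (.ofNat 0), (.ofNat 0), (.ofNat 0)]), ([0, 4, 7, 2, 4, 0, 5, 7, 1, 6, 1, 6, 4], [(.ofNat 0), (.ofNat 0), (.ofNat 0), (.ofNat 0), (.ofNat 0), (.ofNat 0)]), ([0, 0, 0, 5, 5, 0, 4, 0, 5, 1, 4, 1, 3], [(.ofNat 0), (.ofNat 0), (.ofNat 0), (.ofNat 0), (.ofNat 0), (.ofNat 0)]), ([0, 2, 2, 1, 4, 1, 6, 3, 1, 6, 5, 3, 3], [(.ofNat 0), (.ofNat 0), (.ofNat 0), (.ofNat 0), (.ofNat 0), (.ofNat 0)]), ([0, 2, 1, 4, 6, 4, 2, 1, 5, 7, 1, 3, 7], [(.ofNat 0), (.ofNat 0), (.ofNat 0), (.ofNat 0), (.ofNat 0), (.ofNat 0)]), ([0, 0, 3, 3, 3, 0, 3, 1, 2, 0, 3, 0, 3], [(.ofNat 0), (.ofNat 0), (.ofNat 0), (.ofNat 0), (.ofNat 0), (.ofNat 0)]), ([0, 0, 0, 0, 3, 1, 1, 2, 2, 0, 0, 3, 3], [(.ofNat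 0), (.ofNat 0), (.ofNat 0), (.ofNat 0), (.ofNat 0), (.ofNat 0)]), ([0, 0, 0, 5, 3, 5, 5, 0, 0, 3, 1, 3, 5], [(.ofNat 0), (.ofNat 0), (.ofNat 0), (.ofNat 0), (.ofNat 0), (.ofNat 0)]), ([0, 0, 3, 4, 1, 4, 4, 3, 3, 3, 0, 0, 5], [(.ofNat 0), (.ofNat 0), (.ofNat 0), (.ofNat 0), (.ofNat 0), (.ofNat 0)]), ([0, 4, 0, 4, 0, 4, 0, 4, 0, 5, 5, 5, 5], [(.ofNat 0), (.ofNat 0), (.ofNat 0), (.ofNat 0), (.ofNat 0), (.ofNat 0)]), ([0, 0, 3, 3, 3, 5, 5, 2, 2, 4, 0, 5, 3], [(.ofNat 0), (.ofNat 0), (.ofNat 0), (.ofNat 0), (.ofNat 0), (.ofNat 0)]), ([2, 4, 2, 4, 2, 5, 2, 4, 2, 4, 2, 5, 5], [(.ofNat 0), (.ofNat 0), (.ofNat 0), (.ofNat 0), (.ofNat 0), (.ofNat 0)]), ([0, 2, 2, 0, 2, 4, 1, 2, 4, 0, 2, 5, 5], [(.ofNat 0), (.ofNat 0), (.ofNat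 0), (.ofNat 0), (.ofNat 0), (.ofNat 0)]), ([0, 2, 1, 7, 4, 1, 5, 7, 5, 1, 4, 6, 4], [(.ofNat 0), (.ofNat 0), (.ofNat 0), (.ofNat 0), (.ofNat 0), (.ofNat 0)]), ([2, 4, 4, 4, 4, 2, 5, 2, 5, 2, 5, 2, 5], [(.ofNat 0), (.ofNat 0), (.ofNat 0), (.ofNat 0), (.ofNat 0), (.ofNat 0)]), ([0, 0, 3, 0, 3, 4, 0, 2, 2, 1, 4, 2, 4], [(.ofNat 0), (.ofNat 0), (.ofNat 0), (.ofNat 0), (.ofNat 0), (.ofNat 0)]), ([0, 4, 3, 4, 2, 5, 1, 2, 2, 2, 4, 2, 5], [(.ofNat 0), (.ofNat 0), (.ofNat 0), (.ofNat 0), (.ofNat 0), (.ofNat 0)]), ([0, 0, 0, 2, 4, 2, 5, 0, 0, 3, 1, 3, 5], [(.ofNat 0), (.ofNat 0), (.ofNat 0), (.ofNat 0), (.ofNat 0), (.ofNat 0)]), ([0, 0, 3, 0, 3, 4, 0, 2, 2, 1, 3, 5, 3], [(.ofNat 0), (.ofNat 0), (.ofNat 0), (.ofNat 0), (.ofNat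 0), (.ofNat 0)]), ([0, 0, 2, 1, 3, 3, 0, 0, 3, 1, 3, 0, 2], [(.ofNat 0), (.ofNat 0), (.ofNat 0), (.ofNat 0), (.ofNat 0), (.ofNat 0)]), ([0, 0, 3, 0, 3, 3, 1, 3, 3, 1, 2, 0, 3], [(.ofNat 0), (.ofNat 0), (.ofNat 0), (.ofNat 0), (.ofNat 0), (.ofNat 0)]), ([0, 4, 0, 4, 1, 3, 0, 5, 0, 4, 4, 4, 3], [(.ofNat 0), (.ofNat 0), (.ofNat 0), (.ofNat 0), (.ofNat 0), (.ofNat 0)]), ([0, 4, 4, 4, 4, 0, 5, 0, 5, 0, 5, 0, 5], [(.ofNat 0), (.ofNat 0), (.ofNat 0), (.ofNat 0), (.ofNat 0), (.ofNat 0)]), ([0, 4, 4, 0, 4, 4, 0, 4, 4, 0, 5, 5, 5], [(.ofNat 0), (.ofNat 0), (.ofNat 0), (.ofNat 0), (.ofNat 0), (.ofNat 0)]), ([0, 0, 0, 3, 0, 3, 0, 0, 2, 2, 1, 2, 1, 2], [(.ofNat 0), (.ofNat 0), (.ofNat 0), (.ofNat 0), (.ofNat 0), (.ofNat 0)]),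 ([0, 2, 2, 0, 2, 4, 1, 2, 4, 0, 2, 4, 4, 4], [(.ofNat 0), (.ofNat 0), (.ofNat 0), (.ofNat 0), (.ofNat 0), (.ofNat 0)]), ([0, 0, 4, 0, 4, 0, 3, 5, 3, 4, 1, 4, 1, 2], [(.ofNat 0), (.ofNat 0), (.ofNat 0), (.ofNat 0), (.ofNat 0), (.ofNat 0)]), ([0, 3, 5, 3, 5, 3, 0, 4, 0, 4, 0, 4, 0, 4], [(.ofNat 0), (.ofNat 0), (.ofNat 0), (.ofNat 0), (.ofNat 0), (.ofNat 0)]), ([0, 0, 0, 5, 3, 4, 4, 4, 0, 0, 3, 1, 3, 5], [(.ofNat 0), (.ofNat 0), (.ofNat 0), (.ofNat 0), (.ofNat 0), (.ofNat 0)]), ([0, 2, 0, 5, 2, 1, 5, 3, 1, 3, 4, 2, 0, 4], [(.ofNat 0), (.ofNat 0), (.ofNat 0), (.ofNat 0), (.ofNat 0), (.ofNat 0)]), ([0, 2, 1, 6, 1, 6, 3, 6, 1, 6, 2, 2, 2, 4], [(.ofNat 0), (.ofNat 0), (.ofNat 0), (.ofNat 0), (.ofNat 0), (.ofNat 0)]), ([0,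 4, 3, 3, 5, 6, 5, 5, 1, 5, 2, 6, 1, 5], [(.ofNat 0), (.ofNat 0), (.ofNat 0), (.ofNat 0), (.ofNat 0), (.ofNat 0)]), ([0, 2, 2, 1, 5, 1, 4, 2, 0, 5, 0, 4, 0, 3], [(.ofNat 0), (.ofNat 0), (.ofNat 0), (.ofNat 0), (.ofNat 0), (.ofNat 0)]), ([0, 4, 7, 3, 5, 0, 7, 0, 4, 7, 3, 5, 0, 7], [(.ofNat 0), (.ofNat 0), (.ofNat 0), (.ofNat 0), (.ofNat 0), (.ofNat 0)]), ([0, 3, 0, 4, 6, 2, 1, 7, 1, 2, 4, 0, 4, 7], [(.ofNat 0), (.ofNat 0), (.ofNat 0), (.ofNat 0), (.ofNat 0), (.ofNat 0)]), ([0, 0, 3, 3, 0, 2, 2, 2, 1, 2, 2, 2, 0, 3], [(.ofNat 0), (.ofNat 0), (.ofNat 0), (.ofNat 0), (.ofNat 0), (.ofNat 0)]), ([0, 2, 2, 0, 6, 2, 4, 6, 4, 4, 6, 3, 6, 3], [(.ofNat 0), (.ofNat 0), (.ofNat 0), (.ofNat 0), (.ofNat 0), (.ofNat 0)]), ([0, 2,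 1, 3, 0, 3, 0, 5, 3, 5, 3, 5, 0, 3], [(.ofNat 0), (.ofNat 0), (.ofNat 0), (.ofNat 0), (.ofNat 0), (.ofNat 0)]), ([0, 0, 3, 3, 3, 4, 4, 4, 2, 2, 4, 0, 5, 3], [(.ofNat 0), (.ofNat 0), (.ofNat 0), (.ofNat 0), (.ofNat 0), (.ofNat 0)]), ([0, 4, 2, 2, 2, 4, 2, 4, 0, 4, 2, 2, 5, 3], [(.ofNat 0), (.ofNat 0), (.ofNat 0), (.ofNat 0), (.ofNat 0), (.ofNat 0)]), ([0, 0, 3, 1, 3, 3, 3, 0, 3, 1, 3, 3, 0, 2], [(.ofNat 0), (.ofNat 0), (.ofNat 0), (.ofNat 0), (.ofNat 0), (.ofNat 0)]), ([0, 0, 0, 3, 3, 3, 1, 2, 0, 2, 2, 0, 3, 3], [(.ofNat 0), (.ofNat 0), (.ofNat 0), (.ofNat 0), (.ofNat 0), (.ofNat 0)]), ([0, 3, 4, 0, 3, 5, 5, 0, 3, 4, 0, 3, 5, 5], [(.ofNat 0), (.ofNat 0), (.ofNat 0), (.ofNat 0), (.ofNat 0), (.ofNat 0)]), ([0, 2, 0,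 3, 0, 2, 1, 4, 2, 4, 2, 4, 0, 3], [(.ofNat 0), (.ofNat 0), (.ofNat 0), (.ofNat 0), (.ofNat 0), (.ofNat 0)]), ([0, 5, 7, 1, 5, 7, 1, 6, 1, 5, 6, 6, 3, 7], [(.ofNat 0), (.ofNat 0), (.ofNat 0), (.ofNat 0), (.ofNat 0), (.ofNat 0)]), ([0, 3, 5, 1, 4, 2, 5, 1, 5, 1, 3, 3, 5, 3], [(.ofNat 0), (.ofNat 0), (.ofNat 0), (.ofNat 0), (.ofNat 0), (.ofNat 0)]), ([0, 2, 4, 0, 5, 2, 0, 3, 5, 0, 4, 1, 4, 4], [(.ofNat 0), (.ofNat 0), (.ofNat 0), (.ofNat 0), (.ofNat 0), (.ofNat 0)]), ([0, 0, 4, 4, 3, 0, 3, 5, 2, 0, 4, 1, 3, 3], [(.ofNat 0), (.ofNat 0), (.ofNat 0), (.ofNat 0), (.ofNat 0), (.ofNat 0)]), ([0, 0, 3, 4, 1, 4, 4, 2, 2, 2, 2, 0, 0, 5], [(.ofNat 0), (.ofNat 0), (.ofNat 0), (.ofNat 0), (.ofNat 0), (.ofNat 0)]), ([0, 0, 2, 1,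 3, 0, 3, 0, 0, 3, 0, 2, 0, 3], [(.ofNat 0), (.ofNat 0), (.ofNat 0), (.ofNat 0), (.ofNat 0), (.ofNat 0)]), ([0, 0, 2, 2, 2, 2, 0, 3, 1, 2, 0, 3, 0, 3], [(.ofNat 0), (.ofNat 0), (.ofNat 0), (.ofNat 0), (.ofNat 0), (.ofNat 0)]), ([0, 0, 2, 5, 0, 3, 1, 3, 0, 5, 3, 5, 5, 3], [(.ofNat 0), (.ofNat 0), (.ofNat 0), (.ofNat 0), (.ofNat 0), (.ofNat 0)]), ([0, 0, 3, 3, 3, 0, 2, 0, 2, 2, 1, 2, 1, 3], [(.ofNat 0), (.ofNat 0), (.ofNat 0), (.ofNat 0), (.ofNat 0), (.ofNat 0)]), ([0, 0, 0, 3, 0, 2, 2, 5, 3, 4, 3, 3, 3, 4], [(.ofNat 0), (.ofNat 0), (.ofNat 0), (.ofNat 0), (.ofNat 0), (.ofNat 0)]), ([0, 0, 0, 0, 4, 0, 2, 4, 3, 0, 2, 4, 3, 3], [(.ofNat 0), (.ofNat 0), (.ofNat 0), (.ofNat 0), (.ofNat 0), (.ofNat 0)]), ([0, 3, 6, 5, 6,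 2, 2, 0, 3, 6, 5, 6, 2, 2], [(.ofNat 0), (.ofNat 0), (.ofNat 0), (.ofNat 0), (.ofNat 0), (.ofNat 0)]), ([0, 0, 4, 0, 7, 2, 1, 2, 7, 4, 1, 4, 0, 4], [(.ofNat 0), (.ofNat 0), (.ofNat 0), (.ofNat 0), (.ofNat 0), (.ofNat 0)]), ([0, 0, 0, 2, 1, 1, 2, 2, 2, 1, 2, 2, 1, 3], [(.ofNat 0), (.ofNat 0), (.ofNat 0), (.ofNat 0), (.ofNat 0), (.ofNat 0)]), ([0, 3, 5, 3, 5, 2, 5, 3, 0, 4, 2, 2, 5, 3], [(.ofNat 0), (.ofNat 0), (.ofNat 0), (.ofNat 0), (.ofNat 0), (.ofNat 0)]), ([0, 3, 3, 0, 4, 1, 4, 3, 5, 1, 4, 4, 1, 5], [(.ofNat 0), (.ofNat 0), (.ofNat 0), (.ofNat 0), (.ofNat 0), (.ofNat 0)]), ([0, 2, 0, 3, 0, 2, 1, 3, 0, 4, 2, 4, 2, 4], [(.ofNat 0), (.ofNat 0), (.ofNat 0), (.ofNat 0), (.ofNat 0), (.ofNat 0)]), ([0, 0, 2, 0, 3, 1,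 3, 0, 0, 3, 1, 2, 2, 2], [(.ofNat 0), (.ofNat 0), (.ofNat 0), (.ofNat 0), (.ofNat 0), (.ofNat 0)]), ([0, 2, 4, 1, 7, 2, 0, 2, 5, 5, 7, 1, 3, 3], [(.ofNat 0), (.ofNat 0), (.ofNat 0), (.ofNat 0), (.ofNat 0), (.ofNat 0)]), ([2, 2, 2, 2, 2, 2, 5, 3, 4, 4, 4, 4, 3, 5], [(.ofNat 0), (.ofNat 0), (.ofNat 0), (.ofNat 0), (.ofNat 0), (.ofNat 0)]), ([0, 0, 2, 6, 2, 1, 2, 5, 3, 1, 5, 5, 1, 6], [(.ofNat 0), (.ofNat 0), (.ofNat 0), (.ofNat 0), (.ofNat 0), (.ofNat 0)]), ([0, 0, 2, 5, 0, 3, 1, 3, 0, 2, 4, 2, 5, 3], [(.ofNat 0), (.ofNat 0), (.ofNat 0), (.ofNat 0), (.ofNat 0), (.ofNat 0)]), ([0, 0, 2, 1, 2, 5, 1, 2, 0, 4, 2, 5, 2, 5], [(.ofNat 0), (.ofNat 0), (.ofNat 0), (.ofNat 0), (.ofNat 0), (.ofNat 0)]), ([0, 0, 0, 4, 4, 1, 4,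 3, 0, 4, 3, 5, 2, 4], [(.ofNat 0), (.ofNat 0), (.ofNat 0), (.ofNat 0), (.ofNat 0), (.ofNat 0)]), ([0, 2, 0, 4, 2, 4, 2, 4, 0, 2, 1, 3, 0, 3], [(.ofNat 0), (.ofNat 0), (.ofNat 0), (.ofNat 0), (.ofNat 0), (.ofNat 0)]), ([0, 3, 3, 4, 1, 4, 6, 0, 6, 3, 7, 1, 7, 5], [(.ofNat 0), (.ofNat 0), (.ofNat 0), (.ofNat 0), (.ofNat 0), (.ofNat 0)]), ([0, 0, 3, 0, 2, 1, 3, 1, 3, 0, 3, 0, 2, 2], [(.ofNat 0), (.ofNat 0), (.ofNat 0), (.ofNat 0), (.ofNat 0), (.ofNat 0)]), ([0, 0, 0, 2, 1, 2, 2, 0, 0, 0, 2, 1, 2, 2], [(.ofNat 0), (.ofNat 0), (.ofNat 0), (.ofNat 0), (.ofNat 0), (.ofNat 0)]), ([0, 2, 1, 5, 2, 2, 5, 0, 2, 1, 5, 2, 2, 5], [(.ofNat 0), (.ofNat 0), (.ofNat 0), (.ofNat 0), (.ofNat 0), (.ofNat 0)]), ([0, 0, 0, 5, 1, 7, 4, 2,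 6, 0, 7, 5, 6, 5], [(.ofNat 0), (.ofNat 0), (.ofNat 0), (.ofNat 0), (.ofNat 0), (.ofNat 0)]), ([0, 4, 3, 4, 2, 5, 1, 2, 2, 5, 3, 4, 4, 4], [(.ofNat 0), (.ofNat 0), (.ofNat 0), (.ofNat 0), (.ofNat 0), (.ofNat 0)]), ([2, 6, 2, 6, 2, 6, 2, 6, 2, 6, 2, 6, 2, 6], [(.ofNat 0), (.ofNat 0), (.ofNat 0), (.ofNat 0), (.ofNat 0), (.ofNat 0)]), ([0, 0, 4, 2, 0, 4, 3, 3, 5, 5, 3, 4, 3, 4], [(.ofNat 0), (.ofNat 0), (.ofNat 0), (.ofNat 0), (.ofNat 0), (.ofNat 0)]), ([0, 0, 0, 3, 3, 1, 1, 2, 2, 2, 1, 1, 1, 3], [(.ofNat 0), (.ofNat 0), (.ofNat 0), (.ofNat 0), (.ofNat 0), (.ofNat 0)]), ([0, 2, 0, 2, 4, 4, 2, 4, 0, 4, 0, 5, 1, 5], [(.ofNat 0), (.ofNat 0), (.ofNat 0), (.ofNat 0), (.ofNat 0), (.ofNat 0)]), ([0, 0, 0, 0, 2, 0, 5, 0, 4,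 1, 5, 1, 4, 4], [(.ofNat 0), (.ofNat 0), (.ofNat 0), (.ofNat 0), (.ofNat 0), (.ofNat 0)]), ([0, 0, 2, 0, 0, 2, 2, 2, 0, 0, 3, 3, 1, 2], [(.ofNat 0), (.ofNat 0), (.ofNat 0), (.ofNat 0), (.ofNat 0), (.ofNat 0)]), ([0, 0, 4, 4, 0, 2, 5, 0, 4, 3, 4, 0, 5, 3], [(.ofNat 0), (.ofNat 0), (.ofNat 0), (.ofNat 0), (.ofNat 0), (.ofNat 0)]), ([0, 0, 4, 3, 7, 0, 2, 7, 3, 0, 3, 4, 2, 4], [(.ofNat 0), (.ofNat 0), (.ofNat 0), (.ofNat 0), (.ofNat 0), (.ofNat 0)]), ([0, 0, 3, 1, 2, 4, 0, 5, 0, 0, 5, 1, 2, 5], [(.ofNat 0), (.ofNat 0), (.ofNat 0), (.ofNat 0), (.ofNat 0), (.ofNat 0)]), ([0, 4, 1, 7, 7, 3, 6, 3, 7, 2, 7, 1, 2, 4], [(.ofNat 0), (.ofNat 0), (.ofNat 0), (.ofNat 0), (.ofNat 0), (.ofNat 0)]), ([2, 2, 4, 2, 4, 2, 2, 5, 2, 5,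 2, 5, 2, 5], [(.ofNat 0), (.ofNat 0), (.ofNat 0), (.ofNat 0), (.ofNat 0), (.ofNat 0)]), ([0, 0, 0, 2, 0, 2, 4, 3, 5, 0, 0, 0, 2, 5], [(.ofNat 0), (.ofNat 0), (.ofNat 0), (.ofNat 0), (.ofNat 0), (.ofNat 0)]), ([0, 0, 4, 3, 7, 0, 2, 7, 3, 0, 3, 3, 5, 3], [(.ofNat 0), (.ofNat 0), (.ofNat 0), (.ofNat 0), (.ofNat 0), (.ofNat 0)]), ([0, 2, 1, 5, 5, 2, 2, 4, 0, 5, 1, 2, 1, 3], [(.ofNat 0), (.ofNat 0), (.ofNat 0), (.ofNat 0), (.ofNat 0), (.ofNat 0)]), ([0, 0, 4, 2, 2, 4, 3, 4, 1, 2, 4, 0, 4, 4], [(.ofNat 0), (.ofNat 0), (.ofNat 0), (.ofNat 0), (.ofNat 0), (.ofNat 0)]), ([0, 2, 0, 3, 0, 5, 3, 5, 3, 5, 1, 3, 0, 3], [(.ofNat 0), (.ofNat 0), (.ofNat 0), (.ofNat 0), (.ofNat 0), (.ofNat 0)]), ([0, 0, 2, 4, 2, 5, 2, 0, 0, 5, 2,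 4, 3, 3], [(.ofNat 0), (.ofNat 0), (.ofNat 0), (.ofNat 0), (.ofNat 0), (.ofNat 0)]), ([0, 3, 4, 4, 3, 5, 0, 5, 0, 5, 1, 4, 4, 3], [(.ofNat 0), (.ofNat 0), (.ofNat 0), (.ofNat 0), (.ofNat 0), (.ofNat 0)]), ([0, 0, 0, 0, 5, 1, 3, 3, 3, 1, 2, 2, 5, 2], [(.ofNat 0), (.ofNat 0), (.ofNat 0), (.ofNat 0), (.ofNat 0), (.ofNat 0)]), ([0, 2, 4, 3, 0, 5, 5, 0, 2, 4, 3, 0, 5, 5], [(.ofNat 0), (.ofNat 0), (.ofNat 0), (.ofNat 0), (.ofNat 0), (.ofNat 0)]), ([0, 0, 2, 0, 3, 0, 2, 2, 1, 2, 0, 2, 1, 2], [(.ofNat 0), (.ofNat 0), (.ofNat 0), (.ofNat 0), (.ofNat 0), (.ofNat 0)]), ([0, 2, 1, 2, 0, 2, 2, 2, 1, 3, 3, 3, 1, 3], [(.ofNat 0), (.ofNat 0), (.ofNat 0), (.ofNat 0), (.ofNat 0), (.ofNat 0)]), ([0, 2, 2, 5, 6, 6, 2, 7, 7, 3, 3, 5,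 7, 2], [(.ofNat 0), (.ofNat 0), (.ofNat 0), (.ofNat 0), (.ofNat 0), (.ofNat 0)]), ([0, 3, 0, 3, 4, 1, 3, 3, 4, 4, 1, 5, 2, 2], [(.ofNat 0), (.ofNat 0), (.ofNat 0), (.ofNat 0), (.ofNat 0), (.ofNat 0)]), ([0, 2, 4, 2, 4, 2, 0, 5, 0, 5, 0, 5, 0, 5], [(.ofNat 0), (.ofNat 0), (.ofNat 0), (.ofNat 0), (.ofNat 0), (.ofNat 0)]), ([0, 0, 2, 0, 2, 2, 0, 3, 0, 0, 2, 2, 1, 3], [(.ofNat 0), (.ofNat 0), (.ofNat 0), (.ofNat 0), (.ofNat 0), (.ofNat 0)]), ([0, 0, 2, 0, 5, 3, 7, 7, 0, 2, 4, 6, 5, 2], [(.ofNat 0), (.ofNat 0), (.ofNat 0), (.ofNat 0), (.ofNat 0), (.ofNat 0)]), ([0, 0, 4, 3, 4, 3, 0, 4, 0, 3, 4, 0, 2, 2], [(.ofNat 0), (.ofNat 0), (.ofNat 0), (.ofNat 0), (.ofNat 0), (.ofNat 0)]), ([0, 3, 5, 1, 4, 2, 5, 1, 5, 1, 3, 4, 2,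 4], [(.ofNat 0), (.ofNat 0), (.ofNat 0), (.ofNat 0), (.ofNat 0), (.ofNat 0)]), ([0, 2, 4, 1, 3, 4, 1, 5, 2, 5, 5, 3, 1, 3], [(.ofNat 0), (.ofNat 0), (.ofNat 0), (.ofNat 0), (.ofNat 0), (.ofNat 0)]), ([0, 2, 4, 2, 0, 5, 3, 5, 3, 1, 3, 5, 1, 2], [(.ofNat 0), (.ofNat 0), (.ofNat 0), (.ofNat 0), (.ofNat 0), (.ofNat 0)]), ([0, 2, 4, 1, 4, 2, 4, 2, 1, 2, 0, 2, 4, 2], [(.ofNat 0), (.ofNat 0), (.ofNat 0), (.ofNat 0), (.ofNat 0), (.ofNat 0)]), ([0, 0, 2, 2, 0, 2, 2, 0, 3, 3, 3, 0, 3, 3], [(.ofNat 0), (.ofNat 0), (.ofNat 0), (.ofNat 0), (.ofNat 0), (.ofNat 0)]), ([0, 0, 2, 0, 0, 3, 6, 0, 0, 2, 0, 0, 3, 6], [(.ofNat 0), (.ofNat 0), (.ofNat 0), (.ofNat 0), (.ofNat 0), (.ofNat 0)]), ([0, 2, 4, 1, 4, 2, 4, 2, 1, 2, 0, 5, 3, 5],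 [(.ofNat 0), (.ofNat 0), (.ofNat 0), (.ofNat 0), (.ofNat 0), (.ofNat 0)]), ([0, 0, 4, 0, 5, 0, 5, 6, 3, 0, 3, 6, 0, 4], [(.ofNat 0), (.ofNat 0), (.ofNat 0), (.ofNat 0), (.ofNat 0), (.ofNat 0)]), ([0, 0, 0, 4, 4, 4, 0, 4, 0, 5, 1, 4, 1, 3], [(.ofNat 0), (.ofNat 0), (.ofNat 0), (.ofNat 0), (.ofNat 0), (.ofNat 0)]), ([0, 4, 3, 6, 5, 2, 5, 5, 6, 6, 3, 3, 4, 6], [(.ofNat 0), (.ofNat 0), (.ofNat 0), (.ofNat 0), (.ofNat 0), (.ofNat 0)]), ([0, 3, 4, 3, 4, 2, 5, 5, 1, 3, 4, 1, 5, 5], [(.ofNat 0), (.ofNat 0), (.ofNat 0), (.ofNat 0), (.ofNat 0), (.ofNat 0)]), ([0, 2, 0, 7, 5, 7, 3, 4, 6, 0, 3, 5, 2, 5], [(.ofNat 0), (.ofNat 0), (.ofNat 0), (.ofNat 0), (.ofNat 0), (.ofNat 0)]), ([0, 2, 2, 0, 2, 4, 0, 2, 2, 1, 3, 5, 1, 3], [(.ofNat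 0), (.ofNat 0), (.ofNat 0), (.ofNat 0), (.ofNat 0), (.ofNat 0)]), ([0, 0, 0, 3, 4, 3, 3, 0, 3, 3, 3, 3, 0, 4], [(.ofNat 0), (.ofNat 0), (.ofNat 0), (.ofNat 0), (.ofNat 0), (.ofNat 0)]), ([0, 0, 3, 4, 1, 5, 5, 5, 3, 3, 3, 0, 0, 5], [(.ofNat 0), (.ofNat 0), (.ofNat 0), (.ofNat 0), (.ofNat 0), (.ofNat 0)]), ([0, 2, 0, 2, 4, 3, 5, 3, 0, 4, 0, 5, 1, 5], [(.ofNat 0), (.ofNat 0), (.ofNat 0), (.ofNat 0), (.ofNat 0), (.ofNat 0)]), ([0, 2, 2, 1, 5, 2, 5, 0, 3, 3, 4, 3, 0, 4], [(.ofNat 0), (.ofNat 0), (.ofNat 0), (.ofNat 0), (.ofNat 0), (.ofNat 0)]), ([0, 3, 3, 4, 2, 1, 6, 1, 5, 5, 3, 7, 1, 3], [(.ofNat 0), (.ofNat 0), (.ofNat 0), (.ofNat 0), (.ofNat 0), (.ofNat 0)]), ([0, 0, 0, 2, 5, 0, 0, 4, 0, 4, 1, 5, 1, 2], [(.ofNat 0),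 (.ofNat 0), (.ofNat 0), (.ofNat 0), (.ofNat 0), (.ofNat 0)]), ([0, 0, 2, 5, 5, 0, 3, 6, 2, 5, 5, 2, 1, 6], [(.ofNat 0), (.ofNat 0), (.ofNat 0), (.ofNat 0), (.ofNat 0), (.ofNat 0)]), ([0, 2, 4, 3, 1, 4, 1, 2, 7, 2, 1, 2, 7, 2], [(.ofNat 0), (.ofNat 0), (.ofNat 0), (.ofNat 0), (.ofNat 0), (.ofNat 0)]), ([0, 3, 4, 3, 7, 3, 0, 5, 3, 6, 6, 4, 2, 4], [(.ofNat 0), (.ofNat 0), (.ofNat 0), (.ofNat 0), (.ofNat 0), (.ofNat 0)]), ([0, 0, 0, 5, 5, 2, 1, 3, 5, 1, 3, 4, 0, 4], [(.ofNat 0), (.ofNat 0), (.ofNat 0), (.ofNat 0), (.ofNat 0), (.ofNat 0)]), ([0, 0, 5, 1, 4, 1, 4, 2, 1, 4, 0, 5, 3, 3], [(.ofNat 0), (.ofNat 0), (.ofNat 0), (.ofNat 0), (.ofNat 0), (.ofNat 0)]), ([0, 0, 5, 3, 3, 5, 2, 2, 4, 3, 4, 0, 4, 2], [(.ofNat 0), (.ofNat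 0), (.ofNat 0), (.ofNat 0), (.ofNat 0), (.ofNat 0)]), ([0, 0, 5, 0, 5, 0, 2, 5, 5, 2, 1, 2, 5, 5], [(.ofNat 0), (.ofNat 0), (.ofNat 0), (.ofNat 0), (.ofNat 0), (.ofNat 0)]), ([0, 3, 4, 3, 7, 3, 0, 5, 3, 6, 6, 3, 5, 3], [(.ofNat 0), (.ofNat 0), (.ofNat 0), (.ofNat 0), (.ofNat 0), (.ofNat 0)]), ([0, 2, 1, 2, 5, 2, 2, 0, 2, 1, 2, 5, 2, 2], [(.ofNat 0), (.ofNat 0), (.ofNat 0), (.ofNat 0), (.ofNat 0), (.ofNat 0)]), ([0, 0, 2, 2, 2, 2, 5, 5, 2, 2, 4, 0, 5, 3], [(.ofNat 0), (.ofNat 0), (.ofNat 0), (.ofNat 0), (.ofNat 0), (.ofNat 0)]), ([0, 0, 2, 2, 2, 0, 3, 0, 2, 0, 0, 3, 0, 3], [(.ofNat 0), (.ofNat 0), (.ofNat 0), (.ofNat 0), (.ofNat 0), (.ofNat 0)]), ([0, 2, 0, 5, 5, 1, 2, 1, 5, 2, 4, 0, 2, 5], [(.ofNat 0), (.ofNat 0),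 (.ofNat 0), (.ofNat 0), (.ofNat 0), (.ofNat 0)]), ([0, 4, 3, 4, 2, 5, 1, 3, 3, 3, 3, 4, 2, 5], [(.ofNat 0), (.ofNat 0), (.ofNat 0), (.ofNat 0), (.ofNat 0), (.ofNat 0)]), ([0, 0, 5, 7, 1, 1, 5, 7, 7, 5, 1, 7, 5, 2], [(.ofNat 0), (.ofNat 0), (.ofNat 0), (.ofNat 0), (.ofNat 0), (.ofNat 0)]), ([0, 2, 2, 2, 6, 3, 1, 6, 1, 3, 0, 5, 1, 5], [(.ofNat 0), (.ofNat 0), (.ofNat 0), (.ofNat 0), (.ofNat 0), (.ofNat 0)]), ([0, 0, 3, 5, 2, 2, 4, 1, 2, 0, 5, 3, 4, 2], [(.ofNat 0), (.ofNat 0), (.ofNat 0), (.ofNat 0), (.ofNat 0), (.ofNat 0)]), ([0, 0, 0, 5, 5, 1, 2, 5, 3, 4, 3, 4, 2, 5], [(.ofNat 0), (.ofNat 0), (.ofNat 0), (.ofNat 0), (.ofNat 0), (.ofNat 0)]), ([0, 0, 2, 5, 3, 1, 2, 0, 3, 5, 0, 4, 4, 2], [(.ofNat 0), (.ofNat 0), (.ofNat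 0), (.ofNat 0), (.ofNat 0), (.ofNat 0)]), ([0, 4, 2, 4, 1, 3, 4, 4, 3, 4, 1, 3, 4, 3], [(.ofNat 0), (.ofNat 0), (.ofNat 0), (.ofNat 0), (.ofNat 0), (.ofNat 0)]), ([0, 4, 4, 0, 5, 5, 5, 0, 4, 4, 0, 5, 5, 5], [(.ofNat 0), (.ofNat 0), (.ofNat 0), (.ofNat 0), (.ofNat 0), (.ofNat 0)]), ([0, 4, 0, 4, 1, 3, 4, 1, 4, 1, 4, 1, 5, 3], [(.ofNat 0), (.ofNat 0), (.ofNat 0), (.ofNat 0), (.ofNat 0), (.ofNat 0)]), ([0, 2, 4, 2, 1, 2, 5, 2, 0, 5, 2, 5, 5, 2], [(.ofNat 0), (.ofNat 0), (.ofNat 0), (.ofNat 0), (.ofNat 0), (.ofNat 0)]), ([0, 4, 6, 6, 3, 4, 7, 7, 4, 2, 7, 7, 5, 2], [(.ofNat 0), (.ofNat 0), (.ofNat 0), (.ofNat 0), (.ofNat 0), (.ofNat 0)]), ([0, 0, 5, 2, 4, 3, 3, 0, 0, 5, 3, 5, 5, 2], [(.ofNat 0), (.ofNat 0), (.ofNat 0),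 (.ofNat 0), (.ofNat 0), (.ofNat 0)]), ([0, 0, 0, 0, 4, 2, 0, 2, 1, 1, 4, 3, 5, 3], [(.ofNat 0), (.ofNat 0), (.ofNat 0), (.ofNat 0), (.ofNat 0), (.ofNat 0)]), ([0, 3, 7, 0, 5, 7, 7, 3, 4, 2, 2, 6, 1, 3], [(.ofNat 0), (.ofNat 0), (.ofNat 0), (.ofNat 0), (.ofNat 0), (.ofNat 0)]), ([0, 3, 0, 3, 0, 3, 0, 3, 0, 3, 0, 3, 0, 3], [(.ofNat 0), (.ofNat 0), (.ofNat 0), (.ofNat 0), (.ofNat 0), (.ofNat 0)]), ([0, 0, 5, 2, 5, 5, 2, 4, 1, 3, 3, 4, 1, 2], [(.ofNat 0), (.ofNat 0), (.ofNat 0), (.ofNat 0), (.ofNat 0), (.ofNat 0)]), ([0, 0, 7, 2, 2, 2, 6, 5, 5, 7, 3, 3, 6, 2], [(.ofNat 0), (.ofNat 0), (.ofNat 0), (.ofNat 0), (.ofNat 0), (.ofNat 0)]), ([0, 2, 1, 2, 2, 0, 2, 2, 2, 0, 3, 3, 1, 2], [(.ofNat 0), (.ofNat 0), (.ofNat 0), (.ofNat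 0), (.ofNat 0), (.ofNat 0)]), ([0, 0, 0, 3, 1, 1, 6, 1, 6, 3, 6, 0, 3, 6], [(.ofNat 0), (.ofNat 0), (.ofNat 0), (.ofNat 0), (.ofNat 0), (.ofNat 0)]), ([0, 0, 0, 3, 3, 3, 1, 3, 1, 1, 2, 2, 1, 2], [(.ofNat 0), (.ofNat 0), (.ofNat 0), (.ofNat 0), (.ofNat 0), (.ofNat 0)]), ([0, 3, 4, 2, 2, 7, 1, 6, 2, 1, 2, 6, 4, 2], [(.ofNat 0), (.ofNat 0), (.ofNat 0), (.ofNat 0), (.ofNat 0), (.ofNat 0)]), ([8, 8, 8, 8, 8, 8, 8, 8, 8, 8, 8], [(.ofNat 0), (.ofNat 0), (.ofNat 0), (.ofNat 0), (.ofNat 0), (.ofNat 0)]), ([6, 8, 6, 8, 6, 8, 6, 8, 6, 8, 6, 3, 1, 1, 3, 1, 3, 1, 4, 4, 3, 4, 7, 9, 7, 9, 7, 9, 7, 9, 7, 9, 7, 8, 6, 8, 6, 8, 6, 8, 6, 8, 6, 8, 6, 5, 2, 5, 5, 0, 2, 0, 2, 0, 0, 2, 7, 9, 7, 9, 7, 9, 7, 9, 7, 9, 7, 9, 9, 9], [(.ofNat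 0), (.ofNat 0), (.ofNat 0), (.ofNat 0), (.ofNat 0), (.ofNat 0)]), ([9, 6, 3, 0, 3, 1, 8, 7, 2, 0, 3, 0, 5, 1, 4, 4, 3], [(.ofNat 0), (.ofNat 0), (.ofNat 0), (.ofNat 0), (.ofNat 0), (.ofNat 0)]), ([9, 6, 5, 5, 6, 6, 8, 6, 6, 2, 1, 1, 6, 3, 4, 0, 6], [(.ofNat 0), (.ofNat 0), (.ofNat 0), (.ofNat 0), (.ofNat 0), (.ofNat 0)]), ([9, 0, 2, 1, 2, 7, 8, 2, 5, 5, 0, 4, 1, 2, 1, 3, 6], [(.ofNat 0), (.ofNat 0), (.ofNat 0), (.ofNat 0), (.ofNat 0), (.ofNat 0)]), ([9, 7, 7, 4, 4, 7, 8, 7, 1, 5, 2, 7, 0, 0, 3, 7, 7], [(.ofNat 0), (.ofNat 0), (.ofNat 0), (.ofNat 0), (.ofNat 0), (.ofNat 0)]), ([9, 0, 6, 3, 0, 0, 0, 8, 5, 0, 7, 0, 7, 4, 1, 6, 5, 7, 7], [(.ofNat 0), (.ofNat 0), (.ofNat 0), (.ofNat 0), (.ofNat 0), (.ofNat 0)]), ([9,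 7, 5, 7, 3, 3, 0, 8, 7, 0, 0, 4, 6, 2, 0, 7, 2, 6], [(.ofNat 0), (.ofNat 0), (.ofNat 0), (.ofNat 0), (.ofNat 0), (.ofNat 0)]), ([9, 5, 3, 4, 6, 3, 0, 8, 3, 4, 1, 1, 6, 3, 0, 6, 3, 1, 5], [(.ofNat 0), (.ofNat 0), (.ofNat 0), (.ofNat 0), (.ofNat 0), (.ofNat 0)]), ([9, 0, 6, 5, 0, 5, 0, 8, 7, 5, 1, 5, 5, 6, 5, 7, 0, 0], [(.ofNat 0), (.ofNat 0), (.ofNat 0), (.ofNat 0), (.ofNat 0), (.ofNat 0)]), ([9, 4, 6, 2, 0, 4, 1, 8, 0, 5, 5, 0, 5, 7, 4, 4, 2, 5, 1], [(.ofNat 0), (.ofNat 0), (.ofNat 0), (.ofNat 0), (.ofNat 0), (.ofNat 0)]), ([9, 0, 6, 5, 3, 4, 1, 8, 6, 1, 2, 0, 4, 1, 7, 1, 2, 5, 5], [(.ofNat 0), (.ofNat 0), (.ofNat 0), (.ofNat 0), (.ofNat 0), (.ofNat 0)]), ([9, 4, 6, 4, 0, 5, 1, 8, 3, 3, 7, 0, 3, 0, 2, 0, 4, 3, 3],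 [(.ofNat 0), (.ofNat 0), (.ofNat 0), (.ofNat 0), (.ofNat 0), (.ofNat 0)]), ([9, 1, 1, 1, 2, 7, 1, 8, 6, 6, 4, 7, 0, 5, 6, 1, 6, 1, 4], [(.ofNat 0), (.ofNat 0), (.ofNat 0), (.ofNat 0), (.ofNat 0), (.ofNat 0)]), ([9, 5, 0, 7, 3, 7, 1, 8, 0, 0, 2, 1, 4, 3, 0, 6, 5, 0], [(.ofNat 0), (.ofNat 0), (.ofNat 0), (.ofNat 0), (.ofNat 0), (.ofNat 0)]), ([9, 1, 4, 1, 4, 7, 1, 8, 1, 1, 6, 4, 7, 4, 4, 0, 4, 6], [(.ofNat 0), (.ofNat 0), (.ofNat 0), (.ofNat 0), (.ofNat 0), (.ofNat 0)]), ([9, 0, 5, 2, 4, 7, 1, 8, 4, 4, 3, 0, 6, 0, 5, 1, 3, 0, 7], [(.ofNat 0), (.ofNat 0), (.ofNat 0), (.ofNat 0), (.ofNat 0), (.ofNat 0)]), ([9, 4, 4, 7, 7, 4, 2, 8, 5, 3, 4, 2, 0, 5, 7, 0, 6, 2, 5, 5], [(.ofNat 0), (.ofNat 0), (.ofNat 0), (.ofNat 0), (.ofNat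 0), (.ofNat 0)]), ([9, 4, 1, 3, 4, 6, 2, 8, 4, 6, 6, 2, 5, 7, 2, 4, 3, 6], [(.ofNat 0), (.ofNat 0), (.ofNat 0), (.ofNat 0), (.ofNat 0), (.ofNat 0)]), ([9, 6, 5, 3, 4, 7, 2, 8, 1, 2, 5, 0, 7, 7, 4, 4, 2, 0, 4], [(.ofNat 0), (.ofNat 0), (.ofNat 0), (.ofNat 0), (.ofNat 0), (.ofNat 0)]), ([9, 2, 2, 0, 7, 0, 3, 8, 2, 6, 4, 2, 0, 0, 0, 6, 3, 3, 6], [(.ofNat 0), (.ofNat 0), (.ofNat 0), (.ofNat 0), (.ofNat 0), (.ofNat 0)]), ([9, 2, 1, 6, 1, 3, 3, 8, 0, 0, 0, 4, 3, 1, 6, 6, 3, 1, 6], [(.ofNat 0), (.ofNat 0), (.ofNat 0), (.ofNat 0), (.ofNat 0), (.ofNat 0)]), ([9, 6, 2, 0, 3, 0, 4, 8, 7, 0, 0, 5, 2, 5, 0, 4, 0, 0], [(.ofNat 0), (.ofNat 0), (.ofNat 0), (.ofNat 0), (.ofNat 0), (.ofNat 0)]), ([9, 6, 5, 2, 5, 1, 4, 8, 7, 4, 3,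 5, 5, 0, 4, 3, 3, 1, 2], [(.ofNat 0), (.ofNat 0), (.ofNat 0), (.ofNat 0), (.ofNat 0), (.ofNat 0)]), ([9, 0, 6, 2, 6, 1, 4, 8, 1, 4, 7, 1, 2, 5, 0, 3, 1, 1], [(.ofNat 0), (.ofNat 0), (.ofNat 0), (.ofNat 0), (.ofNat 0), (.ofNat 0)]), ([9, 1, 2, 7, 5, 2, 4, 8, 7, 2, 7, 0, 4, 1, 3, 5, 7, 7, 1], [(.ofNat 0), (.ofNat 0), (.ofNat 0), (.ofNat 0), (.ofNat 0), (.ofNat 0)]), ([9, 6, 4, 7, 0, 0, 5, 8, 1, 5, 5, 6, 5, 3, 1, 3, 7, 4], [(.ofNat 0), (.ofNat 0), (.ofNat 0), (.ofNat 0), (.ofNat 0), (.ofNat 0)]), ([9, 3, 7, 5, 2, 0, 5, 8, 7, 2, 5, 3, 6, 4, 3, 7, 7, 5], [(.ofNat 0), (.ofNat 0), (.ofNat 0), (.ofNat 0), (.ofNat 0), (.ofNat 0)]), ([9, 4, 7, 5, 3, 0, 5, 8, 2, 2, 1, 2, 2, 7, 2, 6, 0, 0, 6], [(.ofNat 0), (.ofNat 0), (.ofNat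 0), (.ofNat 0), (.ofNat 0), (.ofNat 0)]), ([9, 6, 6, 5, 5, 2, 5, 8, 7, 7, 7, 7, 5, 3, 1, 5, 0, 3], [(.ofNat 0), (.ofNat 0), (.ofNat 0), (.ofNat 0), (.ofNat 0), (.ofNat 0)]), ([9, 3, 5, 6, 6, 5, 5, 8, 3, 4, 3, 6, 0, 5, 6, 0, 7, 0, 4, 4], [(.ofNat 0), (.ofNat 0), (.ofNat 0), (.ofNat 0), (.ofNat 0), (.ofNat 0)]), ([9, 4, 1, 2, 4, 6, 5, 8, 2, 5, 3, 3, 4, 7, 1, 5, 2, 1, 5], [(.ofNat 0), (.ofNat 0), (.ofNat 0), (.ofNat 0), (.ofNat 0), (.ofNat 0)]), ([9, 0, 5, 1, 3, 7, 5, 8, 4, 2, 6, 1, 7, 7, 0, 5, 3, 4, 1], [(.ofNat 0), (.ofNat 0), (.ofNat 0), (.ofNat 0), (.ofNat 0), (.ofNat 0)]), ([9, 0, 4, 1, 5, 7, 5, 8, 5, 5, 6, 0, 3, 1, 3, 5, 7, 1, 2], [(.ofNat 0), (.ofNat 0), (.ofNat 0), (.ofNat 0), (.ofNat 0), (.ofNat 0)]), ([9,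 1, 2, 2, 6, 4, 6, 8, 7, 3, 6, 1, 3, 7, 5, 1, 1, 6], [(.ofNat 0), (.ofNat 0), (.ofNat 0), (.ofNat 0), (.ofNat 0), (.ofNat 0)]), ([9, 5, 1, 2, 1, 3, 7, 8, 0, 7, 4, 0, 7, 1, 7, 3, 6, 2], [(.ofNat 0), (.ofNat 0), (.ofNat 0), (.ofNat 0), (.ofNat 0), (.ofNat 0)]), ([9, 3, 6, 5, 2, 4, 7, 8, 5, 1, 3, 5, 5, 6, 6, 1, 4, 3, 0], [(.ofNat 0), (.ofNat 0), (.ofNat 0), (.ofNat 0), (.ofNat 0), (.ofNat 0)]), ([9, 5, 0, 4, 3, 4, 7, 8, 3, 0, 2, 2, 5, 1, 4, 4, 2, 5, 6], [(.ofNat 0), (.ofNat 0), (.ofNat 0), (.ofNat 0), (.ofNat 0), (.ofNat 0)]), ([9, 4, 1, 1, 6, 5, 7, 8, 5, 6, 2, 0, 2, 4, 7, 4, 4, 0], [(.ofNat 0), (.ofNat 0), (.ofNat 0), (.ofNat 0), (.ofNat 0), (.ofNat 0)]), ([9, 4, 3, 4, 4, 7, 7, 8, 2, 1, 4, 0, 2, 4, 6, 6, 6, 6], [(.ofNat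 0), (.ofNat 0), (.ofNat 0), (.ofNat 0), (.ofNat 0), (.ofNat 0)]), ([9, 6, 5, 1, 5, 3, 0, 0, 8, 7, 0, 4, 0, 5, 0, 2, 2, 4], [(.ofNat 0), (.ofNat 0), (.ofNat 0), (.ofNat 0), (.ofNat 0), (.ofNat 0)]), ([9, 0, 0, 6, 1, 5, 0, 0, 8, 7, 0, 2, 2, 5, 2, 0, 4, 7, 2, 2], [(.ofNat 0), (.ofNat 0), (.ofNat 0), (.ofNat 0), (.ofNat 0), (.ofNat 0)]), ([9, 2, 2, 0, 4, 7, 0, 0, 8, 7, 1, 1, 6, 5, 1, 3, 3, 6], [(.ofNat 0), (.ofNat 0), (.ofNat 0), (.ofNat 0), (.ofNat 0), (.ofNat 0)]), ([9, 2, 0, 3, 5, 7, 0, 0, 8, 3, 3, 6, 1, 4, 7, 1, 1, 4, 1, 5], [(.ofNat 0), (.ofNat 0), (.ofNat 0), (.ofNat 0), (.ofNat 0), (.ofNat 0)]), ([9, 2, 0, 7, 5, 0, 2, 0, 8, 0, 5, 2, 2, 7, 2, 0, 5, 1], [(.ofNat 0), (.ofNat 0), (.ofNat 0), (.ofNat 0), (.ofNat 0),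 (.ofNat 0)]), ([9, 3, 5, 0, 6, 5, 2, 0, 8, 5, 2, 2, 0, 7, 1, 3, 7, 4, 1, 2], [(.ofNat 0), (.ofNat 0), (.ofNat 0), (.ofNat 0), (.ofNat 0), (.ofNat 0)]), ([9, 3, 6, 4, 4, 7, 2, 0, 8, 0, 6, 0, 0, 6, 5, 5, 0, 2, 2, 6], [(.ofNat 0), (.ofNat 0), (.ofNat 0), (.ofNat 0), (.ofNat 0), (.ofNat 0)]), ([9, 7, 2, 7, 1, 3, 3, 0, 8, 3, 1, 5, 0, 5, 3, 4, 4, 6, 5, 5], [(.ofNat 0), (.ofNat 0), (.ofNat 0), (.ofNat 0), (.ofNat 0), (.ofNat 0)]), ([9, 1, 4, 6, 4, 3, 3, 0, 8, 7, 5, 0, 7, 2, 4, 3, 4, 0, 0], [(.ofNat 0), (.ofNat 0), (.ofNat 0), (.ofNat 0), (.ofNat 0), (.ofNat 0)]), ([9, 6, 4, 2, 1, 4, 3, 0, 8, 0, 4, 2, 0, 0, 7, 5, 7, 2, 7, 7], [(.ofNat 0), (.ofNat 0), (.ofNat 0), (.ofNat 0), (.ofNat 0), (.ofNat 0)]), ([9, 0, 5, 1, 5, 6, 3,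 0, 8, 7, 5, 5, 1, 3, 0, 3, 5, 2, 5], [(.ofNat 0), (.ofNat 0), (.ofNat 0), (.ofNat 0), (.ofNat 0), (.ofNat 0)]), ([9, 4, 6, 2, 5, 6, 3, 0, 8, 4, 6, 0, 5, 5, 0, 4, 1, 4, 2], [(.ofNat 0), (.ofNat 0), (.ofNat 0), (.ofNat 0), (.ofNat 0), (.ofNat 0)]), ([9, 6, 6, 6, 6, 6, 3, 0, 8, 2, 4, 4, 2, 7, 3, 6, 1, 1, 2, 0], [(.ofNat 0), (.ofNat 0), (.ofNat 0), (.ofNat 0), (.ofNat 0), (.ofNat 0)]), ([9, 5, 3, 7, 5, 7, 3, 0, 8, 1, 6, 1, 3, 7, 3, 1, 7, 7, 2], [(.ofNat 0), (.ofNat 0), (.ofNat 0), (.ofNat 0), (.ofNat 0), (.ofNat 0)]), ([9, 7, 3, 5, 0, 7, 4, 0, 8, 1, 7, 0, 0, 7, 1, 3, 0, 5, 2, 7], [(.ofNat 0), (.ofNat 0), (.ofNat 0), (.ofNat 0), (.ofNat 0), (.ofNat 0)]), ([9, 0, 7, 0, 6, 0, 5, 0, 8, 7, 4, 7, 3, 5, 0, 6, 4, 3, 6, 5], [(.ofNat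 0), (.ofNat 0), (.ofNat 0), (.ofNat 0), (.ofNat 0), (.ofNat 0)]), ([9, 5, 6, 3, 6, 0, 5, 0, 8, 4, 4, 1, 1, 1, 2, 7, 4, 4, 6, 2], [(.ofNat 0), (.ofNat 0), (.ofNat 0), (.ofNat 0), (.ofNat 0), (.ofNat 0)]), ([9, 4, 4, 7, 7, 1, 5, 0, 8, 6, 4, 3, 4, 7, 3, 1, 5, 0], [(.ofNat 0), (.ofNat 0), (.ofNat 0), (.ofNat 0), (.ofNat 0), (.ofNat 0)]), ([9, 6, 1, 1, 4, 2, 5, 0, 8, 7, 5, 0, 5, 0, 0, 2, 4, 0, 5], [(.ofNat 0), (.ofNat 0), (.ofNat 0), (.ofNat 0), (.ofNat 0), (.ofNat 0)]), ([9, 6, 5, 0, 5, 2, 5, 0, 8, 7, 2, 0, 3, 5, 5, 3, 1, 1, 1], [(.ofNat 0), (.ofNat 0), (.ofNat 0), (.ofNat 0), (.ofNat 0), (.ofNat 0)]), ([9, 3, 4, 4, 7, 2, 5, 0, 8, 2, 4, 2, 5, 7, 1, 7, 2, 1, 4], [(.ofNat 0), (.ofNat 0), (.ofNat 0), (.ofNat 0), (.ofNat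 0), (.ofNat 0)]), ([9, 7, 3, 4, 7, 3, 5, 0, 8, 4, 0, 6, 5, 0, 3, 6, 5], [(.ofNat 0), (.ofNat 0), (.ofNat 0), (.ofNat 0), (.ofNat 0), (.ofNat 0)]), ([9, 2, 4, 4, 7, 5, 5, 0, 8, 4, 6, 2, 4, 1, 7, 0, 6, 5, 7], [(.ofNat 0), (.ofNat 0), (.ofNat 0), (.ofNat 0), (.ofNat 0), (.ofNat 0)]), ([9, 3, 3, 4, 0, 6, 5, 0, 8, 7, 3, 5, 5, 6, 3, 6, 5, 2, 1], [(.ofNat 0), (.ofNat 0), (.ofNat 0), (.ofNat 0), (.ofNat 0), (.ofNat 0)]), ([9, 4, 3, 6, 2, 6, 5, 0, 8, 2, 6, 0, 6, 6, 3, 1, 6, 3, 3], [(.ofNat 0), (.ofNat 0), (.ofNat 0), (.ofNat 0), (.ofNat 0), (.ofNat 0)]), ([9, 4, 3, 4, 3, 6, 5, 0, 8, 5, 0, 2, 0, 7, 2, 6, 6, 0, 5], [(.ofNat 0), (.ofNat 0), (.ofNat 0), (.ofNat 0), (.ofNat 0), (.ofNat 0)]), ([9, 6, 6, 5, 3, 6, 5, 0, 8, 2, 2,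 7, 7, 1, 3, 0, 2, 7, 4], [(.ofNat 0), (.ofNat 0), (.ofNat 0), (.ofNat 0), (.ofNat 0), (.ofNat 0)]), ([9, 0, 3, 1, 1, 7, 5, 0, 8, 7, 4, 7, 2, 0, 0, 3, 7, 5, 6, 0, 5], [(.ofNat 0), (.ofNat 0), (.ofNat 0), (.ofNat 0), (.ofNat 0), (.ofNat 0)]), ([9, 1, 2, 2, 5, 7, 5, 0, 8, 3, 5, 1, 3, 6, 0, 3, 0, 0, 0], [(.ofNat 0), (.ofNat 0), (.ofNat 0), (.ofNat 0), (.ofNat 0), (.ofNat 0)]), ([9, 7, 5, 2, 4, 1, 6, 0, 8, 0, 6, 2, 0, 7, 5, 1, 2, 1, 5, 5], [(.ofNat 0), (.ofNat 0), (.ofNat 0), (.ofNat 0), (.ofNat 0), (.ofNat 0)]), ([9, 0, 0, 2, 6, 3, 6, 0, 8, 1, 6, 6, 2, 5, 1, 2, 7, 0, 4, 3], [(.ofNat 0), (.ofNat 0), (.ofNat 0), (.ofNat 0), (.ofNat 0), (.ofNat 0)]), ([9, 2, 4, 3, 6, 3, 6, 0, 8, 3, 1, 6, 6, 3, 3, 4, 6, 3, 3, 6], [(.ofNat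 0), (.ofNat 0), (.ofNat 0), (.ofNat 0), (.ofNat 0), (.ofNat 0)]), ([9, 6, 5, 6, 6, 1, 7, 0, 8, 0, 0, 4, 7, 1, 1, 2, 2, 1], [(.ofNat 0), (.ofNat 0), (.ofNat 0), (.ofNat 0), (.ofNat 0), (.ofNat 0)]), ([9, 4, 2, 1, 7, 1, 7, 0, 8, 1, 5, 3, 6, 2, 5, 6, 0, 3, 6, 3], [(.ofNat 0), (.ofNat 0), (.ofNat 0), (.ofNat 0), (.ofNat 0), (.ofNat 0)]), ([9, 5, 2, 5, 7, 1, 7, 0, 8, 4, 7, 0, 5, 2, 7, 7, 4, 6, 2], [(.ofNat 0), (.ofNat 0), (.ofNat 0), (.ofNat 0), (.ofNat 0), (.ofNat 0)]), ([9, 7, 7, 1, 1, 2, 1, 1, 8, 0, 2, 4, 0, 7, 7, 7, 3, 0], [(.ofNat 0), (.ofNat 0), (.ofNat 0), (.ofNat 0), (.ofNat 0), (.ofNat 0)]), ([9, 6, 5, 2, 6, 3, 1, 1, 8, 5, 3, 6, 6, 4, 3, 7, 2, 5, 5, 7], [(.ofNat 0), (.ofNat 0), (.ofNat 0), (.ofNat 0), (.ofNat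 0), (.ofNat 0)]), ([9, 1, 7, 2, 7, 3, 1, 1, 8, 1, 6, 4, 1, 1, 1, 4, 7, 1, 1, 2], [(.ofNat 0), (.ofNat 0), (.ofNat 0), (.ofNat 0), (.ofNat 0), (.ofNat 0)]), ([9, 5, 1, 6, 2, 4, 1, 1, 8, 2, 1, 4, 0, 5, 5, 1, 7, 2, 2, 5], [(.ofNat 0), (.ofNat 0), (.ofNat 0), (.ofNat 0), (.ofNat 0), (.ofNat 0)]), ([9, 6, 5, 0, 7, 4, 1, 1, 8, 7, 0, 3, 1, 1, 2, 5, 0, 7, 0, 3], [(.ofNat 0), (.ofNat 0), (.ofNat 0), (.ofNat 0), (.ofNat 0), (.ofNat 0)]), ([9, 3, 3, 6, 1, 5, 1, 1, 8, 1, 5, 3, 6, 5, 1, 3, 5, 5, 1], [(.ofNat 0), (.ofNat 0), (.ofNat 0), (.ofNat 0), (.ofNat 0), (.ofNat 0)]), ([9, 1, 1, 4, 0, 7, 1, 1, 8, 3, 3, 6, 5, 1, 3, 4, 3, 3, 1, 6], [(.ofNat 0), (.ofNat 0), (.ofNat 0), (.ofNat 0), (.ofNat 0), (.ofNat 0)]), ([9, 6, 2, 0, 2,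 7, 1, 1, 8, 5, 2, 6, 5, 1, 4, 3, 3, 3, 6], [(.ofNat 0), (.ofNat 0), (.ofNat 0), (.ofNat 0), (.ofNat 0), (.ofNat 0)]), ([9, 6, 1, 3, 4, 7, 1, 1, 8, 0, 5, 7, 2, 4, 3, 3, 3, 5, 1], [(.ofNat 0), (.ofNat 0), (.ofNat 0), (.ofNat 0), (.ofNat 0), (.ofNat 0)]), ([9, 2, 5, 2, 5, 7, 1, 1, 8, 0, 6, 6, 0, 3, 6, 1, 6, 1, 4, 7], [(.ofNat 0), (.ofNat 0), (.ofNat 0), (.ofNat 0), (.ofNat 0), (.ofNat 0)]), ([9, 1, 4, 6, 0, 0, 2, 1, 8, 6, 3, 0, 3, 0, 2, 6, 1, 2, 4, 7, 3], [(.ofNat 0), (.ofNat 0), (.ofNat 0), (.ofNat 0), (.ofNat 0), (.ofNat 0)]), ([9, 2, 5, 7, 7, 2, 2, 1, 8, 2, 0, 2, 5, 2, 0, 6, 6, 3, 1, 5], [(.ofNat 0), (.ofNat 0), (.ofNat 0), (.ofNat 0), (.ofNat 0), (.ofNat 0)]), ([9, 7, 2, 7, 2, 4, 2, 1, 8, 4, 6, 3, 5, 2, 1, 4, 2,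 6, 5], [(.ofNat 0), (.ofNat 0), (.ofNat 0), (.ofNat 0), (.ofNat 0), (.ofNat 0)]), ([9, 4, 7, 7, 2, 0, 3, 1, 8, 2, 6, 4, 1, 2, 4, 6, 3, 1], [(.ofNat 0), (.ofNat 0), (.ofNat 0), (.ofNat 0), (.ofNat 0), (.ofNat 0)]), ([9, 6, 2, 5, 7, 5, 3, 1, 8, 6, 5, 2, 1, 3, 5, 0, 0, 4, 4], [(.ofNat 0), (.ofNat 0), (.ofNat 0), (.ofNat 0), (.ofNat 0), (.ofNat 0)]), ([9, 3, 6, 5, 0, 0, 4, 1, 8, 6, 1, 6, 2, 4, 1, 5, 6, 1, 2, 2], [(.ofNat 0), (.ofNat 0), (.ofNat 0), (.ofNat 0), (.ofNat 0), (.ofNat 0)]), ([9, 1, 2, 7, 4, 0, 4, 1, 8, 4, 3, 4, 2, 1, 2, 0, 4, 4, 6], [(.ofNat 0), (.ofNat 0), (.ofNat 0), (.ofNat 0), (.ofNat 0), (.ofNat 0)]), ([9, 7, 2, 7, 3, 3, 4, 1, 8, 2, 0, 5, 0, 3, 1, 5, 7, 7, 5, 3], [(.ofNat 0), (.ofNat 0), (.ofNat 0),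 (.ofNat 0), (.ofNat 0), (.ofNat 0)]), ([9, 0, 7, 0, 6, 3, 4, 1, 8, 6, 3, 1, 5, 7, 7, 5, 6, 1, 3], [(.ofNat 0), (.ofNat 0), (.ofNat 0), (.ofNat 0), (.ofNat 0), (.ofNat 0)]), ([9, 2, 2, 7, 4, 6, 4, 1, 8, 2, 1, 1, 2, 1, 6, 2, 0, 6, 1, 5], [(.ofNat 0), (.ofNat 0), (.ofNat 0), (.ofNat 0), (.ofNat 0), (.ofNat 0)]), ([9, 6, 3, 0, 5, 0, 5, 1, 8, 5, 1, 3, 0, 4, 1, 1, 2, 5, 7, 5], [(.ofNat 0), (.ofNat 0), (.ofNat 0), (.ofNat 0), (.ofNat 0), (.ofNat 0)]), ([9, 2, 0, 7, 7, 2, 5, 1, 8, 3, 1, 6, 0, 5, 3, 0, 5, 1, 6, 5], [(.ofNat 0), (.ofNat 0), (.ofNat 0), (.ofNat 0), (.ofNat 0), (.ofNat 0)]), ([9, 2, 5, 7, 1, 6, 5, 1, 8, 6, 1, 2, 1, 1, 6, 5, 0, 6, 2, 7], [(.ofNat 0), (.ofNat 0), (.ofNat 0), (.ofNat 0), (.ofNat 0), (.ofNat 0)]),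 ([9, 6, 1, 6, 4, 6, 5, 1, 8, 4, 2, 1, 2, 0, 4, 6, 5, 5, 2], [(.ofNat 0), (.ofNat 0), (.ofNat 0), (.ofNat 0), (.ofNat 0), (.ofNat 0)]), ([9, 5, 6, 1, 3, 7, 5, 1, 8, 4, 1, 5, 3, 6, 1, 1, 7, 3, 7, 2], [(.ofNat 0), (.ofNat 0), (.ofNat 0), (.ofNat 0), (.ofNat 0), (.ofNat 0)]), ([9, 0, 7, 4, 3, 7, 5, 1, 8, 3, 0, 7, 1, 1, 2, 2, 4, 7, 5, 0], [(.ofNat 0), (.ofNat 0), (.ofNat 0), (.ofNat 0), (.ofNat 0), (.ofNat 0)]), ([9, 1, 4, 1, 7, 1, 6, 1, 8, 7, 3, 6, 1, 7, 5, 6, 6, 5, 6, 2], [(.ofNat 0), (.ofNat 0), (.ofNat 0), (.ofNat 0), (.ofNat 0), (.ofNat 0)]), ([9, 0, 5, 2, 7, 1, 6, 1, 8, 2, 0, 7, 4, 6, 6, 4, 0, 2, 7], [(.ofNat 0), (.ofNat 0), (.ofNat 0), (.ofNat 0), (.ofNat 0), (.ofNat 0)]), ([9, 0, 6, 5, 7, 1, 6, 1, 8, 1, 3, 4,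 7, 1, 5, 1, 1, 2, 4], [(.ofNat 0), (.ofNat 0), (.ofNat 0), (.ofNat 0), (.ofNat 0), (.ofNat 0)]), ([9, 0, 4, 6, 2, 5, 6, 1, 8, 2, 5, 1, 1, 3, 4, 7, 2, 7, 1, 2], [(.ofNat 0), (.ofNat 0), (.ofNat 0), (.ofNat 0), (.ofNat 0), (.ofNat 0)]), ([9, 2, 2, 6, 4, 1, 7, 1, 8, 3, 0, 3, 6, 1, 4, 2, 5, 2, 1], [(.ofNat 0), (.ofNat 0), (.ofNat 0), (.ofNat 0), (.ofNat 0), (.ofNat 0)]), ([9, 4, 1, 2, 5, 3, 7, 1, 8, 7, 0, 5, 0, 4, 0, 7, 0, 3, 6, 1], [(.ofNat 0), (.ofNat 0), (.ofNat 0), (.ofNat 0), (.ofNat 0), (.ofNat 0)]), ([9, 4, 7, 5, 5, 3, 7, 1, 8, 2, 0, 7, 2, 7, 7, 0, 0, 6, 2, 6], [(.ofNat 0), (.ofNat 0), (.ofNat 0), (.ofNat 0), (.ofNat 0), (.ofNat 0)]), ([9, 3, 5, 1, 1, 4, 7, 1, 8, 2, 0, 3, 1, 7, 3, 1, 6, 5, 0, 4], [(.ofNat 0),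 (.ofNat 0), (.ofNat 0), (.ofNat 0), (.ofNat 0), (.ofNat 0)]), ([9, 3, 1, 3, 3, 4, 7, 1, 8, 4, 3, 6, 3, 6, 0, 4, 0, 3, 3], [(.ofNat 0), (.ofNat 0), (.ofNat 0), (.ofNat 0), (.ofNat 0), (.ofNat 0)]), ([9, 0, 7, 0, 6, 4, 7, 1, 8, 5, 3, 0, 0, 4, 0, 6, 5, 2, 0], [(.ofNat 0), (.ofNat 0), (.ofNat 0), (.ofNat 0), (.ofNat 0), (.ofNat 0)]), ([9, 5, 0, 7, 3, 0, 0, 2, 8, 7, 4, 3, 1, 2, 0, 5, 6, 0, 3, 0], [(.ofNat 0), (.ofNat 0), (.ofNat 0), (.ofNat 0), (.ofNat 0), (.ofNat 0)]), ([9, 4, 7, 1, 1, 2, 0, 2, 8, 3, 4, 4, 0, 3, 4, 6, 4, 6, 6, 1], [(.ofNat 0), (.ofNat 0), (.ofNat 0), (.ofNat 0), (.ofNat 0), (.ofNat 0)]), ([9, 0, 6, 5, 2, 2, 0, 2, 8, 2, 2, 1, 5, 1, 7, 2, 7, 2, 5], [(.ofNat 0), (.ofNat 0), (.ofNat 0), (.ofNat 0), (.ofNat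 0), (.ofNat 0)]), ([9, 6, 6, 3, 5, 5, 0, 2, 8, 2, 1, 1, 1, 7, 7, 3, 1, 5, 7, 5], [(.ofNat 0), (.ofNat 0), (.ofNat 0), (.ofNat 0), (.ofNat 0), (.ofNat 0)]), ([9, 4, 6, 0, 2, 1, 1, 2, 8, 2, 7, 0, 2, 0, 6, 5, 5, 1, 3, 0, 7], [(.ofNat 0), (.ofNat 0), (.ofNat 0), (.ofNat 0), (.ofNat 0), (.ofNat 0)]), ([9, 4, 7, 7, 3, 1, 1, 2, 8, 1, 1, 6, 6, 1, 2, 5, 2, 2, 0], [(.ofNat 0), (.ofNat 0), (.ofNat 0), (.ofNat 0), (.ofNat 0), (.ofNat 0)]), ([9, 4, 7, 4, 0, 4, 1, 2, 8, 0, 2, 1, 1, 6, 6, 2, 6, 4, 1], [(.ofNat 0), (.ofNat 0), (.ofNat 0), (.ofNat 0), (.ofNat 0), (.ofNat 0)]), ([9, 5, 2, 7, 1, 5, 1, 2, 8, 1, 5, 5, 0, 4, 1, 1, 3, 6, 2, 1], [(.ofNat 0), (.ofNat 0), (.ofNat 0), (.ofNat 0), (.ofNat 0), (.ofNat 0)]), ([9, 6, 2, 1, 5,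 7, 1, 2, 8, 4, 4, 2, 6, 0, 0, 6, 0, 7, 4, 1, 1], [(.ofNat 0), (.ofNat 0), (.ofNat 0), (.ofNat 0), (.ofNat 0), (.ofNat 0)]), ([9, 6, 0, 2, 0, 2, 2, 2, 8, 7, 3, 0, 0, 4, 0, 3, 1, 4, 2], [(.ofNat 0), (.ofNat 0), (.ofNat 0), (.ofNat 0), (.ofNat 0), (.ofNat 0)]), ([9, 3, 7, 1, 3, 4, 2, 2, 8, 1, 4, 6, 3, 0, 3, 4, 2, 7, 5, 6], [(.ofNat 0), (.ofNat 0), (.ofNat 0), (.ofNat 0), (.ofNat 0), (.ofNat 0)]), ([9, 1, 4, 7, 1, 5, 2, 2, 8, 0, 3, 4, 7, 2, 7, 4, 4, 2, 6], [(.ofNat 0), (.ofNat 0), (.ofNat 0), (.ofNat 0), (.ofNat 0), (.ofNat 0)]), ([9, 7, 7, 0, 2, 5, 2, 2, 8, 1, 1, 1, 2, 7, 5, 6, 1, 5, 7, 7], [(.ofNat 0), (.ofNat 0), (.ofNat 0), (.ofNat 0), (.ofNat 0), (.ofNat 0)]), ([9, 0, 0, 4, 0, 7, 2, 2, 8, 5, 7, 0, 2, 6, 6, 3, 4,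 4, 0], [(.ofNat 0), (.ofNat 0), (.ofNat 0), (.ofNat 0), (.ofNat 0), (.ofNat 0)]), ([9, 5, 3, 3, 4, 7, 2, 2, 8, 2, 6, 4, 4, 7, 2, 6, 2, 2, 2, 6], [(.ofNat 0), (.ofNat 0), (.ofNat 0), (.ofNat 0), (.ofNat 0), (.ofNat 0)]), ([9, 0, 6, 5, 0, 0, 4, 2, 8, 1, 7, 7, 1, 1, 5, 7, 3, 3, 4, 6], [(.ofNat 0), (.ofNat 0), (.ofNat 0), (.ofNat 0), (.ofNat 0), (.ofNat 0)]), ([9, 2, 1, 2, 7, 1, 4, 2, 8, 1, 1, 6, 0, 0, 7, 1, 3, 5, 7, 4], [(.ofNat 0), (.ofNat 0), (.ofNat 0), (.ofNat 0), (.ofNat 0), (.ofNat 0)]), ([9, 1, 3, 4, 7, 1, 4, 2, 8, 3, 0, 0, 6, 2, 7, 7, 0, 2, 0, 4], [(.ofNat 0), (.ofNat 0), (.ofNat 0), (.ofNat 0), (.ofNat 0), (.ofNat 0)]), ([9, 6, 4, 2, 1, 3, 4, 2, 8, 7, 1, 5, 3, 4, 3, 0, 2, 0, 4], [(.ofNat 0), (.ofNat 0), (.ofNat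 0), (.ofNat 0), (.ofNat 0), (.ofNat 0)]), ([9, 6, 3, 4, 1, 1, 5, 2, 8, 7, 4, 3, 4, 1, 5, 2, 1, 5, 5], [(.ofNat 0), (.ofNat 0), (.ofNat 0), (.ofNat 0), (.ofNat 0), (.ofNat 0)]), ([9, 6, 6, 4, 1, 2, 5, 2, 8, 3, 3, 4, 0, 6, 3, 1, 1, 3, 3], [(.ofNat 0), (.ofNat 0), (.ofNat 0), (.ofNat 0), (.ofNat 0), (.ofNat 0)]), ([9, 3, 6, 1, 2, 2, 5, 2, 8, 2, 2, 0, 6, 0, 4, 2, 5, 0], [(.ofNat 0), (.ofNat 0), (.ofNat 0), (.ofNat 0), (.ofNat 0), (.ofNat 0)]), ([9, 3, 6, 2, 4, 2, 5, 2, 8, 0, 3, 7, 5, 2, 2, 0, 2, 1, 5], [(.ofNat 0), (.ofNat 0), (.ofNat 0), (.ofNat 0), (.ofNat 0), (.ofNat 0)]), ([9, 1, 4, 3, 6, 5, 5, 2, 8, 5, 0, 3, 6, 0, 6, 4, 3, 5, 3], [(.ofNat 0), (.ofNat 0), (.ofNat 0), (.ofNat 0), (.ofNat 0), (.ofNat 0)]), ([9, 3,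 3, 5, 2, 0, 6, 2, 8, 7, 4, 6, 3, 5, 2, 1, 2, 7, 5, 0], [(.ofNat 0), (.ofNat 0), (.ofNat 0), (.ofNat 0), (.ofNat 0), (.ofNat 0)]), ([9, 6, 5, 3, 1, 2, 6, 2, 8, 0, 7, 4, 6, 3, 7, 7, 5, 5, 6, 4], [(.ofNat 0), (.ofNat 0), (.ofNat 0), (.ofNat 0), (.ofNat 0), (.ofNat 0)]), ([9, 7, 1, 2, 6, 2, 6, 2, 8, 1, 1, 6, 0, 2, 2, 0, 2, 1, 6, 1], [(.ofNat 0), (.ofNat 0), (.ofNat 0), (.ofNat 0), (.ofNat 0), (.ofNat 0)]), ([9, 6, 4, 7, 3, 3, 6, 2, 8, 1, 3, 3, 3, 6, 0, 0, 3, 4, 0], [(.ofNat 0), (.ofNat 0), (.ofNat 0), (.ofNat 0), (.ofNat 0), (.ofNat 0)]), ([9, 7, 4, 7, 3, 4, 6, 2, 8, 6, 5, 0, 4, 3, 0, 6, 4, 1, 4, 7], [(.ofNat 0), (.ofNat 0), (.ofNat 0), (.ofNat 0), (.ofNat 0), (.ofNat 0)]), ([9, 7, 2, 2, 5, 6, 6, 2, 8, 6, 6, 6, 5, 3,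 3, 1, 6, 5, 6], [(.ofNat 0), (.ofNat 0), (.ofNat 0), (.ofNat 0), (.ofNat 0), (.ofNat 0)]), ([9, 3, 4, 3, 3, 0, 7, 2, 8, 1, 4, 3, 5, 1, 7, 1, 3, 3], [(.ofNat 0), (.ofNat 0), (.ofNat 0), (.ofNat 0), (.ofNat 0), (.ofNat 0)]), ([9, 2, 6, 5, 7, 0, 7, 2, 8, 6, 5, 3, 1, 3, 3, 7, 1, 4, 3, 5], [(.ofNat 0), (.ofNat 0), (.ofNat 0), (.ofNat 0), (.ofNat 0), (.ofNat 0)]), ([9, 6, 6, 3, 4, 1, 7, 2, 8, 1, 7, 4, 0, 3, 0, 7, 1, 7, 2, 5], [(.ofNat 0), (.ofNat 0), (.ofNat 0), (.ofNat 0), (.ofNat 0), (.ofNat 0)]), ([9, 2, 2, 6, 5, 1, 7, 2, 8, 2, 2, 5, 5, 3, 7, 4, 6, 6, 5, 7], [(.ofNat 0), (.ofNat 0), (.ofNat 0), (.ofNat 0), (.ofNat 0), (.ofNat 0)]), ([9, 3, 4, 3, 5, 3, 7, 2, 8, 4, 0, 3, 1, 3, 3, 4, 6, 2, 1], [(.ofNat 0), (.ofNat 0),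 (.ofNat 0), (.ofNat 0), (.ofNat 0), (.ofNat 0)]), ([9, 6, 0, 5, 5, 3, 7, 2, 8, 0, 2, 5, 0, 0, 6, 6, 0, 5], [(.ofNat 0), (.ofNat 0), (.ofNat 0), (.ofNat 0), (.ofNat 0), (.ofNat 0)]), ([9, 0, 5, 1, 1, 4, 7, 2, 8, 7, 3, 7, 1, 5, 6, 5, 2, 5, 0, 4], [(.ofNat 0), (.ofNat 0), (.ofNat 0), (.ofNat 0), (.ofNat 0), (.ofNat 0)]), ([9, 4, 1, 2, 1, 5, 7, 2, 8, 7, 5, 5, 1, 5, 3, 4, 6, 3, 0, 7], [(.ofNat 0), (.ofNat 0), (.ofNat 0), (.ofNat 0), (.ofNat 0), (.ofNat 0)]), ([9, 4, 7, 5, 1, 5, 7, 2, 8, 2, 6, 0, 4, 6, 6, 2, 4, 2, 2, 0], [(.ofNat 0), (.ofNat 0), (.ofNat 0), (.ofNat 0), (.ofNat 0), (.ofNat 0)]), ([9, 1, 3, 6, 5, 5, 7, 2, 8, 7, 3, 3, 1, 4, 4, 7, 1, 1, 7, 1], [(.ofNat 0), (.ofNat 0), (.ofNat 0), (.ofNat 0), (.ofNat 0), (.ofNat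 0)]), ([9, 3, 5, 0, 6, 3, 0, 3, 8, 0, 5, 5, 1, 5, 2, 1, 3, 1, 4, 6], [(.ofNat 0), (.ofNat 0), (.ofNat 0), (.ofNat 0), (.ofNat 0), (.ofNat 0)]), ([9, 6, 2, 6, 3, 7, 0, 3, 8, 1, 4, 7, 2, 0, 0, 0, 2, 1], [(.ofNat 0), (.ofNat 0), (.ofNat 0), (.ofNat 0), (.ofNat 0), (.ofNat 0)]), ([9, 7, 2, 7, 7, 1, 1, 3, 8, 0, 6, 0, 2, 2, 4, 0, 0, 7, 2, 4], [(.ofNat 0), (.ofNat 0), (.ofNat 0), (.ofNat 0), (.ofNat 0), (.ofNat 0)]), ([9, 5, 0, 7, 0, 2, 1, 3, 8, 5, 1, 6, 0, 3, 4, 2, 5, 1, 2, 1], [(.ofNat 0), (.ofNat 0), (.ofNat 0), (.ofNat 0), (.ofNat 0), (.ofNat 0)]), ([9, 1, 1, 6, 4, 2, 1, 3, 8, 4, 0, 5, 0, 0, 6, 5, 0, 7, 2, 2], [(.ofNat 0), (.ofNat 0), (.ofNat 0), (.ofNat 0), (.ofNat 0), (.ofNat 0)]), ([9, 6, 0, 0, 5, 2, 1, 3, 8, 7,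 3, 0, 4, 1, 4, 3, 4, 3], [(.ofNat 0), (.ofNat 0), (.ofNat 0), (.ofNat 0), (.ofNat 0), (.ofNat 0)]), ([9, 7, 7, 2, 1, 3, 1, 3, 8, 2, 2, 1, 1, 5, 3, 6, 0, 4, 4, 2], [(.ofNat 0), (.ofNat 0), (.ofNat 0), (.ofNat 0), (.ofNat 0), (.ofNat 0)]), ([9, 7, 2, 7, 4, 4, 1, 3, 8, 3, 6, 0, 6, 6, 5, 1, 1, 5, 6], [(.ofNat 0), (.ofNat 0), (.ofNat 0), (.ofNat 0), (.ofNat 0), (.ofNat 0)]), ([9, 1, 3, 1, 4, 6, 1, 3, 8, 0, 4, 1, 3, 6, 3, 3, 4, 1], [(.ofNat 0), (.ofNat 0), (.ofNat 0), (.ofNat 0), (.ofNat 0), (.ofNat 0)]), ([9, 0, 4, 3, 6, 6, 1, 3, 8, 6, 0, 2, 1, 1, 6, 6, 0, 2, 1, 6], [(.ofNat 0), (.ofNat 0), (.ofNat 0), (.ofNat 0), (.ofNat 0), (.ofNat 0)]), ([9, 1, 1, 6, 5, 1, 3, 3, 8, 7, 2, 2, 0, 4, 7, 0, 0, 6], [(.ofNat 0), (.ofNat 0),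 (.ofNat 0), (.ofNat 0), (.ofNat 0), (.ofNat 0)]), ([9, 5, 0, 7, 3, 4, 3, 3, 8, 1, 3, 7, 7, 1, 6, 6, 4, 6, 0], [(.ofNat 0), (.ofNat 0), (.ofNat 0), (.ofNat 0), (.ofNat 0), (.ofNat 0)]), ([9, 0, 5, 7, 5, 6, 3, 3, 8, 4, 0, 7, 1, 3, 7, 0, 3, 0, 0, 3], [(.ofNat 0), (.ofNat 0), (.ofNat 0), (.ofNat 0), (.ofNat 0), (.ofNat 0)]), ([9, 3, 6, 0, 4, 7, 3, 3, 8, 6, 4, 7, 7, 5, 6, 2, 4, 4, 3, 3], [(.ofNat 0), (.ofNat 0), (.ofNat 0), (.ofNat 0), (.ofNat 0), (.ofNat 0)]), ([9, 0, 6, 0, 5, 7, 3, 3, 8, 0, 3, 4, 3, 5, 0, 7, 2, 1, 2], [(.ofNat 0), (.ofNat 0), (.ofNat 0), (.ofNat 0), (.ofNat 0), (.ofNat 0)]), ([9, 7, 1, 2, 7, 2, 4, 3, 8, 1, 4, 7, 0, 4, 1, 6, 1, 4], [(.ofNat 0), (.ofNat 0), (.ofNat 0), (.ofNat 0), (.ofNat 0), (.ofNat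 0)]), ([9, 6, 0, 3, 1, 3, 4, 3, 8, 7, 4, 0, 0, 5, 3, 0, 3, 1, 5, 0], [(.ofNat 0), (.ofNat 0), (.ofNat 0), (.ofNat 0), (.ofNat 0), (.ofNat 0)]), ([9, 0, 0, 6, 4, 3, 4, 3, 8, 0, 5, 6, 3, 5, 2, 0, 2, 4, 1, 2], [(.ofNat 0), (.ofNat 0), (.ofNat 0), (.ofNat 0), (.ofNat 0), (.ofNat 0)]), ([9, 0, 4, 7, 0, 6, 4, 3, 8, 0, 0, 5, 1, 3, 5, 7, 7, 3, 6, 0], [(.ofNat 0), (.ofNat 0), (.ofNat 0), (.ofNat 0), (.ofNat 0), (.ofNat 0)]), ([9, 0, 3, 3, 6, 6, 4, 3, 8, 4, 0, 2, 7, 7, 1, 3, 4, 3, 1, 3], [(.ofNat 0), (.ofNat 0), (.ofNat 0), (.ofNat 0), (.ofNat 0), (.ofNat 0)]), ([9, 2, 6, 5, 5, 7, 4, 3, 8, 1, 4, 2, 2, 6, 4, 2, 5, 3, 1, 1], [(.ofNat 0), (.ofNat 0), (.ofNat 0), (.ofNat 0), (.ofNat 0), (.ofNat 0)]), ([9, 5, 2, 2, 7, 7, 4, 3,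 8, 7, 1, 5, 1, 7, 1, 1, 5, 1, 4, 6], [(.ofNat 0), (.ofNat 0), (.ofNat 0), (.ofNat 0), (.ofNat 0), (.ofNat 0)]), ([9, 6, 5, 2, 6, 2, 5, 3, 8, 7, 4, 6, 1, 3, 6, 3, 4, 7, 1], [(.ofNat 0), (.ofNat 0), (.ofNat 0), (.ofNat 0), (.ofNat 0), (.ofNat 0)]), ([9, 5, 0, 4, 6, 2, 5, 3, 8, 5, 2, 1, 3, 4, 2, 6, 4, 7, 0, 0], [(.ofNat 0), (.ofNat 0), (.ofNat 0), (.ofNat 0), (.ofNat 0), (.ofNat 0)]), ([9, 1, 7, 2, 7, 2, 5, 3, 8, 7, 2, 2, 7, 5, 2, 2, 7, 7, 0, 2], [(.ofNat 0), (.ofNat 0), (.ofNat 0), (.ofNat 0), (.ofNat 0), (.ofNat 0)]), ([9, 1, 4, 4, 6, 5, 5, 3, 8, 6, 4, 7, 1, 6, 0, 5, 3, 7, 5], [(.ofNat 0), (.ofNat 0), (.ofNat 0), (.ofNat 0), (.ofNat 0), (.ofNat 0)]), ([9, 4, 6, 6, 0, 6, 5, 3, 8, 2, 7, 7, 0, 2, 0, 5, 0, 4, 7], [(.ofNat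 0), (.ofNat 0), (.ofNat 0), (.ofNat 0), (.ofNat 0), (.ofNat 0)]), ([9, 4, 6, 3, 6, 6, 5, 3, 8, 5, 2, 2, 1, 2, 6, 5, 5, 1, 6], [(.ofNat 0), (.ofNat 0), (.ofNat 0), (.ofNat 0), (.ofNat 0), (.ofNat 0)]), ([9, 4, 0, 7, 4, 7, 5, 3, 8, 3, 0, 3, 4, 3, 5, 1, 5, 6, 6, 6], [(.ofNat 0), (.ofNat 0), (.ofNat 0), (.ofNat 0), (.ofNat 0), (.ofNat 0)]), ([9, 5, 5, 7, 4, 7, 5, 3, 8, 5, 6, 4, 1, 6, 0, 3, 6, 2, 0], [(.ofNat 0), (.ofNat 0), (.ofNat 0), (.ofNat 0), (.ofNat 0), (.ofNat 0)]), ([9, 6, 1, 7, 0, 2, 6, 3, 8, 0, 6, 4, 0, 2, 7, 5, 2, 4, 1, 3], [(.ofNat 0), (.ofNat 0), (.ofNat 0), (.ofNat 0), (.ofNat 0), (.ofNat 0)]), ([9, 6, 6, 6, 2, 6, 6, 3, 8, 6, 6, 3, 4, 2, 5, 6, 4, 1, 5], [(.ofNat 0), (.ofNat 0), (.ofNat 0), (.ofNat 0), (.ofNat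 0), (.ofNat 0)]), ([9, 4, 0, 3, 7, 1, 7, 3, 8, 2, 5, 2, 0, 0, 5, 7, 7, 5, 2, 5], [(.ofNat 0), (.ofNat 0), (.ofNat 0), (.ofNat 0), (.ofNat 0), (.ofNat 0)]), ([9, 5, 5, 3, 7, 1, 7, 3, 8, 7, 7, 3, 6, 5, 6, 2, 7, 5, 7, 4], [(.ofNat 0), (.ofNat 0), (.ofNat 0), (.ofNat 0), (.ofNat 0), (.ofNat 0)]), ([9, 2, 5, 6, 4, 4, 7, 3, 8, 3, 0, 6, 0, 2, 7, 0, 5, 0, 7, 3], [(.ofNat 0), (.ofNat 0), (.ofNat 0), (.ofNat 0), (.ofNat 0), (.ofNat 0)]), ([9, 3, 6, 1, 6, 4, 7, 3, 8, 4, 2, 5, 0, 6, 2, 2, 0, 2, 4, 7], [(.ofNat 0), (.ofNat 0), (.ofNat 0), (.ofNat 0), (.ofNat 0), (.ofNat 0)]), ([9, 6, 2, 4, 0, 0, 0, 4, 8, 5, 3, 4, 0, 5, 3, 6, 0, 0, 4], [(.ofNat 0), (.ofNat 0), (.ofNat 0), (.ofNat 0), (.ofNat 0), (.ofNat 0)]), ([9, 4, 3, 0, 6,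 0, 0, 4, 8, 4, 7, 0, 2, 0, 0, 7, 1, 4, 3, 5], [(.ofNat 0), (.ofNat 0), (.ofNat 0), (.ofNat 0), (.ofNat 0), (.ofNat 0)]), ([9, 0, 0, 5, 3, 7, 0, 4, 8, 0, 0, 7, 0, 0, 5, 5, 6, 2, 4, 7], [(.ofNat 0), (.ofNat 0), (.ofNat 0), (.ofNat 0), (.ofNat 0), (.ofNat 0)]), ([9, 7, 1, 6, 4, 2, 1, 4, 8, 7, 7, 3, 1, 1, 7, 0, 7, 7, 4, 4], [(.ofNat 0), (.ofNat 0), (.ofNat 0), (.ofNat 0), (.ofNat 0), (.ofNat 0)]), ([9, 6, 0, 4, 7, 4, 1, 4, 8, 2, 7, 7, 3, 5, 3, 0, 7, 4, 3, 7], [(.ofNat 0), (.ofNat 0), (.ofNat 0), (.ofNat 0), (.ofNat 0), (.ofNat 0)]), ([9, 7, 7, 4, 2, 5, 1, 4, 8, 1, 2, 0, 0, 0, 5, 5, 3, 6, 5, 0, 4], [(.ofNat 0), (.ofNat 0), (.ofNat 0), (.ofNat 0), (.ofNat 0), (.ofNat 0)]), ([9, 6, 2, 1, 6, 5, 1, 4, 8, 0, 0, 4, 0, 3, 4,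 1, 6, 0, 5, 5], [(.ofNat 0), (.ofNat 0), (.ofNat 0), (.ofNat 0), (.ofNat 0), (.ofNat 0)]), ([9, 2, 4, 3, 7, 5, 1, 4, 8, 1, 1, 6, 5, 7, 3, 5, 2, 0, 3, 4], [(.ofNat 0), (.ofNat 0), (.ofNat 0), (.ofNat 0), (.ofNat 0), (.ofNat 0)]), ([9, 2, 0, 3, 1, 6, 1, 4, 8, 6, 5, 6, 1, 3, 1, 2, 2, 7, 0, 6], [(.ofNat 0), (.ofNat 0), (.ofNat 0), (.ofNat 0), (.ofNat 0), (.ofNat 0)]), ([9, 3, 1, 1, 2, 6, 1, 4, 8, 2, 6, 4, 0, 2, 0, 0, 3, 1, 5, 5], [(.ofNat 0), (.ofNat 0), (.ofNat 0), (.ofNat 0), (.ofNat 0), (.ofNat 0)]), ([9, 2, 2, 5, 2, 6, 1, 4, 8, 1, 7, 5, 7, 7, 0, 6, 6, 2, 0], [(.ofNat 0), (.ofNat 0), (.ofNat 0), (.ofNat 0), (.ofNat 0), (.ofNat 0)]), ([9, 7, 7, 3, 4, 0, 2, 4, 8, 7, 5, 3, 1, 5, 2, 6, 6, 6], [(.ofNat 0), (.ofNat 0),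 (.ofNat 0), (.ofNat 0), (.ofNat 0), (.ofNat 0)]), ([9, 5, 5, 0, 6, 0, 2, 4, 8, 5, 5, 7, 3, 4, 0, 5, 2, 7, 2, 2], [(.ofNat 0), (.ofNat 0), (.ofNat 0), (.ofNat 0), (.ofNat 0), (.ofNat 0)]), ([9, 4, 7, 0, 2, 2, 2, 4, 8, 2, 2, 2, 7, 4, 6, 2, 5, 6, 2], [(.ofNat 0), (.ofNat 0), (.ofNat 0), (.ofNat 0), (.ofNat 0), (.ofNat 0)]), ([9, 3, 3, 6, 5, 2, 2, 4, 8, 7, 3, 3, 3, 7, 3, 6, 5, 5, 7, 3], [(.ofNat 0), (.ofNat 0), (.ofNat 0), (.ofNat 0), (.ofNat 0), (.ofNat 0)]), ([9, 6, 5, 1, 6, 2, 2, 4, 8, 3, 0, 5, 1, 6, 3, 5, 5, 3, 4, 1], [(.ofNat 0), (.ofNat 0), (.ofNat 0), (.ofNat 0), (.ofNat 0), (.ofNat 0)]), ([9, 6, 6, 6, 6, 5, 2, 4, 8, 5, 6, 6, 0, 6, 3, 1, 5, 5, 3, 7], [(.ofNat 0), (.ofNat 0), (.ofNat 0), (.ofNat 0), (.ofNat 0),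 (.ofNat 0)]), ([9, 1, 2, 6, 4, 6, 2, 4, 8, 3, 6, 6, 0, 2, 6, 2, 0, 7, 0], [(.ofNat 0), (.ofNat 0), (.ofNat 0), (.ofNat 0), (.ofNat 0), (.ofNat 0)]), ([9, 7, 0, 3, 5, 7, 2, 4, 8, 6, 4, 3, 1, 4, 4, 2, 0, 4, 2], [(.ofNat 0), (.ofNat 0), (.ofNat 0), (.ofNat 0), (.ofNat 0), (.ofNat 0)]), ([9, 6, 2, 6, 5, 1, 3, 4, 8, 2, 1, 2, 2, 6, 2, 1, 2, 6, 1, 3], [(.ofNat 0), (.ofNat 0), (.ofNat 0), (.ofNat 0), (.ofNat 0), (.ofNat 0)]), ([9, 6, 2, 0, 0, 3, 3, 4, 8, 7, 5, 2, 5, 5, 2, 5, 2, 4, 4], [(.ofNat 0), (.ofNat 0), (.ofNat 0), (.ofNat 0), (.ofNat 0), (.ofNat 0)]), ([9, 2, 5, 6, 6, 3, 3, 4, 8, 7, 5, 0, 4, 0, 0, 6, 0, 4, 0, 6], [(.ofNat 0), (.ofNat 0), (.ofNat 0), (.ofNat 0), (.ofNat 0), (.ofNat 0)]), ([9, 1, 6, 0, 6, 4, 3, 4, 8,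 3, 7, 5, 6, 6, 3, 4, 1, 6, 5], [(.ofNat 0), (.ofNat 0), (.ofNat 0), (.ofNat 0), (.ofNat 0), (.ofNat 0)]), ([9, 7, 3, 1, 6, 4, 3, 4, 8, 3, 5, 0, 4, 7, 1, 6, 6, 5], [(.ofNat 0), (.ofNat 0), (.ofNat 0), (.ofNat 0), (.ofNat 0), (.ofNat 0)]), ([9, 3, 0, 4, 0, 6, 3, 4, 8, 0, 3, 7, 2, 0, 0, 5, 1, 4, 4, 0], [(.ofNat 0), (.ofNat 0), (.ofNat 0), (.ofNat 0), (.ofNat 0), (.ofNat 0)]), ([9, 6, 0, 2, 4, 6, 3, 4, 8, 4, 6, 5, 3, 7, 2, 1, 2, 1, 5, 7], [(.ofNat 0), (.ofNat 0), (.ofNat 0), (.ofNat 0), (.ofNat 0), (.ofNat 0)]), ([9, 7, 4, 7, 0, 0, 4, 4, 8, 4, 3, 4, 0, 2, 7, 0, 6, 6, 0, 5], [(.ofNat 0), (.ofNat 0), (.ofNat 0), (.ofNat 0), (.ofNat 0), (.ofNat 0)]), ([9, 5, 3, 1, 7, 1, 4, 4, 8, 6, 5, 3, 3, 7, 0, 4, 7, 4, 2, 0], [(.ofNat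 0), (.ofNat 0), (.ofNat 0), (.ofNat 0), (.ofNat 0), (.ofNat 0)]), ([9, 2, 6, 0, 6, 2, 4, 4, 8, 5, 6, 4, 6, 3, 7, 4, 7, 2, 6, 6], [(.ofNat 0), (.ofNat 0), (.ofNat 0), (.ofNat 0), (.ofNat 0), (.ofNat 0)]), ([9, 2, 4, 6, 5, 6, 4, 4, 8, 1, 3, 7, 2, 1, 7, 0, 5, 7, 4], [(.ofNat 0), (.ofNat 0), (.ofNat 0), (.ofNat 0), (.ofNat 0), (.ofNat 0)]), ([9, 4, 0, 7, 4, 6, 6, 4, 8, 7, 1, 7, 0, 6, 0, 5, 7, 5, 3, 0], [(.ofNat 0), (.ofNat 0), (.ofNat 0), (.ofNat 0), (.ofNat 0), (.ofNat 0)]), ([9, 0, 4, 6, 2, 0, 7, 4, 8, 7, 5, 2, 1, 6, 0, 0, 7, 3, 7, 5], [(.ofNat 0), (.ofNat 0), (.ofNat 0), (.ofNat 0), (.ofNat 0), (.ofNat 0)]), ([9, 1, 4, 1, 7, 2, 7, 4, 8, 2, 6, 1, 2, 1, 7, 5, 2, 7, 1, 3], [(.ofNat 0), (.ofNat 0), (.ofNat 0), (.ofNat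 0), (.ofNat 0), (.ofNat 0)]), ([9, 7, 4, 4, 0, 4, 7, 4, 8, 7, 1, 5, 3, 4, 3, 0, 4, 6, 2, 1], [(.ofNat 0), (.ofNat 0), (.ofNat 0), (.ofNat 0), (.ofNat 0), (.ofNat 0)]), ([9, 3, 6, 4, 0, 3, 0, 5, 8, 6, 1, 2, 7, 5, 2, 4, 0, 4, 4, 6], [(.ofNat 0), (.ofNat 0), (.ofNat 0), (.ofNat 0), (.ofNat 0), (.ofNat 0)]), ([9, 0, 6, 2, 4, 3, 0, 5, 8, 0, 7, 2, 1, 6, 1, 5, 1, 4, 1, 6], [(.ofNat 0), (.ofNat 0), (.ofNat 0), (.ofNat 0), (.ofNat 0), (.ofNat 0)]), ([9, 7, 4, 4, 6, 1, 1, 5, 8, 6, 4, 4, 2, 1, 4, 2, 5, 5, 0, 6], [(.ofNat 0), (.ofNat 0), (.ofNat 0), (.ofNat 0), (.ofNat 0), (.ofNat 0)]), ([9, 2, 6, 0, 6, 2, 1, 5, 8, 5, 2, 5, 0, 0, 4, 6, 4, 7, 2, 1], [(.ofNat 0), (.ofNat 0), (.ofNat 0), (.ofNat 0), (.ofNat 0), (.ofNat 0)]), ([9,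 2, 4, 6, 5, 6, 1, 5, 8, 7, 7, 7, 4, 0, 4, 2, 5, 2, 1, 2], [(.ofNat 0), (.ofNat 0), (.ofNat 0), (.ofNat 0), (.ofNat 0), (.ofNat 0)]), ([9, 5, 7, 7, 5, 6, 1, 5, 8, 1, 3, 4, 0, 6, 0, 0, 7, 7, 2, 7], [(.ofNat 0), (.ofNat 0), (.ofNat 0), (.ofNat 0), (.ofNat 0), (.ofNat 0)]), ([9, 6, 4, 6, 0, 0, 2, 5, 8, 3, 6, 3, 1, 5, 2, 2, 7, 2, 5, 7], [(.ofNat 0), (.ofNat 0), (.ofNat 0), (.ofNat 0), (.ofNat 0), (.ofNat 0)]), ([9, 4, 6, 3, 1, 1, 2, 5, 8, 5, 1, 1, 5, 5, 6, 0, 3, 4, 4, 2], [(.ofNat 0), (.ofNat 0), (.ofNat 0), (.ofNat 0), (.ofNat 0), (.ofNat 0)]), ([9, 5, 1, 1, 7, 1, 2, 5, 8, 4, 2, 5, 0, 6, 1, 1, 3, 1, 6, 5], [(.ofNat 0), (.ofNat 0), (.ofNat 0), (.ofNat 0), (.ofNat 0), (.ofNat 0)]), ([9, 6, 6, 0, 0, 5, 2, 5, 8, 5, 6, 1,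 3, 4, 1, 4, 4, 6, 4], [(.ofNat 0), (.ofNat 0), (.ofNat 0), (.ofNat 0), (.ofNat 0), (.ofNat 0)]), ([9, 1, 4, 7, 2, 5, 2, 5, 8, 4, 1, 7, 7, 3, 6, 1, 3, 1, 4], [(.ofNat 0), (.ofNat 0), (.ofNat 0), (.ofNat 0), (.ofNat 0), (.ofNat 0)]), ([9, 1, 4, 7, 3, 7, 2, 5, 8, 7, 7, 5, 3, 4, 7, 0, 7, 1, 6], [(.ofNat 0), (.ofNat 0), (.ofNat 0), (.ofNat 0), (.ofNat 0), (.ofNat 0)]), ([9, 4, 6, 3, 4, 7, 2, 5, 8, 1, 6, 1, 4, 6, 4, 7, 2, 4, 0, 6], [(.ofNat 0), (.ofNat 0), (.ofNat 0), (.ofNat 0), (.ofNat 0), (.ofNat 0)]), ([9, 1, 6, 0, 6, 0, 3, 5, 8, 2, 7, 2, 1, 7, 4, 3, 7, 2, 4, 0], [(.ofNat 0), (.ofNat 0), (.ofNat 0), (.ofNat 0), (.ofNat 0), (.ofNat 0)]), ([9, 7, 3, 1, 6, 0, 3, 5, 8, 6, 5, 0, 3, 0, 7, 0, 6, 3, 0, 0], [(.ofNat 0), (.ofNat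 0), (.ofNat 0), (.ofNat 0), (.ofNat 0), (.ofNat 0)]), ([9, 6, 5, 0, 4, 1, 3, 5, 8, 0, 2, 5, 1, 7, 2, 0, 5, 3, 3, 1], [(.ofNat 0), (.ofNat 0), (.ofNat 0), (.ofNat 0), (.ofNat 0), (.ofNat 0)]), ([9, 7, 5, 7, 4, 3, 3, 5, 8, 2, 6, 0, 0, 4, 1, 5, 7, 7, 3, 3], [(.ofNat 0), (.ofNat 0), (.ofNat 0), (.ofNat 0), (.ofNat 0), (.ofNat 0)]), ([9, 6, 4, 1, 5, 3, 3, 5, 8, 0, 0, 2, 6, 4, 3, 0, 5, 5], [(.ofNat 0), (.ofNat 0), (.ofNat 0), (.ofNat 0), (.ofNat 0), (.ofNat 0)]), ([9, 1, 4, 0, 6, 6, 5, 5, 8, 1, 4, 0, 2, 6, 5, 2, 5, 7], [(.ofNat 0), (.ofNat 0), (.ofNat 0), (.ofNat 0), (.ofNat 0), (.ofNat 0)]), ([9, 3, 1, 3, 0, 0, 6, 5, 8, 0, 7, 7, 5, 7, 5, 2, 1, 5, 5, 2], [(.ofNat 0), (.ofNat 0), (.ofNat 0), (.ofNat 0), (.ofNat 0), (.ofNat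 0)]), ([9, 5, 3, 3, 3, 1, 6, 5, 8, 3, 7, 4, 3, 7, 5, 6, 3, 3, 3], [(.ofNat 0), (.ofNat 0), (.ofNat 0), (.ofNat 0), (.ofNat 0), (.ofNat 0)]), ([9, 3, 6, 4, 0, 4, 6, 5, 8, 1, 3, 4, 2, 4, 7, 7, 5, 1, 7, 3], [(.ofNat 0), (.ofNat 0), (.ofNat 0), (.ofNat 0), (.ofNat 0), (.ofNat 0)]), ([9, 7, 4, 7, 2, 4, 6, 5, 8, 6, 4, 3, 5, 5, 6, 6, 3, 5], [(.ofNat 0), (.ofNat 0), (.ofNat 0), (.ofNat 0), (.ofNat 0), (.ofNat 0)]), ([9, 0, 6, 2, 4, 4, 6, 5, 8, 7, 3, 7, 1, 1, 6, 6, 3, 6, 1, 3], [(.ofNat 0), (.ofNat 0), (.ofNat 0), (.ofNat 0), (.ofNat 0), (.ofNat 0)]), ([9, 3, 0, 5, 1, 5, 6, 5, 8, 0, 5, 7, 3, 7, 7, 0, 0, 3, 1], [(.ofNat 0), (.ofNat 0), (.ofNat 0), (.ofNat 0), (.ofNat 0), (.ofNat 0)]), ([9, 3, 0, 0, 2, 6, 6, 5, 8, 1, 3, 3,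 4, 3, 0, 7, 7, 0, 0], [(.ofNat 0), (.ofNat 0), (.ofNat 0), (.ofNat 0), (.ofNat 0), (.ofNat 0)]), ([9, 0, 2, 1, 3, 6, 6, 5, 8, 0, 2, 7, 5, 3, 0, 5, 7, 3], [(.ofNat 0), (.ofNat 0), (.ofNat 0), (.ofNat 0), (.ofNat 0), (.ofNat 0)]), ([9, 3, 0, 0, 3, 1, 7, 5, 8, 1, 1, 7, 7, 0, 3, 7, 2, 6, 5, 6, 4], [(.ofNat 0), (.ofNat 0), (.ofNat 0), (.ofNat 0), (.ofNat 0), (.ofNat 0)]), ([9, 4, 3, 0, 0, 2, 7, 5, 8, 3, 7, 2, 1, 2, 0, 0, 4, 3, 6, 2], [(.ofNat 0), (.ofNat 0), (.ofNat 0), (.ofNat 0), (.ofNat 0), (.ofNat 0)]), ([9, 6, 6, 6, 4, 2, 7, 5, 8, 4, 2, 7, 1, 6, 6, 1], [(.ofNat 0), (.ofNat 0), (.ofNat 0), (.ofNat 0), (.ofNat 0), (.ofNat 0)]), ([9, 4, 3, 6, 5, 2, 7, 5, 8, 4, 0, 3, 1, 6, 5, 2, 6, 3, 3, 0], [(.ofNat 0), (.ofNat 0),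 (.ofNat 0), (.ofNat 0), (.ofNat 0), (.ofNat 0)]), ([9, 2, 4, 7, 7, 2, 7, 5, 8, 7, 0, 4, 4, 7, 3, 0, 3, 3, 4], [(.ofNat 0), (.ofNat 0), (.ofNat 0), (.ofNat 0), (.ofNat 0), (.ofNat 0)]), ([9, 6, 5, 3, 0, 3, 7, 5, 8, 1, 1, 6, 6, 6, 1, 1, 3, 7, 5, 5], [(.ofNat 0), (.ofNat 0), (.ofNat 0), (.ofNat 0), (.ofNat 0), (.ofNat 0)]), ([9, 1, 2, 7, 4, 3, 7, 5, 8, 3, 5, 0, 5, 1, 4, 4, 1, 7, 5], [(.ofNat 0), (.ofNat 0), (.ofNat 0), (.ofNat 0), (.ofNat 0), (.ofNat 0)]), ([9, 6, 3, 0, 5, 5, 7, 5, 8, 4, 6, 1, 2, 2, 7, 0, 0, 7, 0, 6], [(.ofNat 0), (.ofNat 0), (.ofNat 0), (.ofNat 0), (.ofNat 0), (.ofNat 0)]), ([9, 2, 4, 7, 1, 7, 7, 5, 8, 6, 5, 1, 4, 1, 3, 1, 6, 6, 3], [(.ofNat 0), (.ofNat 0), (.ofNat 0), (.ofNat 0), (.ofNat 0), (.ofNat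 0)]), ([9, 2, 5, 3, 6, 3, 0, 6, 8, 5, 0, 7, 0, 5, 1, 6, 5, 0], [(.ofNat 0), (.ofNat 0), (.ofNat 0), (.ofNat 0), (.ofNat 0), (.ofNat 0)]), ([9, 3, 7, 3, 7, 3, 0, 6, 8, 0, 7, 0, 3, 1, 3, 3, 1, 7, 0, 0], [(.ofNat 0), (.ofNat 0), (.ofNat 0), (.ofNat 0), (.ofNat 0), (.ofNat 0)]), ([9, 5, 0, 3, 5, 7, 0, 6, 8, 6, 6, 5, 0, 2, 2, 0, 5, 7, 0, 4], [(.ofNat 0), (.ofNat 0), (.ofNat 0), (.ofNat 0), (.ofNat 0), (.ofNat 0)]), ([9, 5, 3, 6, 4, 2, 1, 6, 8, 3, 5, 1, 3, 5, 5, 0, 2, 5, 7], [(.ofNat 0), (.ofNat 0), (.ofNat 0), (.ofNat 0), (.ofNat 0), (.ofNat 0)]), ([9, 6, 5, 7, 7, 5, 1, 6, 8, 2, 6, 0, 2, 7, 4, 4, 7, 1, 1, 7], [(.ofNat 0), (.ofNat 0), (.ofNat 0), (.ofNat 0), (.ofNat 0), (.ofNat 0)]), ([9, 7, 4, 4, 2, 6, 1, 6, 8, 1, 6,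 0, 5, 0, 2, 4, 3, 3, 6, 1, 3], [(.ofNat 0), (.ofNat 0), (.ofNat 0), (.ofNat 0), (.ofNat 0), (.ofNat 0)]), ([9, 4, 2, 1, 7, 0, 2, 6, 8, 6, 3, 6, 3, 3, 3, 1, 4, 0, 2, 7], [(.ofNat 0), (.ofNat 0), (.ofNat 0), (.ofNat 0), (.ofNat 0), (.ofNat 0)]), ([9, 5, 2, 5, 7, 0, 2, 6, 8, 4, 7, 7, 0, 6, 5, 1, 4, 2], [(.ofNat 0), (.ofNat 0), (.ofNat 0), (.ofNat 0), (.ofNat 0), (.ofNat 0)]), ([9, 1, 5, 6, 1, 4, 2, 6, 8, 6, 3, 4, 1, 2, 0, 6, 1, 1, 6, 0], [(.ofNat 0), (.ofNat 0), (.ofNat 0), (.ofNat 0), (.ofNat 0), (.ofNat 0)]), ([9, 1, 4, 2, 6, 5, 2, 6, 8, 4, 7, 2, 1, 4, 7, 1, 5], [(.ofNat 0), (.ofNat 0), (.ofNat 0), (.ofNat 0), (.ofNat 0), (.ofNat 0)]), ([9, 7, 5, 7, 1, 7, 2, 6, 8, 6, 6, 3, 0, 0, 7, 7, 1, 1, 5, 3], [(.ofNat 0), (.ofNat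 0), (.ofNat 0), (.ofNat 0), (.ofNat 0), (.ofNat 0)]), ([9, 3, 7, 7, 4, 3, 3, 6, 8, 7, 4, 7, 0, 2, 2, 4, 7, 7, 7], [(.ofNat 0), (.ofNat 0), (.ofNat 0), (.ofNat 0), (.ofNat 0), (.ofNat 0)]), ([9, 1, 2, 2, 0, 6, 3, 6, 8, 3, 1, 6, 2, 5, 5, 2, 1, 7, 7, 7], [(.ofNat 0), (.ofNat 0), (.ofNat 0), (.ofNat 0), (.ofNat 0), (.ofNat 0)]), ([9, 7, 5, 7, 0, 6, 3, 6, 8, 4, 2, 6, 2, 0, 4, 1, 6, 2, 6, 1], [(.ofNat 0), (.ofNat 0), (.ofNat 0), (.ofNat 0), (.ofNat 0), (.ofNat 0)]), ([9, 0, 5, 2, 2, 6, 3, 6, 8, 2, 4, 6, 6, 4, 0, 2, 1, 4, 1, 3], [(.ofNat 0), (.ofNat 0), (.ofNat 0), (.ofNat 0), (.ofNat 0), (.ofNat 0)]), ([9, 0, 3, 5, 3, 6, 3, 6, 8, 4, 7, 3, 5, 0, 3, 4, 2, 7, 5], [(.ofNat 0), (.ofNat 0), (.ofNat 0), (.ofNat 0), (.ofNat 0),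 (.ofNat 0)]), ([9, 2, 0, 5, 5, 6, 3, 6, 8, 7, 4, 0, 0, 4, 7, 7, 1, 7, 2], [(.ofNat 0), (.ofNat 0), (.ofNat 0), (.ofNat 0), (.ofNat 0), (.ofNat 0)]), ([9, 2, 0, 0, 6, 6, 3, 6, 8, 5, 5, 0, 0, 3, 6, 5, 2, 5, 6, 6], [(.ofNat 0), (.ofNat 0), (.ofNat 0), (.ofNat 0), (.ofNat 0), (.ofNat 0)]), ([9, 1, 7, 0, 5, 3, 4, 6, 8, 2, 0, 2, 0, 4, 7, 1, 6, 6, 5, 5], [(.ofNat 0), (.ofNat 0), (.ofNat 0), (.ofNat 0), (.ofNat 0), (.ofNat 0)]), ([9, 7, 3, 6, 0, 6, 4, 6, 8, 2, 4, 0, 0, 6, 6, 1, 1, 2, 7, 7], [(.ofNat 0), (.ofNat 0), (.ofNat 0), (.ofNat 0), (.ofNat 0), (.ofNat 0)]), ([9, 7, 2, 7, 1, 6, 4, 6, 8, 0, 7, 3, 7, 0, 5, 1, 3, 7, 3, 5], [(.ofNat 0), (.ofNat 0), (.ofNat 0), (.ofNat 0), (.ofNat 0), (.ofNat 0)]), ([9, 4, 2, 2, 5, 6, 4,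 6, 8, 0, 6, 3, 3, 5, 6, 5, 1, 3, 5, 1], [(.ofNat 0), (.ofNat 0), (.ofNat 0), (.ofNat 0), (.ofNat 0), (.ofNat 0)]), ([9, 5, 6, 5, 1, 5, 5, 6, 8, 3, 5, 0, 2, 1, 3, 4, 4, 7, 2, 6], [(.ofNat 0), (.ofNat 0), (.ofNat 0), (.ofNat 0), (.ofNat 0), (.ofNat 0)]), ([9, 7, 0, 7, 3, 5, 5, 6, 8, 0, 4, 6, 2, 0, 5, 6, 6, 0, 5, 5, 1], [(.ofNat 0), (.ofNat 0), (.ofNat 0), (.ofNat 0), (.ofNat 0), (.ofNat 0)]), ([9, 4, 0, 0, 7, 5, 5, 6, 8, 1, 2, 2, 4, 1, 6, 1, 5, 3, 6, 4], [(.ofNat 0), (.ofNat 0), (.ofNat 0), (.ofNat 0), (.ofNat 0), (.ofNat 0)]), ([9, 6, 4, 7, 0, 6, 5, 6, 8, 7, 3, 0, 0, 6, 4, 3, 7, 5, 2, 4], [(.ofNat 0), (.ofNat 0), (.ofNat 0), (.ofNat 0), (.ofNat 0), (.ofNat 0)]), ([9, 5, 5, 1, 1, 6, 5, 6, 8, 4, 1, 7, 7, 1, 6, 3, 1,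 5, 2, 5], [(.ofNat 0), (.ofNat 0), (.ofNat 0), (.ofNat 0), (.ofNat 0), (.ofNat 0)]), ([9, 3, 7, 5, 2, 6, 5, 6, 8, 3, 4, 3, 1, 5, 7, 2, 4, 6, 1, 6], [(.ofNat 0), (.ofNat 0), (.ofNat 0), (.ofNat 0), (.ofNat 0), (.ofNat 0)]), ([9, 4, 7, 5, 3, 6, 5, 6, 8, 4, 2, 7, 7, 4, 4, 2, 5, 7], [(.ofNat 0), (.ofNat 0), (.ofNat 0), (.ofNat 0), (.ofNat 0), (.ofNat 0)]), ([9, 0, 0, 3, 0, 0, 6, 6, 8, 1, 2, 6, 6, 6, 1, 5, 3, 1], [(.ofNat 0), (.ofNat 0), (.ofNat 0), (.ofNat 0), (.ofNat 0), (.ofNat 0)]), ([9, 3, 3, 4, 3, 1, 6, 6, 8, 6, 6, 4, 0, 7, 4, 6, 3, 0, 0, 0], [(.ofNat 0), (.ofNat 0), (.ofNat 0), (.ofNat 0), (.ofNat 0), (.ofNat 0)]), ([9, 5, 3, 1, 5, 2, 6, 6, 8, 7, 7, 7, 3, 4, 0, 2, 4, 6], [(.ofNat 0), (.ofNat 0), (.ofNat 0), (.ofNat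 0), (.ofNat 0), (.ofNat 0)]), ([9, 2, 0, 2, 0, 3, 6, 6, 8, 6, 4, 4, 1, 4, 2, 1, 6, 2, 5, 2], [(.ofNat 0), (.ofNat 0), (.ofNat 0), (.ofNat 0), (.ofNat 0), (.ofNat 0)]), ([9, 5, 0, 4, 3, 5, 6, 6, 8, 5, 3, 4, 6, 1, 7, 0, 7, 2, 7, 7, 1], [(.ofNat 0), (.ofNat 0), (.ofNat 0), (.ofNat 0), (.ofNat 0), (.ofNat 0)]), ([9, 1, 4, 3, 5, 0, 0, 7, 8, 4, 3, 0, 0, 3, 1, 2, 0, 3, 6], [(.ofNat 0), (.ofNat 0), (.ofNat 0), (.ofNat 0), (.ofNat 0), (.ofNat 0)]), ([9, 0, 0, 6, 5, 2, 0, 7, 8, 0, 4, 2, 2, 2, 5, 3, 6, 4, 1], [(.ofNat 0), (.ofNat 0), (.ofNat 0), (.ofNat 0), (.ofNat 0), (.ofNat 0)]), ([9, 6, 6, 1, 2, 5, 0, 7, 8, 4, 4, 0, 0, 2, 4, 3, 3, 0, 0, 7], [(.ofNat 0), (.ofNat 0), (.ofNat 0), (.ofNat 0), (.ofNat 0), (.ofNat 0)]), ([9,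 2, 7, 3, 1, 6, 0, 7, 8, 2, 0, 5, 3, 4, 6, 3, 1, 5, 7, 1], [(.ofNat 0), (.ofNat 0), (.ofNat 0), (.ofNat 0), (.ofNat 0), (.ofNat 0)]), ([9, 0, 4, 7, 5, 7, 0, 7, 8, 0, 7, 1, 3, 6, 3, 4, 6, 1, 2], [(.ofNat 0), (.ofNat 0), (.ofNat 0), (.ofNat 0), (.ofNat 0), (.ofNat 0)]), ([9, 2, 0, 3, 4, 1, 1, 7, 8, 2, 5, 2, 5, 0, 5, 1, 2, 6], [(.ofNat 0), (.ofNat 0), (.ofNat 0), (.ofNat 0), (.ofNat 0), (.ofNat 0)]), ([9, 2, 5, 2, 0, 2, 1, 7, 8, 4, 0, 3, 0, 3, 3, 4, 4, 1, 2, 6], [(.ofNat 0), (.ofNat 0), (.ofNat 0), (.ofNat 0), (.ofNat 0), (.ofNat 0)]), ([9, 3, 3, 3, 1, 3, 1, 7, 8, 3, 5, 0, 2, 1, 5, 1, 1, 2, 6], [(.ofNat 0), (.ofNat 0), (.ofNat 0), (.ofNat 0), (.ofNat 0), (.ofNat 0)]), ([9, 5, 2, 7, 5, 3, 1, 7, 8, 5, 6, 1, 1, 1, 6, 1,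 5, 3, 4, 3], [(.ofNat 0), (.ofNat 0), (.ofNat 0), (.ofNat 0), (.ofNat 0), (.ofNat 0)]), ([9, 3, 6, 2, 4, 4, 1, 7, 8, 4, 1, 7, 7, 1, 1, 4, 3, 1], [(.ofNat 0), (.ofNat 0), (.ofNat 0), (.ofNat 0), (.ofNat 0), (.ofNat 0)]), ([9, 5, 0, 5, 6, 5, 1, 7, 8, 7, 7, 0, 4, 3, 6, 4, 4, 6, 4, 1], [(.ofNat 0), (.ofNat 0), (.ofNat 0), (.ofNat 0), (.ofNat 0), (.ofNat 0)]), ([9, 0, 4, 1, 4, 1, 2, 7, 8, 0, 7, 3, 0, 0, 6, 1, 4, 4, 6, 0], [(.ofNat 0), (.ofNat 0), (.ofNat 0), (.ofNat 0), (.ofNat 0), (.ofNat 0)]), ([9, 4, 6, 4, 4, 1, 2, 7, 8, 7, 1, 6, 1, 1, 6, 3, 3, 0, 7, 5], [(.ofNat 0), (.ofNat 0), (.ofNat 0), (.ofNat 0), (.ofNat 0), (.ofNat 0)]), ([9, 3, 4, 0, 0, 5, 2, 7, 8, 4, 4, 0, 3, 4, 0, 5, 2, 5, 6], [(.ofNat 0), (.ofNat 0), (.ofNat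 0), (.ofNat 0), (.ofNat 0), (.ofNat 0)]), ([9, 3, 0, 6, 4, 0, 3, 7, 8, 0, 6, 5, 5, 1, 2, 2, 0, 4, 6, 0, 7], [(.ofNat 0), (.ofNat 0), (.ofNat 0), (.ofNat 0), (.ofNat 0), (.ofNat 0)]), ([9, 6, 5, 2, 7, 0, 3, 7, 8, 2, 0, 7, 0, 3, 1, 3, 3, 6, 6, 2], [(.ofNat 0), (.ofNat 0), (.ofNat 0), (.ofNat 0), (.ofNat 0), (.ofNat 0)]), ([9, 5, 0, 4, 7, 0, 3, 7, 8, 4, 7, 7, 5, 6, 5, 6, 4, 0, 7, 0], [(.ofNat 0), (.ofNat 0), (.ofNat 0), (.ofNat 0), (.ofNat 0), (.ofNat 0)]), ([9, 5, 2, 2, 1, 1, 3, 7, 8, 5, 5, 3, 4, 3, 4, 4, 3, 4, 6], [(.ofNat 0), (.ofNat 0), (.ofNat 0), (.ofNat 0), (.ofNat 0), (.ofNat 0)]), ([9, 0, 0, 6, 3, 1, 3, 7, 8, 7, 2, 2, 2, 5, 0, 4, 7, 3, 4], [(.ofNat 0), (.ofNat 0), (.ofNat 0), (.ofNat 0), (.ofNat 0), (.ofNat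 0)]), ([9, 0, 2, 4, 6, 4, 3, 7, 8, 5, 5, 1, 1, 4, 2, 0, 3, 4, 7], [(.ofNat 0), (.ofNat 0), (.ofNat 0), (.ofNat 0), (.ofNat 0), (.ofNat 0)]), ([9, 5, 1, 1, 1, 5, 3, 7, 8, 5, 1, 1, 7, 2, 4, 1, 5, 2, 4], [(.ofNat 0), (.ofNat 0), (.ofNat 0), (.ofNat 0), (.ofNat 0), (.ofNat 0)]), ([9, 2, 1, 6, 2, 7, 3, 7, 8, 0, 3, 1, 1, 1, 3, 6, 5, 0], [(.ofNat 0), (.ofNat 0), (.ofNat 0), (.ofNat 0), (.ofNat 0), (.ofNat 0)]), ([9, 5, 2, 0, 4, 7, 3, 7, 8, 1, 6, 5, 3, 4, 0, 5, 6, 4, 3, 1], [(.ofNat 0), (.ofNat 0), (.ofNat 0), (.ofNat 0), (.ofNat 0), (.ofNat 0)]), ([9, 1, 1, 2, 4, 0, 4, 7, 8, 5, 3, 3, 1, 4, 1, 5, 1, 6], [(.ofNat 0), (.ofNat 0), (.ofNat 0), (.ofNat 0), (.ofNat 0), (.ofNat 0)]), ([9, 5, 3, 3, 7, 0, 4, 7, 8, 0, 5, 2, 4, 4,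 2, 7, 0, 4, 1, 2], [(.ofNat 0), (.ofNat 0), (.ofNat 0), (.ofNat 0), (.ofNat 0), (.ofNat 0)]), ([9, 6, 6, 4, 3, 1, 4, 7, 8, 3, 4, 1, 4, 4, 0, 4, 0, 2, 7], [(.ofNat 0), (.ofNat 0), (.ofNat 0), (.ofNat 0), (.ofNat 0), (.ofNat 0)]), ([9, 1, 4, 3, 4, 1, 4, 7, 8, 0, 0, 0, 2, 4, 4, 2, 1, 3, 6], [(.ofNat 0), (.ofNat 0), (.ofNat 0), (.ofNat 0), (.ofNat 0), (.ofNat 0)]), ([9, 4, 2, 0, 5, 1, 4, 7, 8, 4, 7, 4, 0, 0, 2, 4, 4, 1, 3, 4], [(.ofNat 0), (.ofNat 0), (.ofNat 0), (.ofNat 0), (.ofNat 0), (.ofNat 0)]), ([9, 0, 0, 5, 6, 1, 4, 7, 8, 2, 1, 6, 1, 4, 3, 0, 0, 2, 1, 6], [(.ofNat 0), (.ofNat 0), (.ofNat 0), (.ofNat 0), (.ofNat 0), (.ofNat 0)]), ([9, 3, 7, 3, 0, 2, 4, 7, 8, 5, 7, 4, 4, 6, 6, 2, 7, 5, 6, 1], [(.ofNat 0), (.ofNat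 0), (.ofNat 0), (.ofNat 0), (.ofNat 0), (.ofNat 0)]), ([9, 4, 6, 2, 1, 2, 4, 7, 8, 4, 4, 6, 2, 0, 0, 7, 7, 7, 0, 0], [(.ofNat 0), (.ofNat 0), (.ofNat 0), (.ofNat 0), (.ofNat 0), (.ofNat 0)]), ([9, 6, 2, 1, 6, 3, 4, 7, 8, 4, 6, 5, 2, 7, 0, 4, 4, 2, 2, 1], [(.ofNat 0), (.ofNat 0), (.ofNat 0), (.ofNat 0), (.ofNat 0), (.ofNat 0)]), ([9, 0, 0, 2, 7, 3, 4, 7, 8, 6, 4, 4, 3, 6, 2, 5, 7, 7, 2, 4], [(.ofNat 0), (.ofNat 0), (.ofNat 0), (.ofNat 0), (.ofNat 0), (.ofNat 0)]), ([9, 2, 4, 3, 7, 3, 4, 7, 8, 0, 6, 5, 2, 7, 2, 0, 7, 5, 6], [(.ofNat 0), (.ofNat 0), (.ofNat 0), (.ofNat 0), (.ofNat 0), (.ofNat 0)]), ([9, 7, 0, 4, 6, 6, 4, 7, 8, 6, 0, 0, 6, 5, 5, 6, 3, 1, 7, 3], [(.ofNat 0), (.ofNat 0), (.ofNat 0), (.ofNat 0), (.ofNat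 0), (.ofNat 0)]), ([9, 1, 6, 0, 7, 7, 4, 7, 8, 0, 3, 3, 0, 0, 6, 5, 1, 1], [(.ofNat 0), (.ofNat 0), (.ofNat 0), (.ofNat 0), (.ofNat 0), (.ofNat 0)]), ([9, 4, 2, 2, 4, 0, 5, 7, 8, 4, 4, 1, 2, 5, 7, 3, 1, 1], [(.ofNat 0), (.ofNat 0), (.ofNat 0), (.ofNat 0), (.ofNat 0), (.ofNat 0)]), ([9, 6, 6, 6, 3, 1, 5, 7, 8, 0, 5, 7, 1, 5, 1, 4, 3, 7, 2, 7], [(.ofNat 0), (.ofNat 0), (.ofNat 0), (.ofNat 0), (.ofNat 0), (.ofNat 0)]), ([9, 3, 5, 2, 0, 3, 5, 7, 8, 5, 1, 3, 1, 2, 5, 2, 4, 0, 6], [(.ofNat 0), (.ofNat 0), (.ofNat 0), (.ofNat 0), (.ofNat 0), (.ofNat 0)]), ([9, 1, 2, 5, 0, 3, 5, 7, 8, 2, 4, 1, 2, 4, 3, 4, 0, 3, 3, 6], [(.ofNat 0), (.ofNat 0), (.ofNat 0), (.ofNat 0), (.ofNat 0), (.ofNat 0)]), ([9, 7, 4, 7, 1, 6, 5, 7, 8,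 0, 2, 0, 2, 4, 1, 4, 3, 0, 6, 5], [(.ofNat 0), (.ofNat 0), (.ofNat 0), (.ofNat 0), (.ofNat 0), (.ofNat 0)]), ([9, 3, 7, 2, 2, 6, 5, 7, 8, 1, 5, 2, 1, 1, 7, 2, 2, 2, 0], [(.ofNat 0), (.ofNat 0), (.ofNat 0), (.ofNat 0), (.ofNat 0), (.ofNat 0)]), ([9, 4, 3, 1, 1, 7, 5, 7, 8, 3, 0, 4, 4, 7, 1, 4, 0, 7, 0, 4], [(.ofNat 0), (.ofNat 0), (.ofNat 0), (.ofNat 0), (.ofNat 0), (.ofNat 0)]), ([9, 6, 1, 4, 3, 0, 7, 7, 8, 6, 4, 3, 0, 5, 1, 1, 2, 4, 1, 2], [(.ofNat 0), (.ofNat 0), (.ofNat 0), (.ofNat 0), (.ofNat 0), (.ofNat 0)]), ([9, 4, 3, 4, 1, 1, 7, 7, 8, 6, 0, 0, 3, 0, 2, 2, 4, 3, 6], [(.ofNat 0), (.ofNat 0), (.ofNat 0), (.ofNat 0), (.ofNat 0), (.ofNat 0)]), ([9, 3, 1, 4, 4, 2, 7, 7, 8, 4, 6, 4, 0, 2, 6, 6, 0, 0, 0, 3], [(.ofNat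 0), (.ofNat 0), (.ofNat 0), (.ofNat 0), (.ofNat 0), (.ofNat 0)]), ([9, 3, 6, 0, 5, 2, 7, 7, 8, 4, 3, 6, 0, 6, 1, 2, 1, 5, 6, 0], [(.ofNat 0), (.ofNat 0), (.ofNat 0), (.ofNat 0), (.ofNat 0), (.ofNat 0)]), ([9, 1, 4, 7, 2, 4, 7, 7, 8, 5, 6, 3, 1, 2, 0, 6, 6, 3, 3], [(.ofNat 0), (.ofNat 0), (.ofNat 0), (.ofNat 0), (.ofNat 0), (.ofNat 0)]), ([9, 3, 4, 3, 0, 5, 7, 7, 8, 2, 2, 0, 0, 2, 7, 1, 5, 2, 2], [(.ofNat 0), (.ofNat 0), (.ofNat 0), (.ofNat 0), (.ofNat 0), (.ofNat 0)]), ([9, 6, 5, 0, 2, 5, 7, 7, 8, 6, 3, 1, 5, 1, 5, 5, 0, 5, 2], [(.ofNat 0), (.ofNat 0), (.ofNat 0), (.ofNat 0), (.ofNat 0), (.ofNat 0)]), ([9, 6, 4, 0, 2, 7, 7, 7, 8, 6, 6, 0, 2, 1, 2, 5, 3, 1, 1, 4], [(.ofNat 0), (.ofNat 0), (.ofNat 0), (.ofNat 0), (.ofNat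 0), (.ofNat 0)]), ([9, 2, 7, 7, 3, 7, 7, 7, 8, 4, 0, 5, 7, 4, 3, 5, 2, 7, 7], [(.ofNat 0), (.ofNat 0), (.ofNat 0), (.ofNat 0), (.ofNat 0), (.ofNat 0)]), ([9, 4, 6, 3, 5, 7, 7, 7, 8, 0, 7, 7, 0, 6, 3, 5], [(.ofNat 0), (.ofNat 0), (.ofNat 0), (.ofNat 0), (.ofNat 0), (.ofNat 0)]), ([9, 5, 3, 4, 7, 7, 7, 7, 8, 6, 2, 4, 4, 0, 2, 7, 1, 7, 7, 4], [(.ofNat 0), (.ofNat 0), (.ofNat 0), (.ofNat 0), (.ofNat 0), (.ofNat 0)]), ([9, 1, 2, 7, 7, 7, 7, 7, 8, 1, 3, 0, 0, 7, 2, 6, 3, 5, 5, 3], [(.ofNat 0), (.ofNat 0), (.ofNat 0), (.ofNat 0), (.ofNat 0), (.ofNat 0)]), ([0, 1], [(.ofNat 0), (.ofNat 0), (.ofNat 0), (.ofNat 0), (.ofNat 0), (.ofNat 0)]), ([1, 0], [(.ofNat 0), (.ofNat 0), (.ofNat 0), (.ofNat 0), (.ofNat 0), (.ofNat 0)]),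 ([2, 3], [(.ofNat 0), (.ofNat 0), (.ofNat 0), (.ofNat 0), (.ofNat 0), (.ofNat 0)]), ([3, 2], [(.ofNat 0), (.ofNat 0), (.ofNat 0), (.ofNat 0), (.ofNat 0), (.ofNat 0)]), ([4, 5], [(.ofNat 0), (.ofNat 0), (.ofNat 0), (.ofNat 0), (.ofNat 0), (.ofNat 0)]), ([5, 4], [(.ofNat 0), (.ofNat 0), (.ofNat 0), (.ofNat 0), (.ofNat 0), (.ofNat 0)]), ([6, 7], [(.ofNat 0), (.ofNat 0), (.ofNat 0), (.ofNat 0), (.ofNat 0), (.ofNat 0)]), ([7, 6], [(.ofNat 0), (.ofNat 0), (.ofNat 0), (.ofNat 0), (.ofNat 0), (.ofNat 0)]), ([8, 9], [(.ofNat 0), (.ofNat 0), (.ofNat 0), (.ofNat 0), (.ofNat 0), (.ofNat 0)]), ([9, 8], [(.ofNat 0), (.ofNat 0), (.ofNat 0), (.ofNat 0), (.ofNat 0), (.ofNat 0)]), ([6, 9, 6, 9], [(.ofNat 1), (.ofNat 0), (.ofNat 0),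 (.ofNat 0), (.ofNat 0), (.ofNat 0)]), ([6, 6, 9, 7, 8, 8, 7, 9], [(.ofNat 0), (.ofNat 1), (.ofNat 0), (.ofNat 0), (.ofNat 0), (.ofNat 0)]), ([0, 8, 0, 8, 0, 8, 0, 8, 0, 8, 0, 8], [(.ofNat 0), (.ofNat 0), (.ofNat 1), (.ofNat 0), (.ofNat 0), (.ofNat 0)]), ([6, 6, 6, 9, 9, 7, 8, 6, 8, 7, 9, 9], [(.ofNat 0), (.ofNat 0), (.ofNat 0), (.ofNat 1), (.ofNat 0), (.ofNat 0)]), ([6, 6, 6, 6, 9, 7, 7, 7, 8, 6, 6, 8, 7, 7, 7, 9], [(.ofNat 0), (.ofNat 0), (.ofNat 0), (.ofNat 0), (.ofNat 1), (.ofNat 0)]), ([0, 2, 7, 5, 8, 5, 5, 0, 3, 9, 9, 0, 7, 0, 6, 3], [(.ofNat 0), (.ofNat 0), (.ofNat 0), (.ofNat 0), (.ofNat 0), (.ofNat 1)])]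

theorem words_mem : ∀ v ∈ words.toList, (v.2 = true → v.1 ∈ relL) ∧ (v.2 = false → v.1 ∈ subL) := by
  decide +kernel

/-- the seed words are in the seed list -/
noncomputable def seedChk (w : ℕ) : Bool :=
  match WT.get words w with
  | some (wd, true) => decide ((wd, Ev w) ∈ seedL)
  | _ => true

theorem seed_mem : ∀ w < 552, seedChk w = true := by
  decide +kernel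

end Cfsg.Agent.Lib.H6.Co2M.CA
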