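import Cfsg.Agent.Lib.H6.Co2M.CA.StepsA
import Cfsg.Agent.Lib.H6.Co2M.CA.StepsB
import Cfsg.Agent.Lib.H6.Co2M.CA.StepsC
import Cfsg.Agent.Lib.H6.Co2M.CA.StepsD
import Cfsg.Agent.Lib.H6.Co2M.CA.StepsE

set_option autoImplicit false
set_option maxRecDepth 100000
set_option Elab.async false

/-! # Running the monomial certificate (generated) -/

namespace Cfsg.Agent.Lib.H6.Co2M.CA

open Cfsg.Agent.Lib.H17.CosetCert (BT WT)
open Cfsg.Agent.Lib.H17.MonoCert

variable {G Q A : Type*} [Group G] [MulAction G Q] [Group A] [MulAction A Q]
  [SMulCommClass G A Q] (tw : List ℤ → A) (γ : ℕ → G)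

theorem run (hfree : ∀ (α β : A) (q : Q), α • q = β • q → α = β)
    (htw : TwOK ladd (List.replicate 6 0) leq tw) (q0 : Q) (hw : WordsOK Ev tw γ q0 words 552) :
    Inv F Ev tw γ q0 words 113757 47104 562 := by
  have h0 := inv_zero F Ev tw γ q0 words 552 hw
  have h1 := checkSteps_sound ladd (List.replicate 6 0) leq F Ev 10 1048576 tw γ hfree htw q0 words 552 hw steps0 0 1 552 1500 725 552 h0 chk0
  have h2 := checkSteps_sound ladd (List.replicate 6 0) leq F Ev 10 1048576 tw γ hfree htw q0 words 552 hw steps1 1500 725 552 3000 1434 552 h1 chk1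
  have h3 := checkSteps_sound ladd (List.replicate 6 0) leq F Ev 10 1048576 tw γ hfree htw q0 words 552 hw steps2 3000 1434 552 4500 2178 552 h2 chk2
  have h4 := checkSteps_sound ladd (List.replicate 6 0) leq F Ev 10 1048576 tw γ hfree htw q0 words 552 hw steps3 4500 2178 552 6000 2924 552 h3 chk3
  have h5 := checkSteps_sound ladd (List.replicate 6 0) leq F Ev 10 1048576 tw γ hfree htw q0 words 552 hw steps4 6000 2924 552 7500 3672 552 h4 chk4
  have h6 := checkSteps_sound ladd (List.replicate 6 0) leq F Ev 10 1048576 tw γ hfree htw q0 words 552 hw steps5 7500 3672 552 9000 4419 552 h5 chk5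
  have h7 := checkSteps_sound ladd (List.replicate 6 0) leq F Ev 10 1048576 tw γ hfree htw q0 words 552 hw steps6 9000 4419 552 10500 5160 552 h6 chk6
  have h8 := checkSteps_sound ladd (List.replicate 6 0) leq F Ev 10 1048576 tw γ hfree htw q0 words 552 hw steps7 10500 5160 552 12000 5907 552 h7 chk7
  have h9 := checkSteps_sound ladd (List.replicate 6 0) leq F Ev 10 1048576 tw γ hfree htw q0 words 552 hw steps8 12000 5907 552 13500 6650 552 h8 chk8
  have h10 := checkSteps_sound ladd (List.replicate 6 0) leq F Ev 10 1048576 tw γ hfree htw q0 words 552 hw steps9 13500 6650 552 15000 7396 552 h9 chk9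
  have h11 := checkSteps_sound ladd (List.replicate 6 0) leq F Ev 10 1048576 tw γ hfree htw q0 words 552 hw steps10 15000 7396 552 16500 8142 552 h10 chk10
  have h12 := checkSteps_sound ladd (List.replicate 6 0) leq F Ev 10 1048576 tw γ hfree htw q0 words 552 hw steps11 16500 8142 552 18000 8885 552 h11 chk11
  have h13 := checkSteps_sound ladd (List.replicate 6 0) leq F Ev 10 1048576 tw γ hfree htw q0 words 552 hw steps12 18000 8885 552 19500 9630 552 h12 chk12
  have h14 := checkSteps_sound ladd (List.replicate 6 0) leq F Ev 10 1048576 tw γ hfree htw q0 words 552 hw steps13 19500 9630 552 21000 10372 552 h13 chk13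
  have h15 := checkSteps_sound ladd (List.replicate 6 0) leq F Ev 10 1048576 tw γ hfree htw q0 words 552 hw steps14 21000 10372 552 22500 11116 552 h14 chk14
  have h16 := checkSteps_sound ladd (List.replicate 6 0) leq F Ev 10 1048576 tw γ hfree htw q0 words 552 hw steps15 22500 11116 552 24000 11859 552 h15 chk15
  have h17 := checkSteps_sound ladd (List.replicate 6 0) leq F Ev 10 1048576 tw γ hfree htw q0 words 552 hw steps16 24000 11859 552 25500 12607 552 h16 chk16
  have h18 := checkSteps_sound ladd (List.replicate 6 0) leq F Ev 10 1048576 tw γ hfree htw q0 words 552 hw steps17 25500 12607 552 27000 13354 552 h17 chk17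
  have h19 := checkSteps_sound ladd (List.replicate 6 0) leq F Ev 10 1048576 tw γ hfree htw q0 words 552 hw steps18 27000 13354 552 28500 14102 552 h18 chk18
  have h20 := checkSteps_sound ladd (List.replicate 6 0) leq F Ev 10 1048576 tw γ hfree htw q0 words 552 hw steps19 28500 14102 552 30000 14847 552 h19 chk19
  have h21 := checkSteps_sound ladd (List.replicate 6 0) leq F Ev 10 1048576 tw γ hfree htw q0 words 552 hw steps20 30000 14847 552 31500 15597 552 h20 chk20
  have h22 := checkSteps_sound ladd (List.replicate 6 0) leq F Ev 10 1048576 tw γ hfree htw q0 words 552 hw steps21 31500 15597 552 33000 16341 552 h21 chk21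
  have h23 := checkSteps_sound ladd (List.replicate 6 0) leq F Ev 10 1048576 tw γ hfree htw q0 words 552 hw steps22 33000 16341 552 34500 17090 552 h22 chk22
  have h24 := checkSteps_sound ladd (List.replicate 6 0) leq F Ev 10 1048576 tw γ hfree htw q0 words 552 hw steps23 34500 17090 552 36000 17840 552 h23 chk23
  have h25 := checkSteps_sound ladd (List.replicate 6 0) leq F Ev 10 1048576 tw γ hfree htw q0 words 552 hw steps24 36000 17840 552 37500 18586 552 h24 chk24
  have h26 := checkSteps_sound ladd (List.replicate 6 0) leq F Ev 10 1048576 tw γ hfree htw q0 words 552 hw steps25 37500 18586 552 39000 19331 552 h25 chk25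
  have h27 := checkSteps_sound ladd (List.replicate 6 0) leq F Ev 10 1048576 tw γ hfree htw q0 words 552 hw steps26 39000 19331 552 40500 20079 552 h26 chk26
  have h28 := checkSteps_sound ladd (List.replicate 6 0) leq F Ev 10 1048576 tw γ hfree htw q0 words 552 hw steps27 40500 20079 552 42000 20824 552 h27 chk27
  have h29 := checkSteps_sound ladd (List.replicate 6 0) leq F Ev 10 1048576 tw γ hfree htw q0 words 552 hw steps28 42000 20824 552 43500 21571 552 h28 chk28
  have h30 := checkSteps_sound ladd (List.replicate 6 0) leq F Ev 10 1048576 tw γ hfree htw q0 words 552 hw steps29 43500 21571 552 45000 22317 552 h29 chk29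
  have h31 := checkSteps_sound ladd (List.replicate 6 0) leq F Ev 10 1048576 tw γ hfree htw q0 words 552 hw steps30 45000 22317 552 46500 23063 552 h30 chk30
  have h32 := checkSteps_sound ladd (List.replicate 6 0) leq F Ev 10 1048576 tw γ hfree htw q0 words 552 hw steps31 46500 23063 552 48000 23812 552 h31 chk31
  have h33 := checkSteps_sound ladd (List.replicate 6 0) leq F Ev 10 1048576 tw γ hfree htw q0 words 552 hw steps32 48000 23812 552 49500 24557 552 h32 chk32
  have h34 := checkSteps_sound ladd (List.replicate 6 0) leq F Ev 10 1048576 tw γ hfree htw q0 words 552 hw steps33 49500 24557 552 51000 25304 552 h33 chk33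
  have h35 := checkSteps_sound ladd (List.replicate 6 0) leq F Ev 10 1048576 tw γ hfree htw q0 words 552 hw steps34 51000 25304 552 52500 26049 552 h34 chk34
  have h36 := checkSteps_sound ladd (List.replicate 6 0) leq F Ev 10 1048576 tw γ hfree htw q0 words 552 hw steps35 52500 26049 552 54000 26797 552 h35 chk35
  have h37 := checkSteps_sound ladd (List.replicate 6 0) leq F Ev 10 1048576 tw γ hfree htw q0 words 552 hw steps36 54000 26797 552 55500 27546 552 h36 chk36
  have h38 := checkSteps_sound ladd (List.replicate 6 0) leq F Ev 10 1048576 tw γ hfree htw q0 words 552 hw steps37 55500 27546 552 57000 28289 552 h37 chk37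
  have h39 := checkSteps_sound ladd (List.replicate 6 0) leq F Ev 10 1048576 tw γ hfree htw q0 words 552 hw steps38 57000 28289 552 58500 29034 552 h38 chk38
  have h40 := checkSteps_sound ladd (List.replicate 6 0) leq F Ev 10 1048576 tw γ hfree htw q0 words 552 hw steps39 58500 29034 552 60000 29772 552 h39 chk39
  have h41 := checkSteps_sound ladd (List.replicate 6 0) leq F Ev 10 1048576 tw γ hfree htw q0 words 552 hw steps40 60000 29772 552 61500 30517 552 h40 chk40
  have h42 := checkSteps_sound ladd (List.replicate 6 0) leq F Ev 10 1048576 tw γ hfree htw q0 words 552 hw steps41 61500 30517 552 63000 31259 552 h41 chk41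
  have h43 := checkSteps_sound ladd (List.replicate 6 0) leq F Ev 10 1048576 tw γ hfree htw q0 words 552 hw steps42 63000 31259 552 64500 32002 552 h42 chk42
  have h44 := checkSteps_sound ladd (List.replicate 6 0) leq F Ev 10 1048576 tw γ hfree htw q0 words 552 hw steps43 64500 32002 552 66000 32744 552 h43 chk43
  have h45 := checkSteps_sound ladd (List.replicate 6 0) leq F Ev 10 1048576 tw γ hfree htw q0 words 552 hw steps44 66000 32744 552 67500 33491 552 h44 chk44
  have h46 := checkSteps_sound ladd (List.replicate 6 0) leq F Ev 10 1048576 tw γ hfree htw q0 words 552 hw steps45 67500 33491 552 69000 34237 552 h45 chk45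
  have h47 := checkSteps_sound ladd (List.replicate 6 0) leq F Ev 10 1048576 tw γ hfree htw q0 words 552 hw steps46 69000 34237 552 70500 34982 552 h46 chk46
  have h48 := checkSteps_sound ladd (List.replicate 6 0) leq F Ev 10 1048576 tw γ hfree htw q0 words 552 hw steps47 70500 34982 552 72000 35732 552 h47 chk47
  have h49 := checkSteps_sound ladd (List.replicate 6 0) leq F Ev 10 1048576 tw γ hfree htw q0 words 552 hw steps48 72000 35732 552 73500 36482 552 h48 chk48
  have h50 := checkSteps_sound ladd (List.replicate 6 0) leq F Ev 10 1048576 tw γ hfree htw q0 words 552 hw steps49 73500 36482 552 75000 37231 552 h49 chk49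
  have h51 := checkSteps_sound ladd (List.replicate 6 0) leq F Ev 10 1048576 tw γ hfree htw q0 words 552 hw steps50 75000 37231 552 76500 37977 552 h50 chk50
  have h52 := checkSteps_sound ladd (List.replicate 6 0) leq F Ev 10 1048576 tw γ hfree htw q0 words 552 hw steps51 76500 37977 552 78000 38725 552 h51 chk51
  have h53 := checkSteps_sound ladd (List.replicate 6 0) leq F Ev 10 1048576 tw γ hfree htw q0 words 552 hw steps52 78000 38725 552 79500 39471 552 h52 chk52
  have h54 := checkSteps_sound ladd (List.replicate 6 0) leq F Ev 10 1048576 tw γ hfree htw q0 words 552 hw steps53 79500 39471 552 81000 40221 552 h53 chk53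
  have h55 := checkSteps_sound ladd (List.replicate 6 0) leq F Ev 10 1048576 tw γ hfree htw q0 words 552 hw steps54 81000 40221 552 82500 40969 552 h54 chk54
  have h56 := checkSteps_sound ladd (List.replicate 6 0) leq F Ev 10 1048576 tw γ hfree htw q0 words 552 hw steps55 82500 40969 552 84000 41715 552 h55 chk55
  have h57 := checkSteps_sound ladd (List.replicate 6 0) leq F Ev 10 1048576 tw γ hfree htw q0 words 552 hw steps56 84000 41715 552 85500 42464 552 h56 chk56
  have h58 := checkSteps_sound ladd (List.replicate 6 0) leq F Ev 10 1048576 tw γ hfree htw q0 words 552 hw steps57 85500 42464 552 87000 43213 552 h57 chk57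
  have h59 := checkSteps_sound ladd (List.replicate 6 0) leq F Ev 10 1048576 tw γ hfree htw q0 words 552 hw steps58 87000 43213 552 88500 43959 552 h58 chk58
  have h60 := checkSteps_sound ladd (List.replicate 6 0) leq F Ev 10 1048576 tw γ hfree htw q0 words 552 hw steps59 88500 43959 552 90000 44707 552 h59 chk59
  have h61 := checkSteps_sound ladd (List.replicate 6 0) leq F Ev 10 1048576 tw γ hfree htw q0 words 552 hw steps60 90000 44707 552 91500 45453 552 h60 chk60
  have h62 := checkSteps_sound ladd (List.replicate 6 0) leq F Ev 10 1048576 tw γ hfree htw q0 words 552 hw steps61 91500 45453 552 93000 46197 552 h61 chk61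
  have h63 := checkSteps_sound ladd (List.replicate 6 0) leq F Ev 10 1048576 tw γ hfree htw q0 words 552 hw steps62 93000 46197 552 94500 46945 552 h62 chk62
  have h64 := checkSteps_sound ladd (List.replicate 6 0) leq F Ev 10 1048576 tw γ hfree htw q0 words 552 hw steps63 94500 46945 552 96000 47104 552 h63 chk63
  have h65 := checkSteps_sound ladd (List.replicate 6 0) leq F Ev 10 1048576 tw γ hfree htw q0 words 552 hw steps64 96000 47104 552 97500 47104 552 h64 chk64
  have h66 := checkSteps_sound ladd (List.replicate 6 0) leq F Ev 10 1048576 tw γ hfree htw q0 words 552 hw steps65 97500 47104 552 99000 47104 552 h65 chk65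
  have h67 := checkSteps_sound ladd (List.replicate 6 0) leq F Ev 10 1048576 tw γ hfree htw q0 words 552 hw steps66 99000 47104 552 100500 47104 552 h66 chk66
  have h68 := checkSteps_sound ladd (List.replicate 6 0) leq F Ev 10 1048576 tw γ hfree htw q0 words 552 hw steps67 100500 47104 552 102000 47104 552 h67 chk67
  have h69 := checkSteps_sound ladd (List.replicate 6 0) leq F Ev 10 1048576 tw γ hfree htw q0 words 552 hw steps68 102000 47104 552 103500 47104 552 h68 chk68
  have h70 := checkSteps_sound ladd (List.replicate 6 0) leq F Ev 10 1048576 tw γ hfree htw q0 words 552 hw steps69 103500 47104 552 104998 47104 554 h69 chk69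
  have h71 := checkSteps_sound ladd (List.replicate 6 0) leq F Ev 10 1048576 tw γ hfree htw q0 words 552 hw steps70 104998 47104 554 106498 47104 554 h70 chk70
  have h72 := checkSteps_sound ladd (List.replicate 6 0) leq F Ev 10 1048576 tw γ hfree htw q0 words 552 hw steps71 106498 47104 554 107998 47104 554 h71 chk71
  have h73 := checkSteps_sound ladd (List.replicate 6 0) leq F Ev 10 1048576 tw γ hfree htw q0 words 552 hw steps72 107998 47104 554 109498 47104 554 h72 chk72
  have h74 := checkSteps_sound ladd (List.replicate 6 0) leq F Ev 10 1048576 tw γ hfree htw q0 words 552 hw steps73 109498 47104 554 110998 47104 554 h73 chk73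
  have h75 := checkSteps_sound ladd (List.replicate 6 0) leq F Ev 10 1048576 tw γ hfree htw q0 words 552 hw steps74 110998 47104 554 112498 47104 554 h74 chk74
  have h76 := checkSteps_sound ladd (List.replicate 6 0) leq F Ev 10 1048576 tw γ hfree htw q0 words 552 hw steps75 112498 47104 554 113757 47104 562 h75 chk75
  exact h76

end Cfsg.Agent.Lib.H6.Co2M.CA
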